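import Mathlib.RingTheory.Smooth.NoetherianDescent
import Mathlib.AlgebraicGeometry.Morphisms.Etale
import Mathlib.AlgebraicGeometry.Morphisms.FinitePresentation
import Mathlib.AlgebraicGeometry.Limits
import Mathlib.AlgebraicGeometry.Pullbacks
import Mathlib.AlgebraicGeometry.Morphisms.Flat
import Mathlib.AlgebraicGeometry.Morphisms.UniversallyOpen

/-!
# Etale coverings of affine schemes come from models of finite presentation over `Spec ℤ`
-/

universe u

open CategoryTheory CategoryTheory.Limits AlgebraicGeometry TensorProduct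

set_option autoImplicit false
set_option linter.style.haveILetI false
set_option backward.isDefEq.respectTransparency false
set_option backward.isDefEq.respectTransparency.types false

noncomputable section

namespace Groth.L09.SpLimit

theorem lfp_terminal_spec (A : CommRingCat.{u}) [Algebra (ULift.{u} ℤ) A] [Algebra.FiniteType (ULift.{u} ℤ) A] :
    LocallyOfFinitePresentation (specULiftZIsTerminal.from (Spec A)) := by
  rw [show specULiftZIsTerminal.from (Spec A) = Spec.map (CommRingCat.ofHom (algebraMap (ULift.{u} ℤ) A)) from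
    specULiftZIsTerminal.hom_ext _ _]
  haveI : IsNoetherianRing (ULift.{u} ℤ) := isNoetherianRing_of_ringEquiv ℤ ULift.ringEquiv.symm
  refine (HasRingHomProperty.Spec_iff (P := @LocallyOfFinitePresentation)).2 ?_
  exact RingHom.FinitePresentation.of_finiteType.1 (RingHom.finiteType_algebraMap.2 inferInstance)

/-- An etale surjection of affine schemes has a model over a scheme of finite presentation over `ℤ`. -/
theorem exists_etale_model_spec {A B : CommRingCat.{u}} (χ : Spec B ⟶ Spec A) [Etale χ] [Surjective χ] :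
    ∃ (Z V : Scheme.{u}) (v : V ⟶ Z) (t : Spec A ⟶ Z) (w : Spec B ⟶ V),
      IsAffine Z ∧ IsAffine V ∧ Etale v ∧ Surjective v ∧
      LocallyOfFinitePresentation (specULiftZIsTerminal.from Z) ∧
      LocallyOfFinitePresentation (specULiftZIsTerminal.from V) ∧ IsPullback w χ v t := by
  classical
  obtain ⟨φ, rfl⟩ := Spec.map_surjective χ
  letI : Algebra (ULift.{u} ℤ) A := ((Int.castRingHom A).comp ULift.ringEquiv.toRingHom).toAlgebra
  letI : Algebra A B := φ.hom.toAlgebra
  have hφ : φ.hom.Etale := (HasRingHomProperty.Spec_iff (P := @Etale)).1 inferInstance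
  haveI : Algebra.Etale A B := hφ
  obtain ⟨A₀, B₀, _, _, hfg, het, ⟨e⟩⟩ := Algebra.Etale.exists_subalgebra_fg (R := ULift.{u} ℤ) (A := (A : Type u)) (B := (B : Type u))
  let v₀ : Spec (CommRingCat.of B₀) ⟶ Spec (CommRingCat.of A₀) := Spec.map (CommRingCat.ofHom (algebraMap A₀ B₀))
  let t₀ : Spec A ⟶ Spec (CommRingCat.of A₀) := Spec.map (CommRingCat.ofHom A₀.val.toRingHom)
  haveI : Etale v₀ := (HasRingHomProperty.Spec_iff (P := @Etale)).2 (RingHom.etale_algebraMap.2 het)
  have sq₀ : ∃ w₀, IsPullback w₀ (Spec.map φ) v₀ t₀ := by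
    let sqT := isPullback_SpecMap_of_isPushout _ _ _ _ (CommRingCat.isPushout_tensorProduct (↥A₀) (A : Type u) B₀)
    let ε : Spec (CommRingCat.of ((A : Type u) ⊗[↥A₀] B₀)) ≅ Spec B :=
      Scheme.Spec.mapIso (e.toRingEquiv.toCommRingCatIso).op
    refine ⟨ε.inv ≫ Spec.map (CommRingCat.ofHom (Algebra.TensorProduct.includeRight (R := A₀) (A := (A : Type u)) (B := B₀)).toRingHom), sqT.flip.of_iso ε (Iso.refl _) (Iso.refl _) (Iso.refl _) (by simp) ?_ (by simp [v₀]) ?_⟩
    · simp only [Iso.refl_hom, Category.comp_id, ε]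
      show Spec.map _ = Spec.map _ ≫ Spec.map φ
      rw [← Spec.map_comp]
      congr 1
      ext a
      exact (e.commutes a).symm
    · simp [t₀]
      rfl
  obtain ⟨w₀, sq₀⟩ := sq₀
  have hopen : IsOpen (Set.range v₀) := v₀.isOpenMap.isOpen_range
  obtain ⟨J, hJ⟩ := (PrimeSpectrum.isClosed_iff_zeroLocus_ideal (R := A₀) _).1 hopen.isClosed_compl
  have htop : J.map A₀.val.toRingHom = ⊤ := by
    by_contra hne
    obtain ⟨m, hm, hle⟩ := Ideal.exists_le_maximal _ hne
    let x : PrimeSpectrum A := ⟨m, hm.isPrime⟩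
    have hx : t₀ x ∈ PrimeSpectrum.zeroLocus (R := A₀) J := fun a ha =>
      hle (Ideal.mem_map_of_mem _ ha)
    rw [← hJ] at hx
    obtain ⟨y, hy⟩ := (Spec.map φ).surjective x
    exact hx ⟨w₀ y, by rw [← Scheme.Hom.comp_apply, sq₀.w, Scheme.Hom.comp_apply, hy]⟩
  obtain ⟨n, c, x, hx, hsum⟩ : ∃ (n : ℕ) (c : Fin n → A) (x : Fin n → A₀),
      (∀ k, x k ∈ J) ∧ ∑ k, c k * (x k : A) = 1 := by
    have h1 : (1 : A) ∈ Ideal.span (A₀.val.toRingHom '' (J : Set A₀)) := by
      show (1 : A) ∈ J.map A₀.val.toRingHom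
      rw [htop]; trivial
    rw [Ideal.span, Submodule.mem_span_set'] at h1
    obtain ⟨n, f, g, hfg'⟩ := h1
    choose x hx hxe using fun k => (g k).2
    exact ⟨n, f, x, hx, by rw [← hfg']; simp only [smul_eq_mul, ← hxe]; rfl⟩
  obtain ⟨G, hG⟩ := hfg
  let A₁ : Subalgebra (ULift.{u} ℤ) A := Algebra.adjoin _ ((↑(G ∪ Finset.univ.image c) : Set A))
  have hle : A₀ ≤ A₁ := by rw [← hG]; exact Algebra.adjoin_mono (by simp)
  have hc : ∀ k, c k ∈ A₁ := fun k => Algebra.subset_adjoin (by simp)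
  haveI : Algebra.FiniteType (ULift.{u} ℤ) A₁ := (Subalgebra.fg_iff_finiteType A₁).1 ⟨_, rfl⟩
  let i : A₀ →+* A₁ := (Subalgebra.inclusion hle).toRingHom
  let t₁ : Spec A ⟶ Spec (CommRingCat.of A₁) := Spec.map (CommRingCat.ofHom A₁.val.toRingHom)
  let r : Spec (CommRingCat.of A₁) ⟶ Spec (CommRingCat.of A₀) := Spec.map (CommRingCat.ofHom i)
  have htr : t₁ ≫ r = t₀ := by rw [← Spec.map_comp]; rfl
  have sqV := IsPullback.of_hasPullback v₀ r
  let w := sqV.lift w₀ (Spec.map φ ≫ t₁) (by rw [Category.assoc, htr, sq₀.w])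
  have hsurj : Surjective (pullback.snd v₀ r) := ⟨fun p => by
    have : r p ∈ Set.range v₀ := by
      by_contra hp
      have hp' : r p ∈ (Set.range v₀)ᶜ := hp
      rw [hJ] at hp'
      have h0 : ∀ k, i (x k) ∈ p.asIdeal := fun k => hp' (hx k)
      have : (1 : A₁) ∈ p.asIdeal := by
        have e1 : (1 : A₁) = ∑ k, ⟨c k, hc k⟩ * i (x k) := by
          apply Subtype.ext
          rw [AddSubmonoidClass.coe_finsetSum]
          exact hsum.symm
        rw [e1]
        exact sum_mem fun k _ => p.asIdeal.mul_mem_left _ (h0 k)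
      exact p.isPrime.ne_top ((Ideal.eq_top_iff_one _).2 this)
    obtain ⟨y, hy⟩ := this
    obtain ⟨z, -, hz⟩ := Scheme.Pullback.exists_preimage_pullback y p hy
    exact ⟨z, hz⟩⟩
  haveI : Etale (pullback.snd v₀ r) := MorphismProperty.pullback_snd (P := @Etale) _ _ inferInstance
  haveI hZ : LocallyOfFinitePresentation (specULiftZIsTerminal.from (Spec (CommRingCat.of A₁))) :=
    lfp_terminal_spec (CommRingCat.of A₁)
  refine ⟨_, pullback v₀ r, pullback.snd v₀ r, t₁, w, inferInstance, inferInstance, inferInstance, hsurj, hZ, ?_, ?_⟩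
  · rw [show specULiftZIsTerminal.from (pullback v₀ r) = pullback.snd v₀ r ≫ specULiftZIsTerminal.from _ from
      specULiftZIsTerminal.hom_ext _ _]
    infer_instance
  · refine IsPullback.of_right ?_ (sqV.lift_snd _ _ _) sqV
    rw [sqV.lift_fst, htr]
    exact sq₀

theorem exists_etale_model {T U : Scheme.{u}} [IsAffine T] [IsAffine U] (χ : U ⟶ T) [Etale χ] [Surjective χ] :
    ∃ (Z V : Scheme.{u}) (v : V ⟶ Z) (t : T ⟶ Z) (w : U ⟶ V),
      IsAffine Z ∧ IsAffine V ∧ Etale v ∧ Surjective v ∧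
      LocallyOfFinitePresentation (specULiftZIsTerminal.from Z) ∧
      LocallyOfFinitePresentation (specULiftZIsTerminal.from V) ∧ IsPullback w χ v t := by
  obtain ⟨Z, V, v, t, w, h₁, h₂, h₃, h₄, h₅, h₆, sq⟩ := exists_etale_model_spec (U.isoSpec.inv ≫ χ ≫ T.isoSpec.hom)
  refine ⟨Z, V, v, T.isoSpec.hom ≫ t, U.isoSpec.hom ≫ w, h₁, h₂, h₃, h₄, h₅, h₆, ?_⟩
  exact sq.of_iso U.isoSpec.symm (Iso.refl _) T.isoSpec.symm (Iso.refl _) (by simp) (by simp) (by simp) (by simp)

end Groth.L09.SpLimit
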