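import Groth.Agent.L09.SpLimit.System
import Groth.Agent.L09.LfpFppf.Bc
import Groth.Agent.L06.Spectral
import Groth.Agent.L23.Points
import Groth.Agent.L23.QsTop
import Groth.Agent.L23.FieldMono
import Groth.Agent.L23.LocP

/-!
# Points of limits of spaces with affine transition morphisms
-/

universe u

open CategoryTheory CategoryTheory.Limits AlgebraicGeometry Opposite AlgSp Topology

set_option autoImplicit false
set_option linter.style.haveILetI false
set_option linter.unusedSectionVars false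
set_option backward.isDefEq.respectTransparency false
set_option backward.isDefEq.respectTransparency.types false

noncomputable section

namespace Groth.L09.SpLimit

open Groth.L23

theorem range_pb {A B C E : Scheme.{u}} {l : A ⟶ B} {ε : A ⟶ C} {q : B ⟶ E} {g : C ⟶ E}
    (sq : IsPullback l ε q g) : Set.range ε = g ⁻¹' Set.range q := by
  rw [← sq.isoPullback_hom_snd, Scheme.Hom.comp_base, TopCat.coe_comp, Set.range_comp,
    Set.range_eq_univ.2 sq.isoPullback.hom.surjective, Set.image_univ, Scheme.Pullback.range_snd]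

theorem isClosed_cons_range {X Y : Scheme.{u}} [IsAffine X] [IsAffine Y] (f : X ⟶ Y) :
    IsClosed[constructibleTopology Y] (Set.range f) := by
  haveI : SpectralSpace X := {}
  haveI : SpectralSpace Y := {}
  haveI : QuasiCompact f := quasiCompact_of_compactSpace f
  have hf : IsSpectralMap f :=
    { toContinuous := f.continuous
      isCompact_preimage_of_isOpen := fun _ h₁ h₂ => QuasiCompact.isCompact_preimage _ h₁ h₂ }
  rw [← Set.image_univ]
  exact Groth.L06.Spectral.isClosed_cons_image hf (@isClosed_univ X (constructibleTopology X))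

variable {S : Scheme.{u}} {I : Type u} [SmallCategory I] [IsCofiltered I] {D : I ⥤ Sp S} {c : Cone D}

/-- An affine etale chart around a point. -/
theorem exists_chart_at {X : Sp S} (hX : IsAlgSpace X) (x : Points X) :
    ∃ (T : Over S) (a : (yon S).obj T ⟶ X) (t : ↥T.left),
      IsAffine T.left ∧ RepWith @Etale a ∧ Points.ofPt a t = x := by
  obtain ⟨U, b, hb, hbs⟩ := hX.atlas
  obtain ⟨u, rfl⟩ := surjective_ofPt hbs x
  obtain ⟨_, ⟨O, hO, rfl⟩, huO, -⟩ := U.left.isBasis_affineOpens.exists_subset_of_mem_open (Set.mem_univ u) isOpen_univ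
  let j : Over.mk (Scheme.Opens.ι O ≫ U.hom) ⟶ U := Over.homMk (Scheme.Opens.ι O) rfl
  refine ⟨_, (yon S).map j ≫ b, ⟨u, huO⟩, hO, repWith_comp ((repWith_yon_map_iff _ _).2 (inferInstanceAs (Etale (Scheme.Opens.ι O)))) hb, ?_⟩
  rw [ofPt_comp]
  rfl

variable {i₀ : I} {T : Over S} {a : (yon S).obj T ⟶ D.obj i₀} (s : Sys D c a)

/-- The squares over the stages. -/
theorem Sys.isPullback_π (j : Over i₀) :
    IsPullback s.l ((yon S).map (s.cone.π.app j)) (c.π.app j.left) (s.fj j) := by
  refine IsPullback.of_bot ?_ (s.hl j) (s.sq j)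
  rw [← Functor.map_comp, s.hq, c.w]
  exact s.sql

theorem nonempty_points (hD : ∀ i, IsAlgSpace (D.obj i))
    (hDa : ∀ (i j : I) (φ : i ⟶ j), IsAffineMor (D.map φ)) (hc : IsLimit c)
    (hqc : ∀ i, IsQuasiCompactSp (D.obj i)) (hne : ∀ i, Nonempty (Points (D.obj i))) :
    Nonempty (Points c.pt) := by
  obtain ⟨i₀⟩ := IsCofiltered.nonempty (C := I)
  obtain ⟨T, a, hT, ha, has⟩ := Qs.exists_affine_atlas (hD i₀) (hqc i₀)
  haveI := hT
  obtain ⟨s⟩ := exists_sys hDa hc a
  let E := s.W ⋙ Over.forget S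
  haveI : ∀ j, IsAffine (E.obj j) := s.aff
  haveI : ∀ {j k : Over i₀} (φ : j ⟶ k), IsAffineHom (E.map φ) := fun φ => isAffineHom_of_isAffine _
  haveI : ∀ j, Nonempty (E.obj j) := fun j => by
    obtain ⟨x⟩ := hne j.left
    obtain ⟨t, ht⟩ := surjective_ofPt has (Points.map (D.map j.hom) x)
    obtain ⟨w, -, -⟩ := exists_point_of_isPullback (s.sq j) ht.symm
    exact ⟨w⟩
  obtain ⟨v⟩ := Scheme.nonempty_of_isLimit E _ s.isLimit
  exact ⟨Points.ofPt s.l v⟩

theorem topology_eq (hD : ∀ i, IsAlgSpace (D.obj i))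
    (hDa : ∀ (i j : I) (φ : i ⟶ j), IsAffineMor (D.map φ)) (hc : IsLimit c) :
    Points.topologicalSpace c.pt =
      ⨅ i, TopologicalSpace.induced (Points.map (c.π.app i)) (Points.topologicalSpace (D.obj i)) := by
  refine le_antisymm (le_iInf fun i => continuous_iff_le_induced.1 (Points.continuous_map _)) ?_
  intro W hW
  rw [@isOpen_iff_forall_mem_open _ (⨅ i, TopologicalSpace.induced (Points.map (c.π.app i))
    (Points.topologicalSpace (D.obj i))) W]
  intro x hx
  obtain ⟨i₀⟩ := IsCofiltered.nonempty (C := I)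
  obtain ⟨T, a, t, hT, ha, hat⟩ := exists_chart_at (hD i₀) (Points.map (c.π.app i₀) x)
  haveI := hT
  obtain ⟨s⟩ := exists_sys hDa hc a
  obtain ⟨v, hv, -⟩ := exists_point_of_isPullback s.sql hat.symm
  obtain ⟨_, ⟨U, hU, rfl⟩, hvU, hUW⟩ := s.cone.pt.left.isBasis_affineOpens.exists_subset_of_mem_open
    (show v ∈ Points.ofPt s.l ⁻¹' W by simpa [hv] using hx)
    ((hW : IsOpen W).preimage (Points.continuous_ofPt s.l))
  let E := s.W ⋙ Over.forget S
  haveI : ∀ j, IsAffine (E.obj j) := s.aff
  haveI : ∀ {j k : Over i₀} (φ : j ⟶ k), IsAffineHom (E.map φ) := fun φ => isAffineHom_of_isAffine _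
  obtain ⟨j, V₀, -, hV⟩ := exists_preimage_eq E ((Over.forget S).mapCone s.cone) s.isLimit U hU.isCompact
  let V : (s.W.obj j).left.Opens := V₀
  have hfj : RepWith @Etale (s.fj j) := repWith_of_isPullback (s.sq j).flip ha
  let V' : Set (Points (D.obj j.left)) := Points.ofPt (s.fj j) '' (V : Set (s.W.obj j).left)
  refine ⟨Points.map (c.π.app j.left) ⁻¹' V', ?_, ?_, ?_⟩
  · rintro y ⟨w, hw, hwy⟩
    obtain ⟨v', hv', hv''⟩ := exists_point_of_isPullback (s.isPullback_π j) hwy.symm
    rw [← hv']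
    refine hUW ?_
    show v' ∈ U
    rw [← hV]
    show (s.cone.π.app j).left v' ∈ V
    exact (congrArg (fun p : (s.W.obj j).left => p ∈ V) hv'').mpr hw
  · exact iInf_le (fun i => TopologicalSpace.induced (Points.map (c.π.app i)) (Points.topologicalSpace (D.obj i)))
      j.left _ (isOpen_induced_iff.2 ⟨V', isOpenMap_ofPt hfj _ V.isOpen, rfl⟩)
  · refine ⟨(s.cone.π.app j).left v, ?_, ?_⟩
    · have : v ∈ U := hvU
      rw [← hV] at this
      exact this
    · rw [← hv, map_ofPt_of_isPullback (s.isPullback_π j)]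
      rfl

/-- The fibre of a chart over a point of a decent space is the image of an affine scheme. -/
theorem exists_affine_fibre {X : Sp S} (hdec : IsDecent X) {T : Over S} [IsAffine T.left] (f : (yon S).obj T ⟶ X)
    (y : Points X) :
    ∃ (A : Over S) (q : A ⟶ T), IsAffine A.left ∧ Set.range q.left = {w : T.left | Points.ofPt f w = y} := by
  obtain ⟨p, hp, hpm, hpq⟩ := hdec y
  let P := hpq.1.pullback f
  let r : P ⟶ T := hpq.1.snd f
  have sqP := hpq.1.isPullback f
  haveI : QuasiCompact r.left := repWith_prop hpq sqP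
  haveI : CompactSpace P.left := QuasiCompact.compactSpace_of_compactSpace r.left
  let 𝒰 := P.left.affineCover.finiteSubcover
  haveI : Finite 𝒰.I₀ := inferInstance
  let π : (∐ fun k => 𝒰.X k) ⟶ P.left := Sigma.desc 𝒰.f
  haveI : ∀ k, IsAffine (𝒰.X k) := fun k => inferInstanceAs (IsAffine (P.left.affineCover.X _))
  haveI : IsAffine (∐ fun k => 𝒰.X k) := inferInstance
  refine ⟨Over.mk (π ≫ P.hom), Over.homMk π rfl ≫ r, inferInstanceAs (IsAffine (∐ fun k => 𝒰.X k)), ?_⟩
  ext w
  constructor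
  · rintro ⟨z, rfl⟩
    show Points.ofPt f (r.left (π z)) = y
    rw [← map_ofPt_of_isPullback sqP, ← hp, ← Points.ofPt_toHom p (IsLocalRing.closedPoint p.K), Points.map_ofPt,
      ← Points.map_ofPt, Points.ofPt_eq_map_ofScheme p.toHom]
    congr 1
    exact (Points.schemeEquiv p.pt).symm.injective (Subsingleton.elim (α := PrimeSpectrum p.K) _ _)
  · intro hw
    have hcl : Points.map p.toHom (Points.ofScheme p.pt (IsLocalRing.closedPoint p.K)) = y := by
      rw [← Points.ofPt_eq_map_ofScheme, Points.ofPt_toHom p, hp]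
    obtain ⟨z, -, hz⟩ := exists_point_of_isPullback sqP (hcl.trans hw.symm)
    obtain ⟨k, y, hy⟩ := 𝒰.exists_eq z
    refine ⟨Sigma.ι (fun k => 𝒰.X k) k y, ?_⟩
    show r.left (π _) = w
    rw [← Scheme.Hom.comp_apply, ← Scheme.Hom.comp_apply, Sigma.ι_desc_assoc, Scheme.Hom.comp_apply, hy]
    exact hz

/-- An affine image meeting all stages meets the limit, in a constructibly closed set. -/
theorem nonempty_closed_preimage {J : Type u} [SmallCategory J] [IsCofiltered J] (W : J ⥤ Over S)
    {cW : Cone W} (hW : ∀ j, IsAffine (W.obj j).left) (hl : IsLimit ((Over.forget S).mapCone cW))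
    (hpt : IsAffine cW.pt.left) {j : J} {A : Over S} [IsAffine A.left] (q : A ⟶ W.obj j)
    (h : ∀ k : Over j, ∃ w : (W.obj k.left).left, (W.map k.hom).left w ∈ Set.range q.left) :
    ((cW.π.app j).left ⁻¹' Set.range q.left).Nonempty ∧
      IsClosed[constructibleTopology cW.pt.left] ((cW.π.app j).left ⁻¹' Set.range q.left) := by
  have sq := IsPullback.of_hasPullback q (cW.π.app j)
  obtain ⟨hl'⟩ := LfpFppf.isLimit_bcCone sq hl
  let E := LfpFppf.bcSys q ⋙ Over.forget S
  haveI : ∀ k, IsAffine (E.obj k) := LfpFppf.isAffine_bc q hW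
  haveI : ∀ {k k' : Over j} (φ : k ⟶ k'), IsAffineHom (E.map φ) := fun φ => isAffineHom_of_isAffine _
  haveI : IsAffine (pullback q (cW.π.app j)).left := LfpFppf.isAffine_of_isPullback_stage q hW hpt sq
  haveI : ∀ k, Nonempty (E.obj k) := fun k => by
    obtain ⟨w, y, hy⟩ := h k
    obtain ⟨z, -, -⟩ := Scheme.Pullback.exists_preimage_pullback y w hy
    exact ⟨((LfpFppf.isPullback_bc q k).map (Over.forget S)).isoPullback.inv z⟩
  obtain ⟨v⟩ := Scheme.nonempty_of_isLimit E _ hl'
  have hr := range_pb (sq.map (Over.forget S))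
  refine ⟨⟨_, hr.subset ⟨v, rfl⟩⟩, ?_⟩
  haveI : IsAffine cW.pt.left := hpt
  exact hr ▸ isClosed_cons_range (X := (pullback q (cW.π.app j)).left) (Y := cW.pt.left)
    (pullback.snd q (cW.π.app j)).left

theorem exists_point (hD : ∀ i, IsAlgSpace (D.obj i))
    (hDa : ∀ (i j : I) (φ : i ⟶ j), IsAffineMor (D.map φ)) (hc : IsLimit c) (hdec : ∀ i, IsDecent (D.obj i))
    (σ : ∀ i, Points (D.obj i)) (hσ : ∀ (i j : I) (φ : i ⟶ j), Points.map (D.map φ) (σ i) = σ j) :
    ∃ x : Points c.pt, ∀ i, Points.map (c.π.app i) x = σ i := by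
  obtain ⟨i₀⟩ := IsCofiltered.nonempty (C := I)
  obtain ⟨T, a, t, hT, ha, hat⟩ := exists_chart_at (hD i₀) (σ i₀)
  haveI := hT
  obtain ⟨s⟩ := exists_sys hDa hc a
  haveI : ∀ j, IsAffine ((s.W ⋙ Over.forget S).obj j) := s.aff
  haveI : IsAffine s.cone.pt.left := Scheme.isAffine_of_isLimit (I := Over i₀) (D := s.W ⋙ Over.forget S)
    _ s.isLimit
  haveI : SpectralSpace s.cone.pt.left := {}
  haveI : Nonempty (Over i₀) := ⟨Over.mk (𝟙 i₀)⟩
  let F := fun j : Over i₀ => {w : (s.W.obj j).left | Points.ofPt (s.fj j) w = σ j.left}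
  have hF : ∀ j, ∃ (A : Over S) (q : A ⟶ s.W.obj j), IsAffine A.left ∧ Set.range q.left = F j := fun j => by
    haveI := s.aff j
    exact exists_affine_fibre (hdec j.left) (s.fj j) (σ j.left)
  have hmono : ∀ {j k : Over i₀} (φ : j ⟶ k),
      (s.cone.π.app j).left ⁻¹' F j ⊆ (s.cone.π.app k).left ⁻¹' F k := by
    intro j k φ v hv
    show Points.ofPt (s.fj k) ((s.cone.π.app k).left v) = σ k.left
    rw [← s.cone.w φ, Over.comp_left, Scheme.Hom.comp_apply, ← ofPt_comp (s.W.map φ) (s.fj k), s.map_fj φ,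
      ← Points.map_ofPt]
    exact (congrArg _ hv).trans (hσ _ _ _)
  have hne : ∀ j, ((s.cone.π.app j).left ⁻¹' F j).Nonempty ∧
      IsClosed[constructibleTopology s.cone.pt.left] ((s.cone.π.app j).left ⁻¹' F j) := by
    intro j
    obtain ⟨A, q, hA, hq⟩ := hF j
    haveI := hA
    obtain ⟨h₁, h₂⟩ := nonempty_closed_preimage s.W s.aff s.isLimit ‹_› q fun k => by
      have hk : Points.map (D.map k.left.hom) (σ k.left.left) = Points.ofPt a t :=
        (hσ _ _ k.left.hom).trans hat.symm
      obtain ⟨w, hw, -⟩ := exists_point_of_isPullback (s.sq k.left) hk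
      have hwj : (s.W.map k.hom).left w ∈ F j := by
        show Points.ofPt (s.fj j) _ = σ j.left
        rw [← ofPt_comp (s.W.map k.hom) (s.fj j), s.map_fj k.hom, ← Points.map_ofPt, hw]
        exact hσ _ _ _
      exact ⟨w, hq ▸ hwj⟩
    rw [hq] at h₁ h₂
    exact ⟨h₁, h₂⟩
  let Z : Over i₀ → Set s.cone.pt.left := fun j => (s.cone.π.app j).left ⁻¹' F j
  have hdir : Directed (· ⊇ ·) Z := fun j k =>
    ⟨IsCofiltered.min j k, hmono (IsCofiltered.minToLeft j k), hmono (IsCofiltered.minToRight j k)⟩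
  obtain ⟨v, hv⟩ := Groth.L06.Spectral.nonempty_iInter_cons (X := s.cone.pt.left) Z hdir
    (fun j => (hne j).1) (fun j => (hne j).2)
  refine ⟨Points.ofPt s.l v, fun i => ?_⟩
  obtain ⟨k, φ, ψ, -⟩ := IsCofilteredOrEmpty.cone_objs i₀ i
  rw [← c.w ψ, Points.map_comp, ← hσ k i ψ]
  exact congrArg _ ((map_ofPt_of_isPullback (s.isPullback_π (Over.mk φ)) v).trans (Set.mem_iInter.1 hv (Over.mk φ)))

theorem eq_of_map_eq (hc : IsLimit c) (hdec : ∀ i, IsDecent (D.obj i))
    (x x' : Points c.pt) (h : ∀ i, Points.map (c.π.app i) x = Points.map (c.π.app i) x') : x = x' := by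
  obtain ⟨i₀⟩ := IsCofiltered.nonempty (C := I)
  obtain ⟨p, rfl⟩ := Points.mk_surjective x
  obtain ⟨p', rfl⟩ := Points.mk_surjective x'
  choose r hr hrm hrq using fun j : Over i₀ => hdec j.left (Points.map (c.π.app j.left) (Points.mk p))
  haveI := hrm
  have hfac : ∀ (j : Over i₀) (q : FieldPt c.pt),
      Points.map (c.π.app j.left) (Points.mk q) = Points.mk (r j) →
      ∃ g : q.pt ⟶ (r j).pt, (yon S).map g ≫ (r j).toHom = q.toHom ≫ c.π.app j.left := by
    intro j q hq
    let ξ := q.toHom ≫ c.π.app j.left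
    let P := (hrq j).1.pullback ξ
    let t : P ⟶ q.pt := (hrq j).1.snd ξ
    have sq := (hrq j).1.isPullback ξ
    haveI : Mono ((yon S).map t) := sq.mono_snd_of_mono
    haveI : Mono t := (yon S).mono_of_mono_map ‹_›
    haveI : Mono t.left := inferInstanceAs (Mono ((Over.forget S).map t))
    have e : Points.map (r j).toHom (Points.ofScheme (r j).pt (IsLocalRing.closedPoint (r j).K)) =
        Points.ofPt ξ (IsLocalRing.closedPoint q.K) := by
      rw [← Points.ofPt_eq_map_ofScheme, Points.ofPt_toHom (r j), ← Points.map_ofPt, Points.ofPt_toHom q, hq]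
    obtain ⟨z, -, -⟩ := exists_point_of_isPullback sq e
    haveI : IsIso t.left := Groth.L23.isIso_of_mono_to_field t.left z
    haveI : IsIso ((Over.forget S).map t) := ‹IsIso t.left›
    haveI : IsIso t := isIso_of_reflects_iso t (Over.forget S)
    obtain ⟨g, hg⟩ := (yon S).map_surjective ((yon S).map (inv t) ≫ (hrq j).1.fst ξ)
    refine ⟨g, ?_⟩
    rw [hg, Category.assoc, sq.w, ← Functor.map_comp_assoc, IsIso.inv_hom_id, CategoryTheory.Functor.map_id,
      Category.id_comp]
  choose g hg using fun j => hfac j p (hr j).symm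
  choose g' hg' using fun j => hfac j p' ((h j.left).symm.trans (hr j).symm)
  let Φ := fun j => pullback (g j) (g' j)
  haveI haff : ∀ j, IsAffine (Φ j).left := fun j => by
    haveI : IsAffineHom (g' j).left := isAffineHom_of_isAffine (X := Spec _) (Y := Spec _) (g' j).left
    haveI : IsAffineHom (pullback.fst (g j) (g' j)).left :=
      MorphismProperty.of_isPullback ((IsPullback.of_hasPullback (g j) (g' j)).flip.map (Over.forget S))
        (inferInstanceAs (IsAffineHom (g' j).left))
    haveI : IsAffine p.pt.left := inferInstanceAs (IsAffine (Spec (CommRingCat.of p.K)))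
    exact isAffine_of_isAffineHom (pullback.fst (g j) (g' j)).left
  have hΦ : ∀ j, (yon S).map (pullback.fst (g j) (g' j)) ≫ p.toHom ≫ c.π.app j.left =
      (yon S).map (pullback.snd (g j) (g' j)) ≫ p'.toHom ≫ c.π.app j.left := fun j => by
    rw [← hg, ← hg', ← Functor.map_comp_assoc, ← Functor.map_comp_assoc, pullback.condition]
  have hle : ∀ {j k : Over i₀} (φ : j ⟶ k), ∃ m : Φ j ⟶ Φ k,
      m ≫ pullback.fst (g k) (g' k) = pullback.fst (g j) (g' j) ∧
      m ≫ pullback.snd (g k) (g' k) = pullback.snd (g j) (g' j) := by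
    intro j k φ
    refine ⟨pullback.lift (pullback.fst _ _) (pullback.snd _ _) ?_, pullback.lift_fst _ _ _, pullback.lift_snd _ _ _⟩
    apply (yon S).map_injective
    rw [← cancel_mono (r k).toHom, Functor.map_comp, Functor.map_comp, Category.assoc, Category.assoc, hg, hg',
      ← c.w φ.left, ← Category.assoc p.toHom, ← Category.assoc p'.toHom, ← Category.assoc, hΦ j, Category.assoc]
  choose m hm₁ hm₂ using @hle
  let top : Over i₀ := Over.mk (𝟙 i₀)
  let e := fun j : Over i₀ => m (Over.homMk j.hom : j ⟶ top)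
  haveI : Nonempty (Over i₀) := ⟨top⟩
  have he' : ∀ {j k : Over i₀} (φ : j ⟶ k), m φ ≫ e k = e j := fun φ => by
    apply pullback.hom_ext <;> simp only [e, Category.assoc, hm₁, hm₂]
  haveI : SpectralSpace (Φ top).left := {}
  obtain ⟨z, hz⟩ := Groth.L06.Spectral.nonempty_iInter_cons (fun j : Over i₀ => Set.range (e j).left)
    (fun j k => ⟨IsCofiltered.min j k, by
      constructor
      · rintro _ ⟨y, rfl⟩
        refine ⟨(m (IsCofiltered.minToLeft j k)).left y, ?_⟩
        exact congrArg (fun f : Φ (IsCofiltered.min j k) ⟶ Φ top => f.left y) (he' (IsCofiltered.minToLeft j k))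
      · rintro _ ⟨y, rfl⟩
        refine ⟨(m (IsCofiltered.minToRight j k)).left y, ?_⟩
        exact congrArg (fun f : Φ (IsCofiltered.min j k) ⟶ Φ top => f.left y) (he' (IsCofiltered.minToRight j k))⟩)
    (fun j => by
      haveI : Subsingleton ↥(r j).pt.left := inferInstanceAs (Subsingleton (PrimeSpectrum (r j).K))
      obtain ⟨y, -, -⟩ := Scheme.Pullback.exists_preimage_pullback (f := (g j).left) (g := (g' j).left)
        (IsLocalRing.closedPoint p.K) (IsLocalRing.closedPoint p'.K) (Subsingleton.elim _ _)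
      exact ⟨_, ((IsPullback.of_hasPullback (g j) (g' j)).map (Over.forget S)).isoPullback.inv y, rfl⟩)
    (fun j => isClosed_cons_range _)
  let Z : Over S := Over.mk ((Φ top).left.fromSpecResidueField z ≫ (Φ top).hom)
  let ι : Z ⟶ Φ top := Over.homMk ((Φ top).left.fromSpecResidueField z) rfl
  let a₁ : Z ⟶ p.pt := ι ≫ pullback.fst _ _
  let a₂ : Z ⟶ p'.pt := ι ≫ pullback.snd _ _
  have key : ∀ j : Over i₀, (yon S).map a₁ ≫ p.toHom ≫ c.π.app j.left = (yon S).map a₂ ≫ p'.toHom ≫ c.π.app j.left := by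
    intro j
    haveI : Mono (e j) := ⟨fun u v huv => by
      apply pullback.hom_ext
      · simpa [e, hm₁] using huv =≫ pullback.fst (g top) (g' top)
      · simpa [e, hm₂] using huv =≫ pullback.snd (g top) (g' top)⟩
    haveI : Mono (e j).left := inferInstanceAs (Mono ((Over.forget S).map (e j)))
    obtain ⟨y, hy⟩ := Set.mem_iInter.1 hz j
    obtain ⟨w, -, -⟩ := Scheme.Pullback.exists_preimage_pullback
      (f := (Φ top).left.fromSpecResidueField z) (g := (e j).left)
      (IsLocalRing.closedPoint ((Φ top).left.residueField z)) y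
      ((Scheme.fromSpecResidueField_apply z _).trans hy.symm)
    let π₁ := Limits.pullback.fst ((Φ top).left.fromSpecResidueField z) (e j).left
    haveI : IsIso π₁ := Groth.L23.isIso_of_mono_to_field π₁ w
    let n₀ := inv π₁ ≫ Limits.pullback.snd _ _
    have hn₀ : n₀ ≫ (e j).left = (Φ top).left.fromSpecResidueField z := by
      simp only [n₀, Category.assoc, ← pullback.condition]
      exact IsIso.inv_hom_id_assoc π₁ _
    let n : Z ⟶ Φ j := Over.homMk n₀ (by
      show n₀ ≫ (Φ j).hom = (Φ top).left.fromSpecResidueField z ≫ (Φ top).hom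
      exact ((congrArg (· ≫ (Φ top).hom) hn₀).symm.trans ((Category.assoc _ _ _).trans
        (congrArg (n₀ ≫ ·) (Over.w (e j))))).symm)
    have hn : n ≫ e j = ι := Over.OverMorphism.ext hn₀
    simp only [a₁, a₂, ← hn, e, Category.assoc, hm₁, hm₂]
    rw [Functor.map_comp, Functor.map_comp, Category.assoc, Category.assoc, hΦ]
  have hc' : IsLimit (c.whisker (Over.forget i₀)) :=
    (Functor.Initial.isLimitWhiskerEquiv (Over.forget i₀) c).symm hc
  have he : (yon S).map a₁ ≫ p.toHom = (yon S).map a₂ ≫ p'.toHom := hc'.hom_ext fun j => by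
    simpa [Category.assoc] using key j
  let ζ : Z.left := IsLocalRing.closedPoint ((Φ top).left.residueField z)
  rw [← Points.ofPt_toHom p (a₁.left ζ), ← Points.ofPt_toHom p' (a₂.left ζ), ← ofPt_comp, ← ofPt_comp, he]

end Groth.L09.SpLimit
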