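import Groth.Agent.L09.SpLimit.Points
import Groth.Agent.L23.RedInd
import Groth.Agent.L09.Gerbe.Scheme

/-!
# Closures of points in limits
-/

universe u

open CategoryTheory CategoryTheory.Limits AlgebraicGeometry Opposite AlgSp Topology

set_option autoImplicit false
set_option linter.style.haveILetI false
set_option linter.unusedSectionVars false
set_option backward.isDefEq.respectTransparency false
set_option backward.isDefEq.respectTransparency.types false

noncomputable section

namespace Groth.L09.SpLimit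

open Groth.L23

variable {S : Scheme.{u}}

theorem isReduced_chart {X : Sp S} (h : IsReducedSp X) {W : Over S} {e : (yon S).obj W ⟶ X}
    (he : RepWith @Etale e) : IsReduced W.left := by
  obtain ⟨V, b, hb, hbs, hV⟩ := h
  haveI : IsReduced V.left := hV
  obtain ⟨P, p, q, sq⟩ := exists_isPullback_of_representable he.1 b
  haveI : Etale q.left := repWith_prop he sq
  haveI : IsReduced P.left := isReduced_of_etale q.left
  haveI : Etale p.left := repWith_prop hb sq.flip
  haveI : Surjective p.left := repWith_prop hbs sq.flip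
  exact Groth.L20.isReduced_of_surjective_of_flat p.left

theorem isReducedSp_yon {W : Over S} [IsReduced W.left] : IsReducedSp ((yon S).obj W) :=
  ⟨W, 𝟙 _, repWith_of_isIso _, repWith_of_isIso _, ‹_›⟩

variable {I : Type u} [SmallCategory I] [IsCofiltered I] {D : I ⥤ Sp S} {c : Cone D}

theorem exists_stage_nhd (hD : ∀ i, IsAlgSpace (D.obj i))
    (hDa : ∀ (i j : I) (φ : i ⟶ j), IsAffineMor (D.map φ)) (hc : IsLimit c) {W : Set (Points c.pt)}
    (hW : IsOpen W) {x : Points c.pt} (hx : x ∈ W) :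
    ∃ (i : I) (V : Set (Points (D.obj i))), IsOpen V ∧ Points.map (c.π.app i) x ∈ V ∧
      Points.map (c.π.app i) ⁻¹' V ⊆ W := by
  obtain ⟨i₀⟩ := IsCofiltered.nonempty (C := I)
  obtain ⟨T, a, t, hT, ha, hat⟩ := exists_chart_at (hD i₀) (Points.map (c.π.app i₀) x)
  haveI := hT
  obtain ⟨s⟩ := exists_sys hDa hc a
  obtain ⟨v, hv, -⟩ := exists_point_of_isPullback s.sql hat.symm
  obtain ⟨_, ⟨U, hU, rfl⟩, hvU, hUW⟩ := s.cone.pt.left.isBasis_affineOpens.exists_subset_of_mem_open
    (show v ∈ Points.ofPt s.l ⁻¹' W by simpa [hv] using hx) (hW.preimage (Points.continuous_ofPt s.l))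
  let E := s.W ⋙ Over.forget S
  haveI : ∀ j, IsAffine (E.obj j) := s.aff
  haveI : ∀ {j k : Over i₀} (φ : j ⟶ k), IsAffineHom (E.map φ) := fun φ => isAffineHom_of_isAffine _
  obtain ⟨j, V₀, -, hV⟩ := exists_preimage_eq E ((Over.forget S).mapCone s.cone) s.isLimit U hU.isCompact
  let V : (s.W.obj j).left.Opens := V₀
  have hfj : RepWith @Etale (s.fj j) := repWith_of_isPullback (s.sq j).flip ha
  refine ⟨j.left, Points.ofPt (s.fj j) '' (V : Set (s.W.obj j).left), isOpenMap_ofPt hfj _ V.isOpen, ?_, ?_⟩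
  · refine ⟨(s.cone.π.app j).left v, ?_, ?_⟩
    · have : v ∈ U := hvU
      rw [← hV] at this
      exact this
    · rw [← hv, map_ofPt_of_isPullback (s.isPullback_π j)]
      rfl
  · rintro y ⟨w, hw, hwy⟩
    obtain ⟨v', hv', hv''⟩ := exists_point_of_isPullback (s.isPullback_π j) hwy.symm
    rw [← hv']
    refine hUW ?_
    show v' ∈ U
    rw [← hV]
    show (s.cone.π.app j).left v' ∈ V
    exact (congrArg (fun p : (s.W.obj j).left => p ∈ V) hv'').mpr hw

theorem closure_point_eq (hD : ∀ i, IsAlgSpace (D.obj i))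
    (hDa : ∀ (i j : I) (φ : i ⟶ j), IsAffineMor (D.map φ)) (hc : IsLimit c) (x : Points c.pt) :
    closure {x} = {x' | ∀ i, Points.map (c.π.app i) x' ∈ closure {Points.map (c.π.app i) x}} := by
  refine Set.Subset.antisymm (fun x' hx' i => ?_) fun x' hx' => ?_
  · exact (Set.image_singleton (f := Points.map (c.π.app i)) (a := x)) ▸
      image_closure_subset_closure_image (Points.continuous_map _) ⟨x', hx', rfl⟩
  · rw [mem_closure_iff]
    intro W hW hxW
    obtain ⟨i, V, hV, hxV, hVW⟩ := exists_stage_nhd hD hDa hc hW hxW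
    obtain ⟨_, hy, rfl⟩ := mem_closure_iff.1 (hx' i) V hV hxV
    exact ⟨x, hVW hy, rfl⟩

/-- Descent of a factorisation through a monomorphism along a covering. -/
theorem exists_section_of_cover {P T : Over S} (k : P ⟶ T) [Mono k] {R : Sieve T} (hR : R ∈ AlgSp.J S T)
    (h : ∀ ⦃E : Over S⦄ (e : E ⟶ T), R e → ∃ d : E ⟶ P, d ≫ k = e) : IsIso k := by
  obtain ⟨T', q, d, hfl, hfp, hs, hd⟩ := Groth.L09.Gerbe.exists_fppf_section k hR h
  haveI := hfl; haveI := hfp; haveI := hs
  haveI : Mono k.left := inferInstanceAs (Mono ((Over.forget S).map k))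
  haveI : StrongEpi (d.left ≫ k.left) := by
    rw [← Over.comp_left, hd]
    infer_instance
  haveI : StrongEpi k.left := strongEpi_of_strongEpi d.left k.left
  haveI : IsIso ((Over.forget S).map k) := isIso_of_mono_of_strongEpi k.left
  exact isIso_of_reflects_iso k (Over.forget S)

theorem isIso_of_mono_of_lifts_yon {Y Z : Sp S} (m : Y ⟶ Z) [Mono m]
    (h : ∀ {T : Over S} (z : (yon S).obj T ⟶ Z), ∃ y, y ≫ m = z) : IsIso m := by
  haveI : Sheaf.IsLocallySurjective m := ⟨fun {U} z => (AlgSp.J S).superset_covering (fun V f _ => by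
    obtain ⟨y, hy⟩ := h ((AlgSp.J S).uliftYonedaEquiv.symm z)
    refine ⟨Y.obj.map f.op ((AlgSp.J S).uliftYonedaEquiv y), ?_⟩
    rw [NatTrans.naturality_apply]
    refine congrArg _ ?_
    exact ((GrothendieckTopology.uliftYonedaEquiv_comp _ y m).symm.trans (congrArg _ hy)).trans
      (Equiv.apply_symm_apply _ _)) ((AlgSp.J S).top_mem _)⟩
  exact isIso_of_mono_of_epi m

variable {Z : Sp S} {zι : Z ⟶ c.pt} {DZ : I ⥤ Sp S} {ι : DZ ⟶ D} {x : Points c.pt}

theorem exists_chart_factor (hD : ∀ i, IsAlgSpace (D.obj i))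
    (hDa : ∀ (i j : I) (φ : i ⟶ j), IsAffineMor (D.map φ)) (hc : IsLimit c)
    (hz : IsRedInduced (closure {x}) zι) (hι : ∀ i, IsRedInduced (closure {Points.map (c.π.app i) x}) (ι.app i))
    {i₀ : I} {T : Over S} [IsAffine T.left] {a : (yon S).obj T ⟶ D.obj i₀} (ha : RepWith @Etale a) (s : Sys D c a)
    {E : Over S} (g : E ⟶ s.cone.pt)
    (h : ∀ j : Over i₀, ∃ u : (yon S).obj E ⟶ DZ.obj j.left,
      u ≫ ι.app j.left = (yon S).map (g ≫ s.cone.π.app j) ≫ s.fj j) :
    ∃ y : (yon S).obj E ⟶ Z, y ≫ zι = (yon S).map g ≫ s.l := by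
  let P := fun j : Over i₀ => (hι j.left).1.1.pullback (s.fj j)
  let k : ∀ j, P j ⟶ s.W.obj j := fun j => (hι j.left).1.1.snd (s.fj j)
  let zf : ∀ j, (yon S).obj (P j) ⟶ DZ.obj j.left := fun j => (hι j.left).1.1.fst (s.fj j)
  have sq : ∀ j, IsPullback (zf j) ((yon S).map (k j)) (ι.app j.left) (s.fj j) := fun j =>
    (hι j.left).1.1.isPullback (s.fj j)
  haveI hk : ∀ j, IsClosedImmersion (k j).left := fun j => repWith_prop (hι j.left).1 (sq j)
  haveI : ∀ j, Mono (k j) := fun j => (Over.forget S).mono_of_mono_map (inferInstanceAs (Mono (k j).left))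
  haveI hPa : ∀ j, IsAffine (P j).left := fun j => by
    haveI := s.aff j
    exact isAffine_of_isAffineHom (k j).left
  haveI hPr : ∀ j, IsReduced (P j).left := fun j =>
    isReduced_chart (hι j.left).2.2 (repWith_of_isPullback (sq j).flip (repWith_of_isPullback (s.sq j).flip ha))
  have hlift : ∀ {j j' : Over i₀} (φ : j ⟶ j'), ∃ m : P j ⟶ P j', m ≫ k j' = k j ≫ s.W.map φ := by
    intro j j' φ
    refine ⟨(hι j'.left).1.1.lift (zf j ≫ DZ.map φ.left) (k j ≫ s.W.map φ) ?_, (hι j'.left).1.1.lift_snd _ _ _⟩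
    rw [Category.assoc, ι.naturality, ← Category.assoc, (sq j).w, Category.assoc, ← s.map_fj, Functor.map_comp,
      Category.assoc]
  choose m hm using @hlift
  let F : Over i₀ ⥤ Over S :=
    { obj := P
      map := fun φ => m φ
      map_id := fun j => by rw [← cancel_mono (k j), hm, s.W.map_id, Category.comp_id, Category.id_comp]
      map_comp := fun {a b e} φ ψ => by
        rw [← cancel_mono (k e), hm, Category.assoc, hm, reassoc_of% (hm φ), s.W.map_comp] }
  haveI : ∀ j, IsAffine ((F ⋙ Over.forget S).obj j) := hPa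
  haveI : ∀ j, IsReduced ((F ⋙ Over.forget S).obj j) := hPr
  obtain ⟨cL, ⟨hL⟩⟩ := LimReduced.exists_limit_affine (F ⋙ Over.forget S)
  haveI : IsAffine cL.pt := Scheme.isAffine_of_isLimit _ hL
  haveI : IsReduced cL.pt := LimReduced.isReduced_of_isLimit hL
  have hu : ∀ j, ∃ e : E ⟶ P j, e ≫ k j = g ≫ s.cone.π.app j := fun j => by
    obtain ⟨u, hu⟩ := h j
    exact ⟨(hι j.left).1.1.lift u _ hu, (hι j.left).1.1.lift_snd _ _ _⟩
  choose e he using hu
  let cE : Cone (F ⋙ Over.forget S) :=
    { pt := E.left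
      π :=
        { app := fun j => (e j).left
          naturality := fun j j' φ => by
            show 𝟙 _ ≫ (e j').left = (e j).left ≫ (m φ).left
            rw [Category.id_comp, ← Over.comp_left]
            congr 1
            rw [← cancel_mono (k j'), Category.assoc, hm, he, ← Category.assoc, he, Category.assoc, s.cone.w] } }
  let β : E.left ⟶ cL.pt := hL.lift cE
  let cW : Cone (s.W ⋙ Over.forget S) :=
    { pt := cL.pt
      π :=
        { app := fun j => cL.π.app j ≫ (k j).left
          naturality := fun j j' φ => by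
            show 𝟙 _ ≫ cL.π.app j' ≫ (k j').left = (cL.π.app j ≫ (k j).left) ≫ (s.W.map φ).left
            rw [Category.id_comp, Category.assoc, ← Over.comp_left, ← hm, Over.comp_left, ← cL.w φ, Category.assoc]
            rfl } }
  let ρ₀ : cL.pt ⟶ s.cone.pt.left := s.isLimit.lift cW
  have hρ : ∀ j, ρ₀ ≫ (s.cone.π.app j).left = cL.π.app j ≫ (k j).left := fun j => s.isLimit.fac cW j
  have hβ : β ≫ ρ₀ = g.left := s.isLimit.hom_ext fun j => by
    show (β ≫ ρ₀) ≫ (s.cone.π.app j).left = g.left ≫ (s.cone.π.app j).left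
    rw [Category.assoc, hρ, ← Category.assoc]
    show (hL.lift cE ≫ cL.π.app j) ≫ (k j).left = _
    rw [hL.fac]
    exact congrArg CommaMorphism.left (he j)
  let L : Over S := Over.mk (ρ₀ ≫ s.cone.pt.hom)
  let ρ : L ⟶ s.cone.pt := Over.homMk ρ₀ rfl
  let β' : E ⟶ L := Over.homMk β (by
    show β ≫ ρ₀ ≫ s.cone.pt.hom = E.hom
    rw [← Category.assoc, hβ, Over.w])
  haveI : IsReduced L.left := inferInstanceAs (IsReduced cL.pt)
  have hrange : Set.range (Points.map ((yon S).map ρ ≫ s.l)) ⊆ Set.range (Points.map zι) := by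
    rw [hz.2.1, closure_point_eq hD hDa hc x]
    rintro _ ⟨p, rfl⟩ i
    obtain ⟨v, rfl⟩ := (Points.schemeEquiv L).surjective p
    obtain ⟨n, φ, ψ, -⟩ := IsCofilteredOrEmpty.cone_objs i₀ i
    have hn : Points.map (c.π.app n) (Points.map ((yon S).map ρ ≫ s.l) (Points.schemeEquiv L v)) ∈
        closure {Points.map (c.π.app n) x} := by
      rw [← (hι n).2.1]
      refine ⟨Points.ofPt (zf (Over.mk φ)) ((cL.π.app (Over.mk φ)) v), ?_⟩
      refine (map_ofPt_of_isPullback (sq (Over.mk φ)) _).trans ?_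
      show _ = Points.map (c.π.app n) (Points.map ((yon S).map ρ ≫ s.l) (Points.ofScheme L v))
      rw [← Points.ofPt_eq_map_ofScheme, ofPt_comp]
      refine Eq.trans ?_ (map_ofPt_of_isPullback (s.isPullback_π (Over.mk φ)) _).symm
      exact congrArg (Points.ofPt (s.fj (Over.mk φ)))
        (congrArg (fun f : cL.pt ⟶ (s.W.obj (Over.mk φ)).left => f v) (hρ (Over.mk φ))).symm
    rw [← c.w ψ, Points.map_comp]
    have h' := image_closure_subset_closure_image (Points.continuous_map (D.map ψ)) ⟨_, hn, rfl⟩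
    rwa [Set.image_singleton] at h'
  obtain ⟨y, hy⟩ := exists_factor_of_range_subset hz.1 (isReducedSp_yon (W := L)) _ hrange
  refine ⟨(yon S).map β' ≫ y, ?_⟩
  rw [Category.assoc, hy, ← Functor.map_comp_assoc]
  congr 2
  exact Over.OverMorphism.ext hβ

theorem isLimit_redInduced (hD : ∀ i, IsAlgSpace (D.obj i))
    (hDa : ∀ (i j : I) (φ : i ⟶ j), IsAffineMor (D.map φ)) (hc : IsLimit c)
    (hz : IsRedInduced (closure {x}) zι) (hι : ∀ i, IsRedInduced (closure {Points.map (c.π.app i) x}) (ι.app i))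
    (ξ : (Functor.const I).obj Z ⟶ DZ) (hξ : ∀ i, ξ.app i ≫ ι.app i = zι ≫ c.π.app i) :
    Nonempty (IsLimit (Cone.mk Z ξ)) := by
  haveI := mono_of_closedImmersion hz.1
  haveI : ∀ i, Mono (ι.app i) := fun i => mono_of_closedImmersion (hι i).1
  have key : ∀ {T : Over S} (f : (yon S).obj T ⟶ c.pt)
      (_ : ∀ i, ∃ u, u ≫ ι.app i = f ≫ c.π.app i), ∃ y, y ≫ zι = f := by
    intro T f hf
    obtain ⟨i₀⟩ := IsCofiltered.nonempty (C := I)
    let P := hz.1.1.pullback f
    let k : P ⟶ T := hz.1.1.snd f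
    have sqP := hz.1.1.isPullback f
    haveI : Mono ((yon S).map k) := sqP.mono_snd_of_mono
    haveI : Mono k := (yon S).mono_of_mono_map ‹_›
    have hcov : ∀ t : T.left, ∃ (E : Over S) (e : E ⟶ T), Etale e.left ∧ t ∈ Set.range e.left ∧
        ∃ d : E ⟶ P, d ≫ k = e := by
      intro t
      obtain ⟨T₀, a, t₀, hT₀, ha, hat⟩ := exists_chart_at (hD i₀) (Points.map (c.π.app i₀) (Points.ofPt f t))
      haveI := hT₀
      obtain ⟨s⟩ := exists_sys hDa hc a
      obtain ⟨v, hv, -⟩ := exists_point_of_isPullback s.sql hat.symm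
      have hl : RepWith @Etale s.l := repWith_of_isPullback s.sql.flip ha
      obtain ⟨E, g, e, sqE⟩ := exists_isPullback_of_representable hl.1 f
      obtain ⟨w, -, hw⟩ := exists_point_of_isPullback sqE (x := Points.ofScheme s.cone.pt v)
        (by rw [← Points.ofPt_eq_map_ofScheme]; exact hv)
      refine ⟨E, e, repWith_prop hl sqE, ⟨w, hw⟩, ?_⟩
      obtain ⟨y, hy⟩ := exists_chart_factor hD hDa hc hz hι ha s g fun j => by
        obtain ⟨u, hu⟩ := hf j.left
        refine ⟨(yon S).map e ≫ u, ?_⟩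
        rw [Category.assoc, hu, ← reassoc_of% sqE.w, s.hl, Functor.map_comp_assoc]
      exact ⟨hz.1.1.lift y e (hy.trans sqE.w), hz.1.1.lift_snd _ _ _⟩
    choose E e he ht d hd using hcov
    have hR : Sieve.ofArrows E e ∈ AlgSp.J S T := by
      rw [GrothendieckTopology.mem_over_iff]
      refine GrothendieckTopology.superset_covering _ ?_
        (Precoverage.generate_mem_toGrothendieck (J := Scheme.fppfPrecoverage)
          (R := Presieve.ofArrows (fun t => (E t).left) fun t => (e t).left) ?_)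
      · rw [Sieve.generate_le_iff]
        rintro X' f' ⟨t⟩
        exact (Sieve.overEquiv_iff _ (e t).left).2 (by
          refine ⟨E t, Over.homMk (𝟙 _) (by simp), e t, ⟨t⟩, ?_⟩
          ext; simp)
      · rw [Scheme.fppfPrecoverage, Scheme.ofArrows_mem_precoverage_iff]
        exact ⟨fun t => ⟨t, ht t⟩, fun t => by
          haveI := he t
          exact ⟨inferInstance, inferInstance⟩⟩
    haveI : IsIso k := exists_section_of_cover k hR (by
      rintro X' _ ⟨_, q, _, ⟨t⟩, rfl⟩
      exact ⟨q ≫ d t, by rw [Category.assoc, hd]⟩)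
    refine ⟨(yon S).map (inv k) ≫ hz.1.1.fst f, ?_⟩
    rw [Category.assoc, sqP.w, ← Functor.map_comp_assoc, IsIso.inv_hom_id, CategoryTheory.Functor.map_id,
      Category.id_comp]
  have hfac : ∀ s : Cone DZ, ∃ l : s.pt ⟶ Z, ∀ i, l ≫ ξ.app i = s.π.app i := by
    intro s
    let cs : Cone D := (Cone.postcompose ι).obj s
    let f := hc.lift cs
    have hf : ∀ i, f ≫ c.π.app i = s.π.app i ≫ ι.app i := fun i => hc.fac cs i
    have sq := IsPullback.of_hasPullback zι f
    haveI : Mono (pullback.snd zι f) := sq.mono_snd_of_mono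
    haveI : IsIso (pullback.snd zι f) := isIso_of_mono_of_lifts_yon _ fun {T} z => by
      obtain ⟨y, hy⟩ := key (z ≫ f) fun i => ⟨z ≫ s.π.app i, by rw [Category.assoc, Category.assoc, hf]⟩
      exact ⟨sq.lift y z hy, sq.lift_snd _ _ _⟩
    refine ⟨inv (pullback.snd zι f) ≫ pullback.fst zι f, fun i => ?_⟩
    rw [← cancel_mono (ι.app i), Category.assoc, Category.assoc, hξ, reassoc_of% pullback.condition,
      IsIso.inv_hom_id_assoc, hf]
  choose l hl using hfac
  exact ⟨{ lift := l
           fac := fun s i => hl s i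
           uniq := fun s m hm => by
             rw [← cancel_mono zι]
             refine hc.hom_ext fun i => ?_
             rw [Category.assoc, Category.assoc, ← hξ, ← Category.assoc, ← Category.assoc, hl s i]
             exact congrArg (· ≫ ι.app i) (hm i) }⟩

end Groth.L09.SpLimit
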