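import Groth.Agent.L09.SpLimit.Affine

/-!
# Base change of a system, and descent of affineness of morphisms
-/

universe u v w

open CategoryTheory CategoryTheory.Limits AlgebraicGeometry Opposite AlgSp

set_option autoImplicit false
set_option linter.style.haveILetI false
set_option linter.unusedSectionVars false
set_option backward.isDefEq.respectTransparency false
set_option backward.isDefEq.respectTransparency.types false

noncomputable section

namespace Groth.L09.SpLimit

open Groth.L23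

section

variable {C : Type w} [Category.{v} C] [HasPullbacks C] {I : Type u} [Category.{u} I] {D : I ⥤ C} {B F : C}

/-- The base change of a system over `B` along `h : F ⟶ B`. -/
def pbSys (t : D ⟶ (Functor.const I).obj B) (h : F ⟶ B) : I ⥤ C where
  obj i := pullback h (t.app i)
  map {i j} φ := pullback.map _ _ _ _ (𝟙 F) (D.map φ) (𝟙 B) (by simp) (by simp)
  map_id i := by apply pullback.hom_ext <;> simp
  map_comp φ ψ := by apply pullback.hom_ext <;> simp

theorem isPullback_pbSys (t : D ⟶ (Functor.const I).obj B) (h : F ⟶ B) {i j : I} (φ : i ⟶ j) :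
    IsPullback ((pbSys t h).map φ) (pullback.snd h (t.app i)) (pullback.snd h (t.app j)) (D.map φ) := by
  refine IsPullback.of_right ?_ (pullback.lift_snd _ _ _) (IsPullback.of_hasPullback h (t.app j))
  have e : (pbSys t h).map φ ≫ pullback.fst h (t.app j) = pullback.fst h (t.app i) :=
    (pullback.lift_fst _ _ _).trans (Category.comp_id _)
  rw [e, show D.map φ ≫ t.app j = t.app i from (t.naturality φ).trans (Category.comp_id _)]
  exact IsPullback.of_hasPullback _ _

/-- The base change of a cone. -/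
def pbCone (t : D ⟶ (Functor.const I).obj B) (h : F ⟶ B) (c : Cone D) (g : c.pt ⟶ B)
    (hg : ∀ i, c.π.app i ≫ t.app i = g) : Cone (pbSys t h) where
  pt := pullback h g
  π :=
    { app := fun i => pullback.map _ _ _ _ (𝟙 F) (c.π.app i) (𝟙 B) (by simp) (by simp [hg])
      naturality := fun i j φ => by apply pullback.hom_ext <;> simp [pbSys] }

/-- Base change commutes with limits. -/
def isLimitPbCone [IsConnected I] (t : D ⟶ (Functor.const I).obj B) (h : F ⟶ B) {c : Cone D} (hc : IsLimit c)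
    (g : c.pt ⟶ B) (hg : ∀ i, c.π.app i ≫ t.app i = g) : IsLimit (pbCone t h c g hg) :=
  let i₀ : I := Classical.arbitrary I
  let cD : (s : Cone (pbSys t h)) → Cone D := fun s =>
    { pt := s.pt
      π :=
        { app := fun i => s.π.app i ≫ pullback.snd _ _
          naturality := fun i j φ => by
            exact (Category.id_comp _).trans ((congrArg (· ≫ pullback.snd h (t.app j)) (s.w φ).symm).trans
              ((Category.assoc _ _ _).trans ((congrArg (s.π.app i ≫ ·) (isPullback_pbSys t h φ).w).trans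
                (Category.assoc _ _ _).symm))) } }
  have hx : ∀ (s : Cone (pbSys t h)) (i j : I),
      s.π.app i ≫ pullback.fst h (t.app i) = s.π.app j ≫ pullback.fst h (t.app j) := fun s =>
    constant_of_preserves_morphisms (fun i => s.π.app i ≫ pullback.fst h (t.app i)) fun i j φ => by
      show s.π.app i ≫ _ = s.π.app j ≫ _
      rw [← s.w φ]; simp [pbSys]
  { lift := fun s => pullback.lift (s.π.app i₀ ≫ pullback.fst _ _) (hc.lift (cD s)) (by
      rw [← hg i₀, hc.fac_assoc, Category.assoc, pullback.condition]; simp [cD])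
    fac := fun s i => by
      apply pullback.hom_ext
      · simp [pbCone, hx s i i₀]
      · simp [pbCone, cD]
    uniq := fun s m hm => by
      apply pullback.hom_ext
      · rw [pullback.lift_fst, ← hm i₀]; simp [pbCone]
      · rw [pullback.lift_snd]
        refine hc.hom_ext fun i => ?_
        rw [hc.fac, show (cD s).π.app i = s.π.app i ≫ pullback.snd _ _ from rfl, ← hm i]
        simp [pbCone] }

end

variable {S : Scheme.{u}} [QuasiSeparatedSpace S] {I : Type u} [SmallCategory I] [IsCofiltered I] {D : I ⥤ Sp S}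
  {c : Cone D}

theorem isAffineMor_of_iso_yon {P : Sp S} {T U : Over S} [IsAffine T.left] [IsAffine U.left]
    (e : (yon S).obj T ≅ P) (f : P ⟶ (yon S).obj U) : IsAffineMor f := by
  obtain ⟨m, hm⟩ := (yon S).map_surjective (e.hom ≫ f)
  refine isAffineMor_iff.2 ?_
  rw [show f = e.inv ≫ (yon S).map m by rw [hm, e.inv_hom_id_assoc]]
  exact repWith_comp (repWith_of_isIso e.inv) ((repWith_yon_map_iff _ _).2 (isAffineHom_of_isAffine m.left))

/-- Affineness of the base change of a system along a morphism from a quasi-compact quasi-separated space. -/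
theorem exists_affine_pbSys {B F : Sp S} (hB : IsAlgSpace B) (hBqs : IsQuasiSeparatedSp B) (hF : IsAlgSpace F)
    (hFqc : IsQuasiCompactSp F) (hFqs : IsQuasiSeparatedSp F) (hD : ∀ i, IsAlgSpace (D.obj i))
    (hDa : ∀ (i j : I) (φ : i ⟶ j), IsAffineMor (D.map φ)) (hqc : ∀ i, IsQuasiCompactSp (D.obj i))
    (hqs : ∀ i, IsQuasiSeparatedSp (D.obj i)) (t : D ⟶ (Functor.const I).obj B) (h : F ⟶ B) (hc : IsLimit c)
    (g : c.pt ⟶ B) (hg : ∀ i, c.π.app i ≫ t.app i = g) {P : Sp S} {fst : P ⟶ F} {snd : P ⟶ c.pt}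
    (sq : IsPullback fst snd h g) {T : Over S} [IsAffine T.left] (e : (yon S).obj T ≅ P) :
    ∃ (i : I) (T' : Over S), IsAffine T'.left ∧ Nonempty ((yon S).obj T' ≅ pullback h (t.app i)) := by
  haveI : IsConnected I := IsCofiltered.isConnected I
  exact exists_affine (D := pbSys t h)
    (fun i => isAlgSpace_of_isPullback hB.diag hF (hD i) (IsPullback.of_hasPullback _ _))
    (fun i j φ => isAffineMor_iff.2
      (repWith_of_isPullback (isPullback_pbSys t h φ).flip (isAffineMor_iff.1 (hDa i j φ))))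
    (fun i => qcMor_of_qc_source (hD i) hB (hqc i) hBqs (t.app i) hF hFqc h _ _ (IsPullback.of_hasPullback h (t.app i)).flip)
    (fun i => isQuasiSeparatedSp_of_isPullback (IsPullback.of_hasPullback h (t.app i)) hFqs hBqs (hqs i))
    (isLimitPbCone t h hc g hg) (e ≪≫ sq.isoPullback)

theorem eventually_isAffineMor (hD : ∀ i, IsAlgSpace (D.obj i))
    (hDa : ∀ (i j : I) (φ : i ⟶ j), IsAffineMor (D.map φ)) (hc : IsLimit c) {Y : Sp S} (hY : IsAlgSpace Y)
    (t : D ⟶ (Functor.const I).obj Y) (g : c.pt ⟶ Y) (hg : ∀ i, c.π.app i ≫ t.app i = g)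
    (hqc : ∀ i, IsQuasiCompactSp (D.obj i)) (hqs : ∀ i, IsQuasiSeparatedSp (D.obj i))
    (hYqc : IsQuasiCompactSp Y) (hYqs : IsQuasiSeparatedSp Y) (hX : IsAffineMor g) :
    ∃ i₀ : I, ∀ (i : I) (_ : i ⟶ i₀), IsAffineMor (t.app i) := by
  obtain ⟨T, p, hT, hp, hps⟩ := Qs.exists_affine_atlas hY hYqc
  haveI := hT
  obtain ⟨W, i', fst, sq, hW⟩ := hX hT p
  haveI := hW
  have hqT := Filtration.qcqs_of_affine (IsAlgSpace.yon_obj T) (Iso.refl _)
  obtain ⟨i, T', hT', ⟨e⟩⟩ := exists_affine_pbSys hY hYqs (IsAlgSpace.yon_obj T) hqT.1 hqT.2 hD hDa hqc hqs t p hc g hg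
    sq.flip (Iso.refl _)
  haveI := hT'
  refine ⟨i, fun k φ => ?_⟩
  have h := isAffineMor_of_cover hp hps (IsPullback.of_hasPullback p (t.app i)).flip (isAffineMor_of_iso_yon e _)
  rw [show t.app k = D.map φ ≫ t.app i from ((t.naturality φ).trans (Category.comp_id _)).symm]
  exact isAffineMor_iff.2 (repWith_comp (isAffineMor_iff.1 (hDa _ _ φ)) (isAffineMor_iff.1 h))

theorem descend_isAffineMor (hDa : ∀ (i j : I) (φ : i ⟶ j), IsAffineMor (D.map φ)) (hc : IsLimit c) {i₀ : I}
    {X₀ Y₀ : Sp S} (hX₀ : IsAlgSpace X₀) (hY₀ : IsAlgSpace Y₀) (f₀ : X₀ ⟶ Y₀) (b₀ : Y₀ ⟶ D.obj i₀)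
    (hXqc : IsQuasiCompactSp X₀) (hXqs : IsQuasiSeparatedSp X₀) (hYqc : IsQuasiCompactSp Y₀)
    (hYqs : IsQuasiSeparatedSp Y₀) {X Y : Sp S} {f : X ⟶ Y} {pY : Y ⟶ Y₀} {qY : Y ⟶ c.pt}
    (hY : IsPullback pY qY b₀ (c.π.app i₀)) {pX : X ⟶ X₀} (hX : IsPullback pX f f₀ pY) (hf : IsAffineMor f) :
    ∃ (i : I) (φ : i ⟶ i₀), ∀ (Xi Yi : Sp S) (fi : Xi ⟶ Yi) (pYi : Yi ⟶ Y₀) (qYi : Yi ⟶ D.obj i)
      (_ : IsPullback pYi qYi b₀ (D.map φ)) (pXi : Xi ⟶ X₀) (_ : IsPullback pXi fi f₀ pYi), IsAffineMor fi := by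
  obtain ⟨T, p, hT, hp, hps⟩ := Qs.exists_affine_atlas hY₀ hYqc
  haveI := hT
  obtain ⟨s⟩ := exists_sys hDa hc (p ≫ b₀)
  have sqF := IsPullback.of_hasPullback f₀ p
  have hF := isAlgSpace_of_isPullback hY₀.diag hX₀ (IsAlgSpace.yon_obj T) sqF
  have hFqc : IsQuasiCompactSp (pullback f₀ p) :=
    qcMor_of_qc_source (IsAlgSpace.yon_obj T) hY₀ isQuasiCompactSp_of_compactSpace hYqs p hX₀ hXqc f₀ _ _ sqF.flip
  have hqT := Filtration.qcqs_of_affine (IsAlgSpace.yon_obj T) (Iso.refl _)
  have hFqs : IsQuasiSeparatedSp (pullback f₀ p) := isQuasiSeparatedSp_of_isPullback sqF hXqs hYqs hqT.2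
  haveI : IsAffine s.cone.pt.left :=
    haveI : ∀ j, IsAffine ((s.W ⋙ Over.forget S).obj j) := s.aff
    Scheme.isAffine_of_isLimit _ s.isLimit
  let b := hY.lift ((yon S).map s.q ≫ p) s.l (by rw [Category.assoc, ← s.sql.w])
  have hb : b ≫ pY = (yon S).map s.q ≫ p := hY.lift_fst _ _ _
  obtain ⟨M, m, fst, sqM, hM⟩ := hf (Z := s.cone.pt) inferInstance b
  haveI := hM
  let lM := sqF.lift (fst ≫ pX) ((yon S).map m ≫ (yon S).map s.q) (by
    rw [Category.assoc, Category.assoc, hX.w, ← hb, sqM.w_assoc])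
  have sqh : IsPullback lM ((yon S).map m) (pullback.snd f₀ p) ((yon S).map s.q) := by
    refine IsPullback.of_right ?_ (sqF.lift_snd _ _ _) sqF
    rw [sqF.lift_fst, ← hb]
    exact sqM.paste_horiz hX
  haveI : IsConnected (Over i₀) := IsCofiltered.isConnected _
  let cW : Cone (s.W ⋙ yon S) := (yon S).mapCone s.cone
  have hcW : IsLimit cW := isLimitOfPreserves (yon S) (isLimitOfReflects (Over.forget S) s.isLimit)
  let t : s.W ⋙ yon S ⟶ (Functor.const (Over i₀)).obj ((yon S).obj T) :=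
    { app := fun j => (yon S).map (s.p j)
      naturality := fun j k φ => by
        show (yon S).map (s.W.map φ) ≫ (yon S).map (s.p k) = (yon S).map (s.p j) ≫ 𝟙 _
        rw [← Functor.map_comp, s.map_p, Category.comp_id] }
  have hWq : ∀ j, IsQuasiCompactSp ((yon S).obj (s.W.obj j)) ∧ IsQuasiSeparatedSp ((yon S).obj (s.W.obj j)) :=
    fun j => haveI := s.aff j; Filtration.qcqs_of_affine (IsAlgSpace.yon_obj _) (Iso.refl _)
  obtain ⟨j, T', hT', ⟨e⟩⟩ := exists_affine_pbSys (IsAlgSpace.yon_obj T) hqT.2 hF hFqc hFqs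
    (D := s.W ⋙ yon S) (fun _ => IsAlgSpace.yon_obj _)
    (fun a b φ => isAffineMor_iff.2 ((repWith_yon_map_iff _ _).2 (s.affineHom φ)))
    (fun j => (hWq j).1) (fun j => (hWq j).2) t (pullback.snd f₀ p) hcW ((yon S).map s.q)
    (fun j => by show (yon S).map (s.cone.π.app j) ≫ (yon S).map (s.p j) = _; rw [← Functor.map_comp, s.hq])
    sqh (Iso.refl _)
  haveI := hT'
  haveI : IsAffine (s.W.obj j).left := s.aff j
  refine ⟨j.left, j.hom, fun Xi Yi fi pYi qYi hYi pXi hXi => ?_⟩
  let b' := hYi.lift ((yon S).map (s.p j) ≫ p) (s.fj j) (by rw [Category.assoc, ← (s.sq j).w])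
  have hb' : b' ≫ pYi = (yon S).map (s.p j) ≫ p := hYi.lift_fst _ _ _
  have sqb : IsPullback b' ((yon S).map (s.p j)) pYi p :=
    IsPullback.of_right (h₁₁ := b') (h₁₂ := qYi) (by rw [hYi.lift_snd]; exact s.sq j) hb' hYi.flip
  let t₂ := pullback.snd (pullback.snd f₀ p) ((yon S).map (s.p j))
  let a := hXi.lift (pullback.fst (pullback.snd f₀ p) ((yon S).map (s.p j)) ≫ pullback.fst f₀ p) (t₂ ≫ b') (by
    rw [Category.assoc, Category.assoc, hb', pullback.condition (f := f₀), ← Category.assoc, pullback.condition,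
      Category.assoc])
  have sqa : IsPullback a t₂ fi b' := by
    refine IsPullback.of_right ?_ (hXi.lift_snd _ _ _) hXi
    rw [hXi.lift_fst, hb']
    exact (IsPullback.of_hasPullback _ _).paste_horiz sqF
  exact isAffineMor_of_cover (repWith_of_isPullback sqb.flip hp) (repWith_of_isPullback sqb.flip hps) sqa
    (isAffineMor_of_iso_yon e _)

end Groth.L09.SpLimit
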