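import Groth.Agent.L09.SpLimit.OpenDescend
import Groth.Agent.L09.SpLimit.PbSys
import Groth.Agent.L23.SchemeLocus
import Groth.Agent.L23.SchemeRep
import Groth.Agent.L23.Compact

/-!
# A limit is a scheme only if a stage is
-/

universe u

open CategoryTheory CategoryTheory.Limits AlgebraicGeometry Opposite AlgSp

set_option autoImplicit false
set_option linter.style.haveILetI false
set_option backward.isDefEq.respectTransparency false
set_option backward.isDefEq.respectTransparency.types false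

noncomputable section

namespace Groth.L09.SpLimit

open Groth.L23 Groth.L23.SL

variable {S : Scheme.{u}}

theorem schemePt_of_affineMor {X Y : Sp S} {f : X ⟶ Y} (hf : IsAffineMor f) {x : Points X}
    (h : SchemePt (Points.map f x)) : SchemePt x := by
  obtain ⟨A, a, t, ha, hat⟩ := h
  have hf' := (isAffineMor_iff.1 hf).1
  have sq := hf'.isPullback a
  obtain ⟨v, hv, -⟩ := exists_point_of_isPullback sq hat.symm
  exact ⟨_, hf'.fst a, v, repWith_of_isPullback sq.flip ha, hv⟩

variable [QuasiSeparatedSpace S] {I : Type u} [SmallCategory I] [IsCofiltered I] {D : I ⥤ Sp S}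
  {c : Cone D}

theorem exists_isRepresentable (hD : ∀ i, IsAlgSpace (D.obj i))
    (hDa : ∀ (i j : I) (φ : i ⟶ j), IsAffineMor (D.map φ))
    (hqc : ∀ i, IsQuasiCompactSp (D.obj i)) (hqs : ∀ i, IsQuasiSeparatedSp (D.obj i)) (hc : IsLimit c)
    {T : Over S} (e : (yon S).obj T ≅ c.pt) : ∃ i, (D.obj i).obj.IsRepresentable := by
  obtain ⟨i₀⟩ := IsCofiltered.nonempty (C := I)
  have hπ : ∀ i, RepWith @IsAffineHom (c.π.app i) := fun i => repWith_isAffineHom_of_isAffineMor fun T hT a => by
    haveI := hT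
    obtain ⟨W, q, l, sq, hW, -⟩ := LimReduced.isPullback_limit hDa hc a
    exact ⟨W, q, l, sq, hW⟩
  let Sg : ∀ i, Set (Points (D.obj i)) := fun i => {x | SchemePt x}
  have hmono : ∀ {i j : I} (φ : i ⟶ j), Points.map (c.π.app j) ⁻¹' Sg j ⊆ Points.map (c.π.app i) ⁻¹' Sg i :=
    fun φ x hx => schemePt_of_affineMor (hDa _ _ φ) (by rw [← Points.map_comp, c.w]; exact hx)
  -- locally on the limit
  have hloc : ∀ x : Points c.pt, ∃ i, Points.map (c.π.app i) x ∈ Sg i := fun x => by
    obtain ⟨p, rfl⟩ : ∃ p, Points.map e.hom p = x := ⟨Points.map e.inv x, by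
      rw [← Points.map_comp, e.inv_hom_id, Points.map_id]⟩
    obtain ⟨t, rfl⟩ := (Points.schemeHomeo T).surjective p
    obtain ⟨_, ⟨(B : T.left.Opens), hB, rfl⟩, htB, -⟩ :=
      T.left.isBasis_affineOpens.exists_subset_of_mem_open (Set.mem_univ t) isOpen_univ
    let ι := (yon S).map (openOverι T B) ≫ e.hom
    have hι : RepWith @IsOpenImmersion ι :=
      repWith_comp ((repWith_yon_map_iff _ _).2 (inferInstanceAs (IsOpenImmersion B.ι))) (repWith_of_isIso _)
    haveI : IsAffine (openOver T B).left := hB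
    have hqB := Filtration.qcqs_of_affine (IsAlgSpace.yon_obj (openOver T B)) (Iso.refl _)
    obtain ⟨i, Ui, ji, q, hji, hUi, sq⟩ := exists_open_descend hD hDa hqc hqs hc ι hι hqB.1
    have hUisp : IsAlgSpace Ui := isAlgSpace_of_representable_to (hD i) hji.1
    have hUiqs : IsQuasiSeparatedSp Ui := haveI := mono_of_repWith_openImmersion hji
      Qs.isQuasiSeparatedSp_of_mono (hqs i) ji
    haveI : IsConnected (Over i) := IsCofiltered.isConnected _
    let t' : Over.forget i ⋙ D ⟶ (Functor.const (Over i)).obj (D.obj i) :=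
      { app := fun k => D.map k.hom
        naturality := fun k l φ => by
          show D.map φ.left ≫ D.map l.hom = D.map k.hom ≫ 𝟙 _
          rw [← D.map_comp, Over.w φ, Category.comp_id] }
    obtain ⟨k, T', hT', ⟨e'⟩⟩ := exists_affine_pbSys (D := Over.forget i ⋙ D) (hD i) (hqs i) hUisp hUi hUiqs
      (fun k => hD k.left) (fun a b φ => hDa _ _ φ.left) (fun k => hqc k.left) (fun k => hqs k.left) t' ji
      ((Functor.Initial.isLimitWhiskerEquiv (Over.forget i) c).symm hc) (c.π.app i) (fun k => c.w k.hom)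
      sq.flip (Iso.refl _)
    refine ⟨k.left, ?_⟩
    have sqk := IsPullback.of_hasPullback ji (t'.app k)
    let a : (yon S).obj T' ⟶ D.obj k.left := e'.hom ≫ pullback.snd ji (t'.app k)
    let m := sqk.lift q (ι ≫ c.π.app k.left) (by
      show q ≫ ji = (ι ≫ c.π.app k.left) ≫ D.map k.hom
      rw [Category.assoc, c.w, sq.w])
    obtain ⟨m', hm'⟩ := (yon S).map_surjective (m ≫ e'.inv)
    refine ⟨T', a, m'.left ⟨t, htB⟩, repWith_comp (repWith_of_isIso _) (repWith_of_isPullback sqk hji), ?_⟩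
    have key : (yon S).map m' ≫ a = ι ≫ c.π.app k.left := by
      rw [hm', Category.assoc, e'.inv_hom_id_assoc, IsPullback.lift_snd]
    rw [← ofPt_comp, key, Category.assoc, ofPt_comp]
    show Points.ofPt (e.hom ≫ c.π.app k.left) t = _
    rw [← Points.map_ofPt, Points.ofPt_eq_map_ofScheme e.hom t]
    rfl
  -- uniformity on the limit
  haveI : CompactSpace (Points c.pt) := compactSpace_of_qcSp (qcSp_of_affine (hD i₀) (hqc i₀) (hπ i₀))
  obtain ⟨F, hF⟩ := isCompact_univ.elim_finite_subcover (fun i => Points.map (c.π.app i) ⁻¹' Sg i)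
    (fun i => isOpen_schemePt.preimage (Points.continuous_map _))
    (fun x _ => Set.mem_iUnion.2 (hloc x))
  obtain ⟨i₁, hi₁⟩ := IsCofiltered.inf_objs_exists F
  have hall : ∀ x, Points.map (c.π.app i₁) x ∈ Sg i₁ := fun x => by
    obtain ⟨i, hi, hx⟩ := Set.mem_iUnion₂.1 (hF (Set.mem_univ x))
    exact hmono (hi₁ hi).some hx
  -- uniformity at a stage
  obtain ⟨U, u, hU, hu, hus⟩ := Qs.exists_affine_atlas (hD i₁) (hqc i₁)
  haveI := hU
  obtain ⟨s⟩ := exists_sys hDa hc u
  let E := s.W ⋙ Over.forget S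
  let cE := (Over.forget S).mapCone s.cone
  haveI : ∀ j, IsAffine (E.obj j) := s.aff
  haveI : ∀ {j k : Over i₁} (f : j ⟶ k), IsAffineHom (E.map f) := fun f => s.affineHom f
  let top : Over i₁ := Over.mk (𝟙 i₁)
  let C : Set (E.obj top) := (Points.ofPt (s.fj top) ⁻¹' Sg i₁)ᶜ
  have hC : Groth.L19.Limit.CC C :=
    Groth.L19.Limit.cc_of_isClosed (isOpen_schemePt.preimage (Points.continuous_ofPt _)).isClosed_compl
  obtain ⟨j, φ, hj⟩ := Groth.L19.Limit.exists_preimage_eq_empty (c := cE) s.isLimit hC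
    (Set.eq_empty_iff_forall_notMem.2 fun z hz => hz (by
      show Points.ofPt (s.fj top) ((s.cone.π.app top).left z) ∈ Sg i₁
      rw [← ofPt_comp, ← s.hl top, ← Points.map_ofPt]
      exact hall _))
  have hsj : RepWith @Surjective (s.fj j) := repWith_of_isPullback (s.sq j).flip hus
  obtain ⟨X', ι', hι', hrep, hrange⟩ := exists_locus (hD j.left)
  have hall' : ∀ y : Points (D.obj j.left), SchemePt y := fun y => by
    obtain ⟨z, rfl⟩ := surjective_ofPt hsj y
    refine schemePt_of_affineMor (hDa _ _ φ.left) ?_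
    have hz : (E.map φ) z ∉ C := fun hz => (Set.eq_empty_iff_forall_notMem.1 hj) z hz
    have hz' : SchemePt (Points.ofPt (s.fj top) ((s.W.map φ).left z)) := not_not.1 hz
    rw [Points.map_ofPt, ← s.map_fj φ, ofPt_comp]
    exact hz'
  haveI : IsIso ι' := isIso_of_openImmersion_surjective hι' fun y => hrange.ge (hall' y)
  obtain ⟨T₁, ⟨e₁⟩⟩ := isRepresentable_iff_exists_iso.1 hrep
  exact ⟨j.left, isRepresentable_iff_exists_iso.2 ⟨T₁, ⟨e₁ ≪≫ asIso ι'⟩⟩⟩

end Groth.L09.SpLimit
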