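import Groth.Agent.L09.OverMapSp.Equiv
import Groth.Agent.L23.AffineMor
import Groth.Agent.L23.Epi

/-!
# Spaces with an etale chart coming from an affine model over `Spec ℤ` are affine
-/

universe u

open CategoryTheory CategoryTheory.Limits AlgebraicGeometry Opposite AlgSp

set_option autoImplicit false
set_option linter.style.haveILetI false
set_option backward.isDefEq.respectTransparency false
set_option backward.isDefEq.respectTransparency.types false

noncomputable section

namespace Groth.L09.SpLimit

open Groth.L23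

variable (S : Scheme.{u})

/-- A scheme over `Spec ℤ` pulled back to `S`. -/
abbrev bz (Z : Scheme.{u}) : Over S :=
  Over.mk (pullback.snd (specULiftZIsTerminal.from Z) (specULiftZIsTerminal.from S))

variable {S}

/-- Maps into `bz`. -/
def toBz {Z : Scheme.{u}} {T : Over S} (a : T.left ⟶ Z) : T ⟶ bz S Z :=
  Over.homMk (pullback.lift a T.hom (specULiftZIsTerminal.hom_ext _ _)) (pullback.lift_snd _ _ _)

/-- The projection of `bz`. -/
abbrev bzFst (S Z : Scheme.{u}) : (bz S Z).left ⟶ Z := pullback.fst _ _

theorem toBz_fst {Z : Scheme.{u}} {T : Over S} (a : T.left ⟶ Z) : (toBz a).left ≫ bzFst S Z = a :=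
  pullback.lift_fst _ _ _

theorem bz_ext {Z : Scheme.{u}} {T : Over S} {a b : T ⟶ bz S Z} (h : a.left ≫ bzFst S Z = b.left ≫ bzFst S Z) :
    a = b :=
  Over.OverMorphism.ext (pullback.hom_ext h ((Over.w a).trans (Over.w b).symm))

/-- Functoriality of `bz`. -/
def bzMap {V Z : Scheme.{u}} (v : V ⟶ Z) : bz S V ⟶ bz S Z := toBz (bzFst S V ≫ v)

theorem bzMap_sq {V Z : Scheme.{u}} (v : V ⟶ Z) :
    IsPullback (bzFst S V) (bzMap (S := S) v).left v (bzFst S Z) := by
  refine IsPullback.of_bot ?_ (toBz_fst _).symm (IsPullback.of_hasPullback _ _)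
  rw [show (bzMap (S := S) v).left ≫ pullback.snd _ _ = (bz S V).hom from Over.w _, specULiftZIsTerminal.hom_ext (v ≫ specULiftZIsTerminal.from Z) (specULiftZIsTerminal.from V)]
  exact IsPullback.of_hasPullback _ _

open Groth.L09.OverMapSp in
/-- A space with an etale chart which is the pullback of an affine model is affine. -/
theorem exists_affine_of_model {Z V : Scheme.{u}} [IsAffine Z] [IsAffine V] (v : V ⟶ Z) [Etale v] [Surjective v]
    {X : Sp S} (φ : X ⟶ (yon S).obj (bz S Z)) {W : Over S} [IsAffine W.left] (a : (yon S).obj W ⟶ X)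
    (ω : W ⟶ bz S V) (sq : IsPullback ((yon S).map ω) a ((yon S).map (bzMap v)) φ) :
    ∃ T : Over S, IsAffine T.left ∧ Nonempty ((yon S).obj T ≅ X) := by
  let g := specULiftZIsTerminal.from S
  let Z' : Over (Spec (.of (ULift.{u} ℤ))) := Over.mk (specULiftZIsTerminal.from Z)
  let V' : Over (Spec (.of (ULift.{u} ℤ))) := Over.mk (specULiftZIsTerminal.from V)
  let mk' : ∀ {A B : Over (Spec (.of (ULift.{u} ℤ)))}, (A.left ⟶ B.left) → (A ⟶ B) := fun k =>
    Over.homMk k (specULiftZIsTerminal.hom_ext _ _)
  have ext' : ∀ {A B : Over (Spec (.of (ULift.{u} ℤ)))} {a b : A ⟶ B}, a.left = b.left → a = b := fun h =>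
    Over.OverMorphism.ext h
  let Φ : tot g X ⟶ (yon _).obj Z' :=
    desc (fun {T} x => (yon _).map (mk' (((yon S).preimage (x ≫ φ)).left ≫ bzFst S Z))) fun {T T₀} b x => by
      rw [← Functor.map_comp]
      congr 1
      refine ext' ?_
      show b.left ≫ ((yon S).preimage (x ≫ φ)).left ≫ _ = ((yon S).preimage (((yon S).map b ≫ x) ≫ φ)).left ≫ _
      rw [← Category.assoc, ← Over.comp_left,
        show b ≫ (yon S).preimage (x ≫ φ) = (yon S).preimage (((yon S).map b ≫ x) ≫ φ) from
          (yon S).map_injective (by simp)]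
  have hΦ : ∀ {T : Over S} (x : (yon S).obj T ⟶ X),
      incl g x ≫ Φ = (yon _).map (mk' (((yon S).preimage (x ≫ φ)).left ≫ bzFst S Z)) := fun x => incl_desc _ _ x
  let ωV : (Over.map g).obj W ⟶ V' := mk' (ω.left ≫ bzFst S V)
  let v' : V' ⟶ Z' := mk' v
  have sqΦ : IsPullback (incl g a) ((yon _).map ωV) Φ ((yon _).map v') := by
    refine UHPush.isPullback_of_yon ?_ ?_ ?_
    · rw [hΦ, ← Functor.map_comp]
      congr 1
      refine ext' ?_
      show _ = (ω.left ≫ bzFst S V) ≫ v
      rw [show (yon S).preimage (a ≫ φ) = ω ≫ bzMap v from (yon S).map_injective (by simp [sq.w]),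
        Over.comp_left, Category.assoc, Category.assoc, ← (bzMap_sq v).w]
      rfl
    · intro T' k k' h₁ h₂
      obtain ⟨k, rfl⟩ := (yon _).map_surjective k
      obtain ⟨k', rfl⟩ := (yon _).map_surjective k'
      have hp := h₁ =≫ proj g X
      simp only [Category.assoc, incl_proj, ← Functor.map_comp] at hp
      have hl : k.left ≫ W.hom = k'.left ≫ W.hom := congrArg CommaMorphism.left ((yon _).map_injective hp)
      let T : Over S := Over.mk (k.left ≫ W.hom)
      let b : T ⟶ W := Over.homMk k.left
      let b' : T ⟶ W := Over.homMk k'.left hl.symm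
      let ε : (Over.map g).obj T ⟶ T' := mk' (𝟙 T'.left)
      have eb : (Over.map g).map b = ε ≫ k := ext' (Category.id_comp _).symm
      have eb' : (Over.map g).map b' = ε ≫ k' := ext' (Category.id_comp _).symm
      have ha : (yon S).map b ≫ a = (yon S).map b' ≫ a := incl_injective (g := g) (by
        rw [← map_incl, ← map_incl, eb, eb', Functor.map_comp, Functor.map_comp, Category.assoc, Category.assoc, h₁])
      have hω : b ≫ ω = b' ≫ ω := by
        refine bz_ext ?_
        have h₃ := congrArg CommaMorphism.left ((yon _).map_injective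
          ((Functor.map_comp _ _ _).trans (h₂.trans (Functor.map_comp _ _ _).symm)))
        show (k.left ≫ ω.left) ≫ _ = (k'.left ≫ ω.left) ≫ _
        rw [Category.assoc, Category.assoc]
        exact h₃
      have := (yon S).map_injective (sq.hom_ext (by rw [← Functor.map_comp, ← Functor.map_comp, hω]) ha)
      exact congrArg _ (ext' (congrArg CommaMorphism.left this :))
    · intro T' x y hxy
      obtain ⟨y, rfl⟩ := (yon _).map_surjective y
      obtain ⟨T, e, x₀, he⟩ := exists_incl x
      have hy : (((yon S).preimage (x₀ ≫ φ)).left ≫ bzFst S Z) = (e.hom.left ≫ y.left) ≫ v := by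
        have h := (yon _).map e.hom ≫= hxy
        rw [← Category.assoc, he, hΦ, ← Functor.map_comp, ← Functor.map_comp] at h
        exact (congrArg CommaMorphism.left ((yon _).map_injective h)).trans (Category.assoc _ _ _).symm
      let y₀ : T ⟶ bz S V := toBz (e.hom.left ≫ y.left)
      have hy₀ : (yon S).map y₀ ≫ (yon S).map (bzMap v) = x₀ ≫ φ := by
        rw [← Functor.map_comp, show y₀ ≫ bzMap v = (yon S).preimage (x₀ ≫ φ) from bz_ext (by
          rw [hy, Over.comp_left, Category.assoc, ← (bzMap_sq v).w, ← Category.assoc, toBz_fst]), Functor.map_preimage]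
      obtain ⟨m, hm⟩ := (yon S).map_surjective (sq.lift ((yon S).map y₀) x₀ hy₀)
      refine ⟨(yon _).map (e.inv ≫ (Over.map g).map m), ?_, ?_⟩
      · rw [Functor.map_comp, Category.assoc, map_incl, hm, sq.lift_snd, ← he, ← Category.assoc, ← Functor.map_comp,
          e.inv_hom_id, CategoryTheory.Functor.map_id, Category.id_comp]
      · rw [← Functor.map_comp]
        congr 1
        refine ext' ?_
        have hmω : m ≫ ω = y₀ := (yon S).map_injective (by rw [Functor.map_comp, hm, sq.lift_fst])
        show (e.inv.left ≫ m.left) ≫ ω.left ≫ bzFst S V = y.left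
        rw [Category.assoc, ← Category.assoc m.left, ← Over.comp_left, hmω, toBz_fst, ← Category.assoc,
          ← Over.comp_left, e.inv_hom_id]
        exact Category.id_comp _
  haveI : IsAffine ((Over.map g).obj W).left := ‹IsAffine W.left›
  have hv : RepWith @Etale ((yon _).map v') := (repWith_yon_map_iff _ _).2 ‹Etale v›
  have hvs : RepWith @Surjective ((yon _).map v') := (repWith_yon_map_iff _ _).2 ‹Surjective v›
  haveI : IsAffine V'.left := ‹IsAffine V›
  have haff : IsAffineMor Φ := isAffineMor_of_cover hv hvs sqΦ (isAffineMor_iff.2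
    ((repWith_yon_map_iff _ _).2 (isAffineHom_of_isAffine ωV.left)))
  obtain ⟨W₁, i, fst, sqW, hW₁⟩ := haff (Z := Z') ‹IsAffine Z› (𝟙 _)
  haveI : IsIso fst := sqW.isIso_fst_of_isIso
  obtain ⟨T, e, x₀, he⟩ := exists_incl fst
  haveI : IsIso (incl g x₀) := by rw [← he]; infer_instance
  haveI : IsIso x₀ := UHPush.isIso_of_yon x₀ (fun Z₀ k k' hk => by
      obtain ⟨k, rfl⟩ := (yon S).map_surjective k
      obtain ⟨k', rfl⟩ := (yon S).map_surjective k'
      have := congrArg (incl g) hk
      rw [← map_incl, ← map_incl, cancel_mono (incl g x₀)] at this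
      exact congrArg _ (map_injective ((yon _).map_injective this)))
    fun Z₀ y => by
      obtain ⟨m, hm⟩ := (yon _).map_surjective (incl g y ≫ inv (incl g x₀))
      have hy : (yon _).map m ≫ incl g x₀ = incl g y := by rw [hm]; simp
      have hp := hy =≫ proj g X
      simp only [Category.assoc, incl_proj, ← Functor.map_comp] at hp
      obtain ⟨b, hb⟩ := exists_over_hom m (congrArg CommaMorphism.left ((yon _).map_injective hp))
      exact ⟨(yon S).map b, incl_injective (g := g) (by rw [← map_incl, hb, hy])⟩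
  haveI : IsAffine W₁.left := hW₁
  exact ⟨T, IsAffine.of_isIso e.hom.left, ⟨asIso x₀⟩⟩

end Groth.L09.SpLimit
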