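import Groth.Agent.L09.SpLimit.Eventually
import Groth.Agent.L09.SpLimit.EtModel
import Groth.Agent.L09.SpLimit.Model
import Groth.Agent.L09.Filtration.AffineQs
import Mathlib.AlgebraicGeometry.AffineTransitionLimit

/-!
# A limit of spaces is affine only if a stage is
-/

universe u

open CategoryTheory CategoryTheory.Limits AlgebraicGeometry Opposite AlgSp

set_option autoImplicit false
set_option linter.style.haveILetI false
set_option linter.unusedSectionVars false
set_option backward.isDefEq.respectTransparency false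
set_option backward.isDefEq.respectTransparency.types false

noncomputable section

namespace Groth.L09.SpLimit

open Groth.L23

variable {S : Scheme.{u}} {I : Type u} [SmallCategory I] [IsCofiltered I] {D : I ⥤ Sp S} {c : Cone D}

theorem Sys.isPullback_map {i₀ : I} {T : Over S} {a : (yon S).obj T ⟶ D.obj i₀} (s : Sys D c a) {j k : Over i₀}
    (φ : j ⟶ k) : IsPullback ((yon S).map (s.W.map φ)) (s.fj j) (s.fj k) (D.map φ.left) := by
  refine (IsPullback.of_bot ?_ (s.map_fj φ).symm (s.sq k)).flip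
  rw [← D.map_comp, Over.w φ, ← Functor.map_comp, s.map_p φ]
  exact s.sq j

/-- Maps from the limit of an affine system to a scheme of finite presentation descend. -/
theorem Sys.exists_factor {i₀ : I} {T : Over S} {a : (yon S).obj T ⟶ D.obj i₀} (s : Sys D c a) {Z : Scheme.{u}}
    (hZ : LocallyOfFinitePresentation (specULiftZIsTerminal.from Z)) (b : s.cone.pt.left ⟶ Z) :
    ∃ (j : Over i₀) (g : (s.W.obj j).left ⟶ Z), (s.cone.π.app j).left ≫ g = b := by
  let F := s.W ⋙ Over.forget S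
  haveI : ∀ j, IsAffine (F.obj j) := s.aff
  haveI : ∀ {j k : Over i₀} (f : j ⟶ k), IsAffineHom (F.map f) := fun f => s.affineHom f
  haveI := hZ
  let t : F ⟶ (Functor.const (Over i₀)).obj (Spec (.of (ULift.{u} ℤ))) :=
    { app := fun j => specULiftZIsTerminal.from _
      naturality := fun _ _ _ => specULiftZIsTerminal.hom_ext _ _ }
  obtain ⟨j, g, hg, -⟩ := Scheme.exists_π_app_comp_eq_of_locallyOfFinitePresentation F t
    (specULiftZIsTerminal.from Z) ((Over.forget S).mapCone s.cone) s.isLimit b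
    (by ext1; ext1 j; exact specULiftZIsTerminal.hom_ext _ _)
  exact ⟨j, g, hg⟩

/-- Maps to a scheme of finite type which agree on the limit agree at a stage. -/
theorem Sys.exists_eq {i₀ : I} {T : Over S} {a : (yon S).obj T ⟶ D.obj i₀} (s : Sys D c a) {Z : Scheme.{u}}
    (hZ : LocallyOfFinitePresentation (specULiftZIsTerminal.from Z)) {j : Over i₀} (g g' : (s.W.obj j).left ⟶ Z)
    (e : (s.cone.π.app j).left ≫ g = (s.cone.π.app j).left ≫ g') :
    ∃ (k : Over i₀) (φ : k ⟶ j), (s.W.map φ).left ≫ g = (s.W.map φ).left ≫ g' := by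
  let F := s.W ⋙ Over.forget S
  haveI : ∀ j, IsAffine (F.obj j) := s.aff
  haveI : ∀ {j k : Over i₀} (f : j ⟶ k), IsAffineHom (F.map f) := fun f => s.affineHom f
  haveI := hZ
  let t : F ⟶ (Functor.const (Over i₀)).obj (Spec (.of (ULift.{u} ℤ))) :=
    { app := fun j => specULiftZIsTerminal.from _
      naturality := fun _ _ _ => specULiftZIsTerminal.hom_ext _ _ }
  exact Scheme.exists_hom_comp_eq_comp_of_locallyOfFiniteType F t
    (specULiftZIsTerminal.from Z) ((Over.forget S).mapCone s.cone) s.isLimit g g'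
    (specULiftZIsTerminal.hom_ext _ _) (specULiftZIsTerminal.hom_ext _ _) e

theorem exists_affine [QuasiSeparatedSpace S] (hD : ∀ i, IsAlgSpace (D.obj i))
    (hDa : ∀ (i j : I) (φ : i ⟶ j), IsAffineMor (D.map φ)) (hqc : ∀ i, IsQuasiCompactSp (D.obj i))
    (hqs : ∀ i, IsQuasiSeparatedSp (D.obj i)) (hc : IsLimit c) {T : Over S} [IsAffine T.left]
    (e : (yon S).obj T ≅ c.pt) :
    ∃ (i : I) (T' : Over S), IsAffine T'.left ∧ Nonempty ((yon S).obj T' ≅ D.obj i) := by
  obtain ⟨i₀⟩ := IsCofiltered.nonempty (C := I)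
  obtain ⟨U, u, hU, hu, hus⟩ := Qs.exists_affine_atlas (hD i₀) (hqc i₀)
  haveI := hU
  obtain ⟨s⟩ := exists_sys hDa hc u
  haveI : IsAffine s.cone.pt.left :=
    haveI : ∀ j, IsAffine ((s.W ⋙ Over.forget S).obj j) := s.aff
    Scheme.isAffine_of_isLimit _ s.isLimit
  have hl : RepWith @Etale s.l := repWith_of_isPullback s.sql.flip hu
  have hls : RepWith @Surjective s.l := repWith_of_isPullback s.sql.flip hus
  haveI : Epi s.l := epi_of_repWith _ hl hls
  obtain ⟨χ, hχ⟩ := (yon S).map_surjective (s.l ≫ e.inv)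
  haveI : Etale χ.left := (repWith_yon_map_iff _ _).1 (hχ ▸ repWith_comp hl (repWith_of_isIso e.inv))
  haveI : Surjective χ.left := (repWith_yon_map_iff _ _).1 (hχ ▸ repWith_comp hls (repWith_of_isIso e.inv))
  obtain ⟨Z, V, v, t, w, hZa, hVa, hve, hvs, hZ, hV, sqw⟩ := exists_etale_model χ.left
  haveI := hZa; haveI := hVa; haveI := hve; haveI := hvs
  -- descend the maps to the model
  obtain ⟨j₁, ψ₁, hψ₁⟩ := s.exists_factor hZ (χ.left ≫ t)
  obtain ⟨j₂, ω₂, hω₂⟩ := s.exists_factor hV w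
  let j₃ := IsCofiltered.min j₁ j₂
  let ψ₃ : s.W.obj j₃ ⟶ bz S Z := toBz ((s.W.map (IsCofiltered.minToLeft j₁ j₂)).left ≫ ψ₁)
  let ω₃ : s.W.obj j₃ ⟶ bz S V := toBz ((s.W.map (IsCofiltered.minToRight j₁ j₂)).left ≫ ω₂)
  let t' : T ⟶ bz S Z := toBz t
  let w' : s.cone.pt ⟶ bz S V := toBz w
  have hψ₃ : s.cone.π.app j₃ ≫ ψ₃ = χ ≫ t' := bz_ext (by
    rw [Over.comp_left, Over.comp_left, Category.assoc, Category.assoc, toBz_fst, toBz_fst, ← Category.assoc,
      ← Over.comp_left, s.cone.w, hψ₁])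
  have hω₃ : s.cone.π.app j₃ ≫ ω₃ = w' := bz_ext (by
    rw [Over.comp_left, Category.assoc, toBz_fst, toBz_fst, ← Category.assoc, ← Over.comp_left, s.cone.w, hω₂])
  have sqw' : IsPullback w' χ (bzMap v) t' := by
    have wl : w' ≫ bzMap v = χ ≫ t' := bz_ext (by
      rw [Over.comp_left, Over.comp_left, Category.assoc, Category.assoc, toBz_fst, ← (bzMap_sq v).w,
        ← Category.assoc, toBz_fst, sqw.w])
    refine IsPullback.of_map (Over.forget S) wl ?_
    refine IsPullback.of_right ?_ (congrArg CommaMorphism.left wl) (bzMap_sq v)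
    show IsPullback (w'.left ≫ bzFst S V) χ.left v (t'.left ≫ bzFst S Z)
    rw [toBz_fst, toBz_fst]
    exact sqw
  obtain ⟨j₄, f₄, h₄⟩ : ∃ (j₄ : Over i₀) (f₄ : j₄ ⟶ j₃), s.W.map f₄ ≫ ω₃ ≫ bzMap v = s.W.map f₄ ≫ ψ₃ := by
    obtain ⟨k, f, hf⟩ := s.exists_eq hZ ((ω₃ ≫ bzMap v).left ≫ bzFst S Z) (ψ₃.left ≫ bzFst S Z) (by
      rw [← Category.assoc, ← Category.assoc, ← Over.comp_left, ← Over.comp_left, ← Category.assoc, hω₃, hψ₃,
        sqw'.w])
    exact ⟨k, f, bz_ext (by simpa only [Over.comp_left, Category.assoc] using hf)⟩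
  -- the equivalence relation
  have hP2 := isAlgSpace_of_isPullback (hD i₀).diag (IsAlgSpace.yon_obj U) (IsAlgSpace.yon_obj U)
    (IsPullback.of_hasPullback u u)
  have hP2qc : IsQuasiCompactSp (pullback u u) :=
    qcMor_of_qc_source (IsAlgSpace.yon_obj U) (hD i₀) isQuasiCompactSp_of_compactSpace (hqs i₀) u
      (IsAlgSpace.yon_obj U) isQuasiCompactSp_of_compactSpace u _ _ (IsPullback.of_hasPullback u u)
  obtain ⟨R, r, hR, hr, hrs⟩ := Qs.exists_affine_atlas hP2 hP2qc
  haveI := hR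
  obtain ⟨s'⟩ := exists_sys hDa hc (r ≫ pullback.fst u u ≫ u)
  let n : ∀ (x : (yon S).obj R ⟶ (yon S).obj U), x ≫ u = r ≫ pullback.fst u u ≫ u → ∀ j : Over i₀,
      ∃ m : s'.W.obj j ⟶ s.W.obj j, (yon S).map m ≫ s.fj j = s'.fj j ∧
        (yon S).map (m ≫ s.p j) = (yon S).map (s'.p j) ≫ x := fun x hx j => by
    obtain ⟨m, hm⟩ := (yon S).map_surjective
      ((s.sq j).lift (s'.fj j) ((yon S).map (s'.p j) ≫ x) (by rw [Category.assoc, hx]; exact (s'.sq j).w))
    exact ⟨m, by rw [hm, IsPullback.lift_fst], by rw [Functor.map_comp, hm, IsPullback.lift_snd]⟩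
  choose m₁ hm₁ hm₁' using n (r ≫ pullback.fst u u) (Category.assoc _ _ _)
  choose m₂ hm₂ hm₂' using n (r ≫ pullback.snd u u) (by rw [Category.assoc, pullback.condition])
  have hnat : ∀ (x : (yon S).obj R ⟶ (yon S).obj U) (m : ∀ j, s'.W.obj j ⟶ s.W.obj j),
      (∀ j, (yon S).map (m j) ≫ s.fj j = s'.fj j) → (∀ j, (yon S).map (m j ≫ s.p j) = (yon S).map (s'.p j) ≫ x) →
      ∀ {j k : Over i₀} (f : j ⟶ k), m j ≫ s.W.map f = s'.W.map f ≫ m k := by
    intro x m h h' j k f
    refine (yon S).map_injective ((s.sq k).hom_ext ?_ ?_)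
    · rw [Functor.map_comp, Functor.map_comp, Category.assoc, Category.assoc, s.map_fj, h, reassoc_of% h,
        s'.map_fj]
    · rw [← Functor.map_comp, ← Functor.map_comp, Category.assoc, Category.assoc, s.map_p, h', Functor.map_comp, h',
        ← Functor.map_comp_assoc, s'.map_p]
  have hχm : ∀ (x : (yon S).obj R ⟶ (yon S).obj U) (m : ∀ j, s'.W.obj j ⟶ s.W.obj j),
      (∀ j, (yon S).map (m j) ≫ s.fj j = s'.fj j) → (∀ j, (yon S).map (m j ≫ s.p j) = (yon S).map (s'.p j) ≫ x) →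
      x ≫ u = r ≫ pullback.fst u u ≫ u → ∃ mI : s'.cone.pt ⟶ s.cone.pt,
      (yon S).map (mI ≫ χ) = s'.l ≫ e.inv ∧ ∀ j, mI ≫ s.cone.π.app j = s'.cone.π.app j ≫ m j := by
    intro x m h h' hx
    obtain ⟨mi, hmi⟩ := (yon S).map_surjective
      (s.sql.lift s'.l ((yon S).map s'.q ≫ x) (by rw [Category.assoc, hx]; exact s'.sql.w))
    refine ⟨mi, ?_, fun j => (yon S).map_injective ((s.sq j).hom_ext ?_ ?_)⟩
    · rw [Functor.map_comp, hmi, hχ, IsPullback.lift_fst_assoc]
    · rw [Functor.map_comp, Functor.map_comp, Category.assoc, Category.assoc, ← s.hl, h, hmi,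
        IsPullback.lift_fst_assoc, s'.hl]
    · rw [← Functor.map_comp, ← Functor.map_comp, Category.assoc, Category.assoc, s.hq, Functor.map_comp, hmi,
        IsPullback.lift_snd, Functor.map_comp, h', ← Functor.map_comp_assoc, s'.hq]
  obtain ⟨mi₁, hmi₁, hmi₁'⟩ := hχm _ m₁ hm₁ hm₁' (Category.assoc _ _ _)
  obtain ⟨mi₂, hmi₂, hmi₂'⟩ := hχm _ m₂ hm₂ hm₂' (by rw [Category.assoc, pullback.condition])
  have hmi : mi₁ ≫ χ = mi₂ ≫ χ := (yon S).map_injective (hmi₁.trans hmi₂.symm)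
  let ψ₄ := s.W.map f₄ ≫ ψ₃
  have hψ₄ : s.cone.π.app j₄ ≫ ψ₄ = χ ≫ t' := by rw [← Category.assoc, s.cone.w, hψ₃]
  obtain ⟨k, f, hk⟩ : ∃ (k : Over i₀) (f : k ⟶ j₄), s'.W.map f ≫ m₁ j₄ ≫ ψ₄ = s'.W.map f ≫ m₂ j₄ ≫ ψ₄ := by
    have key : s'.cone.π.app j₄ ≫ m₁ j₄ ≫ ψ₄ = s'.cone.π.app j₄ ≫ m₂ j₄ ≫ ψ₄ := by
      rw [← reassoc_of% hmi₁' j₄, ← reassoc_of% hmi₂' j₄, hψ₄, reassoc_of% hmi]
    obtain ⟨k, f, hf⟩ := s'.exists_eq hZ ((m₁ j₄ ≫ ψ₄).left ≫ bzFst S Z) ((m₂ j₄ ≫ ψ₄).left ≫ bzFst S Z) (by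
      simpa only [Over.comp_left, Category.assoc] using congrArg (fun m => m.left ≫ bzFst S Z) key)
    exact ⟨k, f, bz_ext (by simpa only [Over.comp_left, Category.assoc] using hf)⟩
  let ψ := s.W.map f ≫ ψ₄
  let ω := s.W.map f ≫ s.W.map f₄ ≫ ω₃
  have hωψ : ω ≫ bzMap v = ψ := by
    simp only [ω, ψ, ψ₄, Category.assoc, h₄]
  have hm : m₁ k ≫ ψ = m₂ k ≫ ψ := by
    show m₁ k ≫ s.W.map f ≫ ψ₄ = m₂ k ≫ s.W.map f ≫ ψ₄
    rw [reassoc_of% (hnat _ m₁ hm₁ hm₁' f), reassoc_of% (hnat _ m₂ hm₂ hm₂' f), hk]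
  -- descend to the stage
  let fk := s.fj k
  let mP : pullback fk fk ⟶ pullback u u := pullback.lift (pullback.fst fk fk ≫ (yon S).map (s.p k))
    (pullback.snd fk fk ≫ (yon S).map (s.p k)) (by
      rw [Category.assoc, Category.assoc, ← (s.sq k).w, ← Category.assoc, pullback.condition, Category.assoc])
  have sqP : IsPullback (pullback.fst fk fk ≫ fk) mP (D.map k.hom) (pullback.fst u u ≫ u) := by
    refine IsPullback.paste_horiz ?_ (s.sq k)
    refine (IsPullback.of_right ?_ (pullback.lift_fst _ _ _) (IsPullback.of_hasPullback u u).flip).flip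
    rw [pullback.lift_snd, ← (s.sq k).w]
    exact (IsPullback.of_hasPullback fk fk).flip.paste_horiz (s.sq k).flip
  let κ : (yon S).obj (s'.W.obj k) ⟶ pullback fk fk :=
    pullback.lift ((yon S).map (m₁ k)) ((yon S).map (m₂ k)) ((hm₁ k).trans (hm₂ k).symm)
  have sqκ : IsPullback κ ((yon S).map (s'.p k)) mP r := by
    refine IsPullback.of_right ?_ ?_ sqP
    · rw [pullback.lift_fst_assoc, hm₁]
      exact s'.sq k
    · apply pullback.hom_ext
      · rw [Category.assoc, pullback.lift_fst, pullback.lift_fst_assoc, Category.assoc, ← Functor.map_comp, hm₁']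
      · rw [Category.assoc, pullback.lift_snd, pullback.lift_snd_assoc, Category.assoc, ← Functor.map_comp, hm₂']
  haveI : Epi κ := epi_of_repWith _ (repWith_of_isPullback sqκ.flip hr) (repWith_of_isPullback sqκ.flip hrs)
  have hfk : RepWith @Etale fk := repWith_of_isPullback (s.sq k).flip hu
  haveI : Epi fk := epi_of_repWith _ hfk (repWith_of_isPullback (s.sq k).flip hus)
  obtain ⟨hcol⟩ := nonempty_isColimit_cofork fk (IsPullback.of_hasPullback fk fk)
  obtain ⟨φ, hφ⟩ : ∃ φ : D.obj k.left ⟶ (yon S).obj (bz S Z), fk ≫ φ = (yon S).map ψ := by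
    refine ⟨_, (Cofork.IsColimit.desc' hcol ((yon S).map ψ) ?_).2⟩
    rw [← cancel_epi κ, pullback.lift_fst_assoc, pullback.lift_snd_assoc, ← Functor.map_comp, ← Functor.map_comp, hm]
  have hφc : c.π.app k.left ≫ φ = e.inv ≫ (yon S).map t' := by
    rw [← cancel_epi s.l, ← Category.assoc, s.hl, Category.assoc, hφ, ← Category.assoc, ← hχ, ← Functor.map_comp,
      ← Functor.map_comp]
    simp only [ψ, ← Category.assoc, s.cone.w, hψ₄]
  -- the chart of the stage is a base change of the model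
  have hv' : IsAffineHom (bzMap (S := S) v).left :=
    MorphismProperty.of_isPullback (P := @IsAffineHom) (bzMap_sq v) (isAffineHom_of_isAffine v)
  haveI : Etale (bzMap (S := S) v).left := MorphismProperty.of_isPullback (P := @Etale) (bzMap_sq v) hve
  let vs := (yon S).map (bzMap (S := S) v)
  have sqP₀ := IsPullback.of_hasPullback φ vs
  let b₀ := pullback.fst φ vs
  have hb₀ : RepWith @IsAffineHom b₀ := repWith_of_isPullback sqP₀.flip ((repWith_yon_map_iff _ _).2 hv')
  have hb₀e : RepWith @Etale b₀ := repWith_of_isPullback sqP₀.flip ((repWith_yon_map_iff _ _).2 inferInstance)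
  let θ : (yon S).obj (s.W.obj k) ⟶ pullback φ vs :=
    pullback.lift fk ((yon S).map ω) (by rw [hφ, ← Functor.map_comp, hωψ])
  let pY := (yon S).map (s.cone.π.app k) ≫ θ
  haveI : IsAffine (s.W.obj k).left := s.aff k
  have hqW := Filtration.qcqs_of_affine (IsAlgSpace.yon_obj (s.W.obj k)) (Iso.refl _)
  have sqY : IsPullback pY s.l b₀ (c.π.app k.left) := by
    refine IsPullback.of_right ?_ ?_ sqP₀.flip
    · rw [Category.assoc, pullback.lift_snd, ← Functor.map_comp, hφc,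
        show s.cone.π.app k ≫ ω = w' by simp only [ω, ← Category.assoc, s.cone.w, hω₃]]
      exact (sqw'.map (yon S)).of_iso (Iso.refl _) (Iso.refl _) e (Iso.refl _) (by simp)
        (by simp [hχ]) (by simp [vs]) (by simp)
    · rw [Category.assoc, pullback.lift_fst]
      exact (s.hl k).symm
  have H : Setup D c θ b₀ (𝟙 _) ((yon S).map (s.cone.π.app k)) pY s.l :=
    { isAlgSpace := hD
      isAffineMor := hDa
      isLimit := ⟨hc⟩
      spX := IsAlgSpace.yon_obj _
      spY := isAlgSpace_of_representable_to (hD _) hb₀.1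
      qcX := hqW.1
      qsX := hqW.2
      qcY := qcSp_of_affine (hD _) (hqc _) hb₀
      qsY := qsSp_of_affine (hqs _) hb₀
      sqY := sqY
      sqX := IsPullback.of_bot (by rw [Category.id_comp, pullback.lift_fst]; exact (s.isPullback_stage k).flip)
        (Category.id_comp _).symm sqY }
  have hθ : LocP @LocallyOfFinitePresentation θ := fun U' V' a b h ha hb w => by
    refine locP_of_repWith etLocal_lfp
      (repWith_mono (fun ξ (_ : Etale ξ) => inferInstanceAs (LocallyOfFinitePresentation ξ)) hfk)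
      a (b ≫ b₀) h ha (repWith_comp hb hb₀e) ?_
    rw [← pullback.lift_fst fk ((yon S).map ω) (by rw [hφ, ← Functor.map_comp, hωψ]), reassoc_of% w]
  obtain ⟨j, hj⟩ := stage_isIso H hθ
  let k' : Over i₀ := Over.mk (j.hom ≫ k.hom)
  let jk : k' ⟶ k := Over.homMk j.hom
  have sqY' := IsPullback.of_hasPullback b₀ (D.map j.hom)
  have sqW := s.isPullback_map jk
  let fi := sqY'.lift ((yon S).map (s.W.map jk) ≫ θ) (s.fj k') (by
    rw [Category.assoc, pullback.lift_fst]; exact sqW.w)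
  haveI : IsIso fi := hj j (𝟙 j) _ _ fi _ _ sqY' ((yon S).map (s.W.map jk))
    (IsPullback.of_bot (by rw [sqY'.lift_snd, pullback.lift_fst]; exact sqW) (sqY'.lift_fst _ _ _).symm sqY')
  haveI : IsAffine (s.W.obj k').left := s.aff k'
  obtain ⟨T', hT', hiso⟩ := exists_affine_of_model v (D.map j.hom ≫ φ) (s.fj k') (s.W.map jk ≫ ω) (by
    refine (sqY'.paste_horiz sqP₀.flip).of_iso (asIso fi).symm (Iso.refl _) (Iso.refl _) (Iso.refl _) ?_ ?_
      (by simp [vs]) (by simp)
    · simp only [Iso.refl_hom, Category.comp_id, Iso.symm_hom, asIso_inv]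
      rw [IsIso.eq_inv_comp, sqY'.lift_fst_assoc, Category.assoc, pullback.lift_snd, ← Functor.map_comp]
    · simp only [Iso.refl_hom, Category.comp_id, Iso.symm_hom, asIso_inv]
      rw [IsIso.eq_inv_comp, sqY'.lift_snd])
  exact ⟨_, T', hT', hiso⟩

end Groth.L09.SpLimit
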