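import Groth.Agent.L09.SpLimit.PbSys
import Groth.Agent.L19.Limit.Fixed

/-!
# Eventual properties of morphisms which are eventually affine
-/

universe u

open CategoryTheory CategoryTheory.Limits AlgebraicGeometry Opposite AlgSp

set_option autoImplicit false
set_option linter.style.haveILetI false
set_option backward.isDefEq.respectTransparency false
set_option backward.isDefEq.respectTransparency.types false

noncomputable section

namespace Groth.L09.SpLimit

open Groth.L23

variable {S : Scheme.{u}} [QuasiSeparatedSpace S] {I : Type u} [SmallCategory I] [IsCofiltered I] {D : I ⥤ Sp S}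
  {c : Cone D}

/-- A property of affine morphisms which descends for schemes descends for spaces. -/
theorem eventually_of_affine {P Q : MorphismProperty Scheme.{u}} [P.IsStableUnderBaseChange]
    [P.IsStableUnderComposition] [P.IsLocalAtTarget Scheme.fppfPrecoverage] [Q.IsStableUnderBaseChange]
    (hP : ∀ {A B : Scheme.{u}} (φ : A ⟶ B), P φ → IsAffineHom φ)
    (hQ : ∀ {A B : Scheme.{u}} (φ : A ⟶ B), Q φ → IsAffineHom φ)
    (hd : ∀ {J : Type u} [Category.{u} J] [IsCofiltered J] {E : J ⥤ Scheme.{u}} {cE : Cone E}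
      (_ : IsLimit cE) (_ : ∀ {i j} (f : i ⟶ j), P (E.map f)) {i : J} [IsAffine (E.obj i)] {B : Scheme.{u}}
      [IsAffine B] (a : E.obj i ⟶ B) [LocallyOfFiniteType a], Q (cE.π.app i ≫ a) →
      ∃ (j : J) (φ : j ⟶ i), P (E.map φ ≫ a))
    (hD : ∀ i, IsAlgSpace (D.obj i)) (hDP : ∀ (i j : I) (φ : i ⟶ j), RepWith P (D.map φ)) (hc : IsLimit c)
    {Y : Sp S} (hY : IsAlgSpace Y) (t : D ⟶ (Functor.const I).obj Y) (g : c.pt ⟶ Y)
    (hg : ∀ i, c.π.app i ≫ t.app i = g) (hqc : ∀ i, IsQuasiCompactSp (D.obj i))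
    (hqs : ∀ i, IsQuasiSeparatedSp (D.obj i)) (hYqc : IsQuasiCompactSp Y) (hYqs : IsQuasiSeparatedSp Y)
    (hft : ∀ i, LocP @LocallyOfFiniteType (t.app i)) (hX : RepWith Q g) :
    ∃ i₀ : I, ∀ (i : I) (_ : i ⟶ i₀), RepWith P (t.app i) := by
  have hDa : ∀ (i j : I) (φ : i ⟶ j), IsAffineMor (D.map φ) := fun i j φ =>
    isAffineMor_iff.2 (repWith_mono (fun ψ h => hP ψ h) (hDP i j φ))
  obtain ⟨i₁, hi₁⟩ := eventually_isAffineMor hD hDa hc hY t g hg hqc hqs hYqc hYqs
    (isAffineMor_iff.2 (repWith_mono (fun ψ h => hQ ψ h) hX))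
  obtain ⟨T, p, hT, hp, hps⟩ := Qs.exists_affine_atlas hY hYqc
  haveI := hT
  obtain ⟨U, b, u, squ, hU⟩ := hi₁ i₁ (𝟙 _) hT p
  haveI := hU
  have hu : RepWith @Etale u := repWith_of_isPullback squ.flip hp
  obtain ⟨s⟩ := exists_sys hDa hc u
  have htk : ∀ k : Over i₁, t.app k.left = D.map k.hom ≫ t.app i₁ := fun k =>
    ((t.naturality k.hom).trans (Category.comp_id _)).symm
  have sqk : ∀ k : Over i₁, IsPullback (s.fj k) ((yon S).map (s.p k ≫ b)) (t.app k.left) p := fun k => by
    rw [htk, Functor.map_comp]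
    exact (s.sq k).paste_vert squ
  have hWP : ∀ {j k : Over i₁} (f : j ⟶ k), P (s.W.map f).left := fun {j k} f =>
    repWith_prop (hDP _ _ _) (s.isPullback_map f).flip
  let E := s.W ⋙ Over.forget S
  let top : Over i₁ := Over.mk (𝟙 i₁)
  haveI : IsAffine (E.obj top) := s.aff top
  let a : E.obj top ⟶ T.left := (s.p top ≫ b).left
  haveI : LocallyOfFiniteType a :=
    hft i₁ (s.fj top) p (s.p top ≫ b) (repWith_of_isPullback (s.sq top).flip hu) hp (sqk top).w
  have hQ' : Q (((Over.forget S).mapCone s.cone).π.app top ≫ a) := by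
    show Q ((s.cone.π.app top).left ≫ (s.p top ≫ b).left)
    rw [← Over.comp_left, ← Category.assoc, s.hq top]
    refine repWith_prop hX (fst := s.l) (g := p) ?_
    rw [← hg i₁, Functor.map_comp]
    exact s.sql.paste_vert squ
  obtain ⟨j, φ, hj⟩ := hd (E := E) s.isLimit (fun f => hWP f) a hQ'
  have hjP : P (s.p j ≫ b).left := by
    rw [← s.map_p φ, Category.assoc, Over.comp_left]
    exact hj
  refine ⟨j.left, fun i ψ => ?_⟩
  rw [show t.app i = D.map ψ ≫ t.app j.left from ((t.naturality ψ).trans (Category.comp_id _)).symm]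
  refine repWith_comp (hDP _ _ ψ) ?_
  haveI := isLocallySurjective_of_etale p hp hps
  exact (repWith_iff_of_chart (isAffineMor_iff.1 (hi₁ j.left j.hom)).1 (sqk j)).2 hjP

end Groth.L09.SpLimit
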