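import Groth.Agent.L09.SpLimit.System
import Groth.Agent.L23.LocP
import Groth.Agent.L23.QsTop
import Groth.Agent.L23.MorCalc
import Groth.Agent.L19.Limit.Immersion

/-!
# Base change of an affine chart of a morphism to a stage
-/

universe u

open CategoryTheory CategoryTheory.Limits AlgebraicGeometry Opposite AlgSp

set_option autoImplicit false
set_option linter.style.haveILetI false
set_option backward.isDefEq.respectTransparency false
set_option backward.isDefEq.respectTransparency.types false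

noncomputable section

namespace Groth.L09.SpLimit

open Groth.L23

variable {S : Scheme.{u}}

/-- A chart `U ⟶ T` of `f₀ : X₀ ⟶ Y₀` induces one of its base change along `B' ⟶ B`. -/
theorem chart_bc {B B' X₀ Y₀ X' Y' : Sp S} {f₀ : X₀ ⟶ Y₀} {b₀ : Y₀ ⟶ B} {g : B' ⟶ B}
    {f' : X' ⟶ Y'} {pY : Y' ⟶ Y₀} {qY : Y' ⟶ B'} (hY : IsPullback pY qY b₀ g)
    {pX : X' ⟶ X₀} (hX : IsPullback pX f' f₀ pY)
    {T U : Over S} {p : (yon S).obj T ⟶ Y₀} {u : (yon S).obj U ⟶ X₀} {h : U ⟶ T}
    (w : u ≫ f₀ = (yon S).map h ≫ p) {W : Over S} {r : W ⟶ T} {l : (yon S).obj W ⟶ B'}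
    (sql : IsPullback l ((yon S).map r) g (p ≫ b₀)) :
    ∃ (b : (yon S).obj W ⟶ Y') (a : (yon S).obj (pullback h r) ⟶ X'),
      IsPullback ((yon S).map r) b p pY ∧ IsPullback ((yon S).map (pullback.fst h r)) a u pX ∧
      a ≫ f' = (yon S).map (pullback.snd h r) ≫ b := by
  let b : (yon S).obj W ⟶ Y' := hY.lift ((yon S).map r ≫ p) l (by rw [Category.assoc, ← sql.w])
  have hb₁ : b ≫ pY = (yon S).map r ≫ p := hY.lift_fst _ _ _
  have hb₂ : b ≫ qY = l := hY.lift_snd _ _ _
  have sqb : IsPullback ((yon S).map r) b p pY :=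
    IsPullback.of_right (h₁₁ := b) (h₁₂ := qY) (by rw [hb₂]; exact sql) hb₁ hY.flip |>.flip
  have sqh := (IsPullback.of_hasPullback h r).map (yon S)
  have sqU : IsPullback ((yon S).map (pullback.fst h r)) ((yon S).map (pullback.snd h r) ≫ b) (u ≫ f₀) pY := by
    rw [w]
    exact sqh.paste_vert sqb
  let a : (yon S).obj (pullback h r) ⟶ X' := hX.lift ((yon S).map (pullback.fst h r) ≫ u)
    ((yon S).map (pullback.snd h r) ≫ b) (by rw [Category.assoc]; exact sqU.w)
  have ha₁ : a ≫ pX = (yon S).map (pullback.fst h r) ≫ u := hX.lift_fst _ _ _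
  have ha₂ : a ≫ f' = (yon S).map (pullback.snd h r) ≫ b := hX.lift_snd _ _ _
  refine ⟨b, a, sqb, ?_, ha₂⟩
  refine IsPullback.of_bot ?_ ha₁.symm hX
  rw [ha₂]
  exact sqU

/-- The property on the base change of a chart, in terms of `Pb`. -/
theorem pb_iff {P : MorphismProperty Scheme.{u}} [P.IsStableUnderBaseChange] {T U W : Over S}
    (h : U ⟶ T) (r : W ⟶ T) : P (pullback.snd h r).left ↔ Groth.L19.Limit.Pb P h.left r.left :=
  Groth.L19.Limit.pb_iff_of_isPullback ((IsPullback.of_hasPullback h r).map (Over.forget S))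

/-- Affine charts of a morphism between qcqs spaces. -/
theorem exists_affine_chart [QuasiSeparatedSpace S] {X Y : Sp S} (hX : IsAlgSpace X) (hY : IsAlgSpace Y)
    (hXqc : IsQuasiCompactSp X) (hYqc : IsQuasiCompactSp Y) (hYqs : IsQuasiSeparatedSp Y) (f : X ⟶ Y) :
    ∃ (U T : Over S) (p : (yon S).obj T ⟶ Y) (v : (yon S).obj U ⟶ pullback f p) (h : U ⟶ T),
      IsAffine U.left ∧ IsAffine T.left ∧ RepWith @Etale v ∧ RepWith @Surjective v ∧ RepWith @Etale p ∧
      RepWith @Surjective p ∧ v ≫ pullback.snd f p = (yon S).map h := by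
  obtain ⟨T, p, hT, hp, hps⟩ := Qs.exists_affine_atlas hY hYqc
  haveI := hT
  have sq := IsPullback.of_hasPullback f p
  have hP := isAlgSpace_of_isPullback hY.diag hX (IsAlgSpace.yon_obj T) sq
  have hPqc : IsQuasiCompactSp (pullback f p) :=
    qcMor_of_qc_source (IsAlgSpace.yon_obj T) hY isQuasiCompactSp_of_compactSpace hYqs p hX hXqc f _ _ sq.flip
  obtain ⟨U, v, hU, hv, hvs⟩ := Qs.exists_affine_atlas hP hPqc
  obtain ⟨h, hh⟩ := (yon S).map_surjective (v ≫ pullback.snd f p)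
  exact ⟨U, T, p, v, h, hU, hT, hv, hvs, hp, hps, hh.symm⟩

end Groth.L09.SpLimit
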