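import Groth.Agent.L09.SpLimit.Affine
import Groth.Agent.L23.SchemeFacts
import Groth.Agent.L23.Epi
import Groth.Agent.L19.Limit.Fixed

/-!
# A system with closed transition maps and finitely presented limit stabilizes
-/

universe u

open CategoryTheory CategoryTheory.Limits AlgebraicGeometry Opposite AlgSp

set_option autoImplicit false
set_option linter.style.haveILetI false
set_option linter.unusedSectionVars false
set_option backward.isDefEq.respectTransparency false
set_option backward.isDefEq.respectTransparency.types false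

noncomputable section

namespace Groth.L09.SpLimit

open Groth.L23

variable {J : Type u} [Category.{u} J] [IsCofiltered J]

open Groth.L19.Limit in
theorem exists_isIso_π_scheme {E : J ⥤ Scheme.{u}} {cE : Cone E} (hE : IsLimit cE) [∀ j, IsAffine (E.obj j)]
    (htr : ∀ {i j} (f : i ⟶ j), IsClosedImmersion (E.map f)) (i : J)
    [LocallyOfFinitePresentation (cE.π.app i)] :
    ∃ j : J, ∀ (k : J) (_ : k ⟶ j), IsIso (cE.π.app k) := by
  classical
  haveI : ∀ {i j} (f : i ⟶ j), IsAffineHom (E.map f) := fun f => isAffineHom_of_isAffine _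
  haveI : IsAffine cE.pt := Scheme.isAffine_of_isLimit cE hE
  haveI : IsAffine (((Functor.const J).obj cE.pt).obj i) := ‹IsAffine cE.pt›
  let ρ := (cE.π.app i).appTop.hom
  have hρ : ρ.FinitePresentation :=
    (HasRingHomProperty.iff_of_isAffine (P := @LocallyOfFinitePresentation)).1 inferInstance
  have hρs : Function.Surjective ρ := fun z => by
    obtain ⟨l, z', hz⟩ := exists_appTop_π_eq_of_isLimit E cE hE z
    haveI := htr (IsCofiltered.minToRight l i)
    obtain ⟨x, hx⟩ := Scheme.Hom.app_surjective (E.map (IsCofiltered.minToRight l i)) ⊤ (isAffineOpen_top _)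
      ((E.map (IsCofiltered.minToLeft l i)).appTop z')
    refine ⟨x, ?_⟩
    have h : (cE.π.app (IsCofiltered.min l i)).appTop ((E.map (IsCofiltered.minToRight l i)).appTop x) =
        (cE.π.app (IsCofiltered.min l i)).appTop ((E.map (IsCofiltered.minToLeft l i)).appTop z') := congrArg _ hx
    rw [← appTop_apply, ← appTop_apply, cE.w, cE.w] at h
    exact h.trans hz.symm
  obtain ⟨G, hG⟩ : (RingHom.ker ρ).FG := by
    letI := ρ.toAlgebra
    haveI : Algebra.FinitePresentation Γ(E.obj i, ⊤) Γ(((Functor.const J).obj cE.pt).obj i, ⊤) := hρ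
    exact Algebra.FinitePresentation.ker_fG_of_surjective (Algebra.ofId _ _) hρs
  have key : ∀ x, ρ x = 0 → ∃ (k : J) (φ : k ⟶ i), (E.map φ).appTop x = 0 := fun x hx => by
    obtain ⟨k, φ, h⟩ := exists_app_map_eq_map_of_isLimit E cE hE (i := i) (U := ⊤) isCompact_univ x 0
      (hx.trans (map_zero ρ).symm)
    exact ⟨k, φ, h.trans (map_zero _)⟩
  choose k φ hk using fun x : G => key x (RingHom.mem_ker.1 (hG.le (Ideal.subset_span x.2)))
  obtain ⟨l, hl⟩ := IsCofiltered.inf_objs_exists
    (Finset.univ.image (fun x : G => (Over.mk (φ x) : Over i)))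
  refine ⟨l.left, fun m ψ => ?_⟩
  let a : m ⟶ i := ψ ≫ l.hom
  have hker : RingHom.ker ρ ≤ RingHom.ker (E.map a).appTop.hom := by
    rw [← hG, Ideal.span_le]
    intro x hx
    obtain ⟨u⟩ := hl (Finset.mem_image_of_mem _ (Finset.mem_univ (⟨x, hx⟩ : G)))
    show (E.map a).appTop x = 0
    rw [show a = (ψ ≫ u.left) ≫ φ ⟨x, hx⟩ by simp only [a, Category.assoc]; exact congrArg _ (Over.w u).symm,
      E.map_comp, appTop_apply (E.map (ψ ≫ u.left))]
    exact (congrArg _ (hk ⟨x, hx⟩)).trans (map_zero _)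
  haveI := htr a
  haveI : IsAffine (((Functor.const J).obj cE.pt).obj m) := ‹IsAffine cE.pt›
  have hcomp : ∀ x, (cE.π.app m).appTop ((E.map a).appTop x) = ρ x := fun x => by
    rw [← appTop_apply, cE.w]; rfl
  have hbij : Function.Bijective (cE.π.app m).appTop.hom := by
    refine ⟨(injective_iff_map_eq_zero _).2 fun y hy => ?_, fun z => ?_⟩
    · obtain ⟨x, rfl⟩ := Scheme.Hom.app_surjective (E.map a) ⊤ (isAffineOpen_top _) y
      exact hker (RingHom.mem_ker.2 ((hcomp x).symm.trans hy))
    · obtain ⟨x, hx⟩ := hρs z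
      exact ⟨(E.map a).appTop x, (hcomp x).trans hx⟩
  haveI : IsIso (cE.π.app m).appTop := (ConcreteCategory.isIso_iff_bijective _).2 hbij
  exact ((HasAffineProperty.iff_of_isAffine (P := MorphismProperty.isomorphisms Scheme) (f := cE.π.app m)).2 ⟨inferInstance, inferInstance⟩ : _)

variable {S : Scheme.{u}} {I : Type u} [SmallCategory I] [IsCofiltered I] {D : I ⥤ Sp S} {c : Cone D}

theorem eventually_isIso_π (hD : ∀ i, IsAlgSpace (D.obj i))
    (hDc : ∀ (i j : I) (φ : i ⟶ j), RepWith @IsClosedImmersion (D.map φ)) (hc : IsLimit c) {B : Sp S}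
    (hB : IsAlgSpace B) (t : D ⟶ (Functor.const I).obj B) (i₁ : I) (hqc : IsQuasiCompactSp (D.obj i₁))
    (hft : LocP @LocallyOfFiniteType (t.app i₁))
    (hX : LocP @LocallyOfFinitePresentation (c.π.app i₁ ≫ t.app i₁)) :
    ∃ i₀ : I, ∀ (i : I) (_ : i ⟶ i₀), IsIso (c.π.app i) := by
  have hDa : ∀ (i j : I) (φ : i ⟶ j), IsAffineMor (D.map φ) := fun i j φ =>
    isAffineMor_iff.2 (repWith_mono (fun ψ (_ : IsClosedImmersion ψ) => inferInstanceAs (IsAffineHom ψ)) (hDc i j φ))
  obtain ⟨U₀, u₀, hU₀, hu₀, hu₀s⟩ := Qs.exists_affine_atlas (hD i₁) hqc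
  haveI := hU₀
  obtain ⟨V, b, hb, hbs⟩ := hB.atlas
  obtain ⟨U, e, m, hU, he, hes, hm⟩ := exists_affine_refine hb hbs (u₀ ≫ t.app i₁)
  haveI := hU
  let u := (yon S).map e ≫ u₀
  have hu : RepWith @Etale u := repWith_comp (repWith_map he) hu₀
  have hus : RepWith @Surjective u := repWith_comp (repWith_map hes) hu₀s
  obtain ⟨s⟩ := exists_sys hDa hc u
  let E := s.W ⋙ Over.forget S
  haveI : ∀ j, IsAffine (E.obj j) := s.aff
  haveI : IsAffine ((Over.forget S).mapCone s.cone).pt := Scheme.isAffine_of_isLimit _ s.isLimit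
  let top : Over i₁ := Over.mk (𝟙 i₁)
  have hm' : (yon S).map m ≫ b = u ≫ t.app i₁ := by rw [hm, Category.assoc]
  have hl : RepWith @Etale s.l := repWith_of_isPullback s.sql.flip hu
  haveI : LocallyOfFiniteType m.left := hft u b m hu hb hm'.symm
  have h₁ : LocallyOfFinitePresentation (s.q.left ≫ m.left) :=
    hX s.l b (s.q ≫ m) hl hb (by rw [reassoc_of% s.sql.w, Functor.map_comp]; simp only [u, Category.assoc, hm'])
  haveI hlfp : LocallyOfFinitePresentation s.q.left := lfp_of_comp_lft _ m.left h₁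
  haveI : IsClosedImmersion (s.p top).left := repWith_prop (hDc _ _ top.hom) (s.sq top)
  haveI : LocallyOfFinitePresentation (((Over.forget S).mapCone s.cone).π.app top) := by
    refine lfp_of_comp_lft _ (s.p top).left ?_
    show LocallyOfFinitePresentation ((s.cone.π.app top).left ≫ (s.p top).left)
    rw [← Over.comp_left, s.hq top]
    exact hlfp
  obtain ⟨j, hj⟩ := exists_isIso_π_scheme (E := E) s.isLimit
    (fun f => repWith_prop (hDc _ _ _) (s.isPullback_map f).flip) top
  refine ⟨j.left, fun i φ => ?_⟩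
  let k : Over i₁ := Over.mk (φ ≫ j.hom)
  haveI : IsIso ((Over.forget S).map (s.cone.π.app k)) := hj k (Over.homMk φ)
  haveI : IsIso (s.cone.π.app k) := isIso_of_reflects_iso _ (Over.forget S)
  have hk : RepWith @Etale (s.fj k) := repWith_of_isPullback (s.sq k).flip hu
  have hks : RepWith @Surjective (s.fj k) := repWith_of_isPullback (s.sq k).flip hus
  have := epi_of_repWith _ hk hks
  have sq := s.isPullback_stage k
  haveI : Mono ((yon S).map (s.cone.π.app k)) := inferInstance
  haveI : Mono (c.π.app k.left) := mono_of_cover _ (s.fj k) hk hks sq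
  haveI : Epi (c.π.app k.left) := by
    have e : inv ((yon S).map (s.cone.π.app k)) ≫ s.l ≫ c.π.app k.left = s.fj k := by
      rw [sq.w, IsIso.inv_hom_id_assoc]
    rw [← Category.assoc] at e
    haveI : Epi ((inv ((yon S).map (s.cone.π.app k)) ≫ s.l) ≫ c.π.app k.left) := by rw [e]; assumption
    exact epi_of_epi (inv ((yon S).map (s.cone.π.app k)) ≫ s.l) _
  exact isIso_of_mono_of_epi (c.π.app k.left)

end Groth.L09.SpLimit
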