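import Groth.Agent.L09.SpLimit.Props
import Groth.Agent.L23.LqfRep
import Groth.Agent.L19.Limit.Finite
import Groth.Agent.L19.Limit.QuasiFinite
import Groth.Agent.L09.Where.Mono

/-!
# Descent of injectivity, isomorphisms, separatedness and finiteness along limits
-/

universe u

open CategoryTheory CategoryTheory.Limits AlgebraicGeometry Opposite AlgSp

set_option autoImplicit false
set_option linter.style.haveILetI false
set_option linter.unusedSectionVars false
set_option backward.isDefEq.respectTransparency false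
set_option backward.isDefEq.respectTransparency.types false

noncomputable section

namespace Groth.L09.SpLimit

open Groth.L23 Groth.L19.Limit

variable {S : Scheme.{u}}

theorem qsMor_of_qsSp {X Y : Sp S} (hX : IsQuasiSeparatedSp X) (f : X ⟶ Y) : IsQuasiSeparatedMor f := by
  have : Mono (prod.lift (pullback.fst f f) (pullback.snd f f)) := isPullback_lift (IsPullback.of_hasPullback f f)
  refine repWith_of_comp_mono (m := prod.lift (pullback.fst f f) (pullback.snd f f)) ?_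
  rwa [show pullback.diagonal f ≫ prod.lift (pullback.fst f f) (pullback.snd f f) = Limits.diag X by ext <;> simp]

theorem qsSp_of_qsMor {X Y : Sp S} (hY : IsQuasiSeparatedSp Y) {f : X ⟶ Y} (hf : IsQuasiSeparatedMor f) :
    IsQuasiSeparatedSp X := by
  show RepWith _ (Limits.diag X)
  rw [show Limits.diag X = pullback.diagonal f ≫ prod.lift (pullback.fst f f) (pullback.snd f f) by ext <;> simp]
  exact repWith_comp hf (repWith_of_isPullback (isPullback_diag (IsPullback.of_hasPullback f f)) hY)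

theorem qsSp_of_affine {X Y : Sp S} (hY : IsQuasiSeparatedSp Y) {f : X ⟶ Y} (hf : RepWith @IsAffineHom f) :
    IsQuasiSeparatedSp X :=
  qsSp_of_qsMor hY ((isQuasiSeparatedMor_iff hf.1).2
    (repWith_mono (fun φ (_ : IsAffineHom φ) => inferInstanceAs (QuasiSeparated φ)) hf))

theorem qcSp_of_affine {X Y : Sp S} (hYsp : IsAlgSpace Y) (hY : IsQuasiCompactSp Y) {f : X ⟶ Y}
    (hf : RepWith @IsAffineHom f) : IsQuasiCompactSp X :=
  isQuasiCompactMor_of_repWith (repWith_mono (fun φ (_ : IsAffineHom φ) => inferInstanceAs (QuasiCompact φ)) hf)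
    hYsp hY (𝟙 Y) (𝟙 X) f IsPullback.of_id_fst

variable [QuasiSeparatedSpace S] {I : Type u} [SmallCategory I] [IsCofiltered I] {D : I ⥤ Sp S} {i₀ : I}
  {X₀ Y₀ : Sp S} {c : Cone D} {f₀ : X₀ ⟶ Y₀} {b₀ : Y₀ ⟶ D.obj i₀} {X Y : Sp S} {f : X ⟶ Y} {pX : X ⟶ X₀}
  {pY : Y ⟶ Y₀} {qY : Y ⟶ c.pt}

theorem Setup.spTop (H : Setup D c f₀ b₀ f pX pY qY) : IsAlgSpace X ∧ IsAlgSpace Y := by
  obtain ⟨hc⟩ := H.isLimit
  have haff : IsAffineMor (c.π.app i₀) := fun T hT a => by
    haveI := hT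
    obtain ⟨W, q, l, sq, hW, -⟩ := LimReduced.isPullback_limit H.isAffineMor hc a
    exact ⟨W, q, l, sq, hW⟩
  have hY := isAlgSpace_of_representable_to H.spY
    (repWith_of_isPullback H.sqY.flip (repWith_isAffineHom_of_isAffineMor haff)).1
  exact ⟨isAlgSpace_of_isPullback H.spY.diag H.spX hY H.sqX, hY⟩

theorem Setup.spStage (H : Setup D c f₀ b₀ f pX pY qY) {k : Over i₀} {Xi Yi : Sp S} {fi : Xi ⟶ Yi}
    {pYi : Yi ⟶ Y₀} {qYi : Yi ⟶ D.obj k.left} (hYi : IsPullback pYi qYi b₀ (D.map k.hom))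
    {pXi : Xi ⟶ X₀} (hXi : IsPullback pXi fi f₀ pYi) : IsAlgSpace Xi ∧ IsAlgSpace Yi := by
  have hY := isAlgSpace_of_representable_to H.spY
    (repWith_of_isPullback hYi.flip (repWith_isAffineHom_of_isAffineMor (H.isAffineMor _ _ _))).1
  exact ⟨isAlgSpace_of_isPullback H.spY.diag H.spX hY hXi, hY⟩

/-- The setup of the diagonal. -/
theorem Setup.diagonal (H : Setup D c f₀ b₀ f pX pY qY) :
    Setup D c (pullback.diagonal f₀) ((pullback.fst f₀ f₀ ≫ f₀) ≫ b₀) (pullback.diagonal f) pX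
      (diagComp H.sqX) ((pullback.fst f f ≫ f) ≫ qY) where
  isAlgSpace := H.isAlgSpace
  isAffineMor := H.isAffineMor
  isLimit := H.isLimit
  spX := H.spX
  spY := isAlgSpace_of_isPullback H.spY.diag H.spX H.spX (IsPullback.of_hasPullback f₀ f₀)
  qcX := H.qcX
  qsX := H.qsX
  qcY := qcMor_of_qc_source H.spX H.spY H.qcX H.qsY f₀ H.spX H.qcX f₀ _ _ (IsPullback.of_hasPullback f₀ f₀)
  qsY := isQuasiSeparatedSp_of_isPullback (IsPullback.of_hasPullback f₀ f₀) H.qsX H.qsY H.qsX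
  sqY := (isPullback_diagComp H.sqX).flip.paste_vert H.sqY
  sqX := isPullback_diagonal H.sqX

theorem stage_of_diagonal {R : MorphismProperty (Sp S)}
    (h : Stage D (pullback.diagonal f₀) ((pullback.fst f₀ f₀ ≫ f₀) ≫ b₀) R) :
    Stage D f₀ b₀ (fun _ _ φ => R (pullback.diagonal φ)) := by
  obtain ⟨j, hj⟩ := h
  exact ⟨j, fun k ψ Xi Yi fi pYi qYi hYi pXi hXi => hj k ψ _ _ _ (diagComp hXi) _
    ((isPullback_diagComp hXi).flip.paste_vert hYi) pXi (isPullback_diagonal hXi)⟩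

theorem surjective_diagonal_of_univInjective {A B : Sp S} (hA : IsAlgSpace A) {φ : A ⟶ B}
    (h : IsUnivInjectiveMor φ) : IsSurjectiveMor (pullback.diagonal φ) :=
  surjective_diagonal_of_fieldInjective fun K _ str => injective_comp_of_univInjective hA h K str

theorem stage_univInjective (H : Setup D c f₀ b₀ f pX pY qY) (hf₀ : LocP @LocallyOfFiniteType f₀)
    (hf : IsUnivInjectiveMor f) : Stage D f₀ b₀ IsUnivInjectiveMor :=
  (stage_of_diagonal (stage_surjective H.diagonal (locP_lfp_diagonal_of_lft H.spX H.spY hf₀)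
    (surjective_diagonal_of_univInjective H.spTop.1 hf))).mono fun _ h =>
    isUnivInjectiveMor_of_surjective_diagonal h

theorem surjective_of_iso {A B : Sp S} (φ : A ⟶ B) [IsIso φ] : IsSurjectiveMor φ := fun b =>
  ⟨Points.map (inv φ) b, by rw [← Points.map_comp, IsIso.inv_hom_id, Points.map_id]⟩

theorem univInjective_of_iso {A B : Sp S} (φ : A ⟶ B) [IsIso φ] : IsUnivInjectiveMor φ :=
  isUnivInjectiveMor_of_surjective_diagonal (surjective_of_iso _)

theorem stage_isIso (H : Setup D c f₀ b₀ f pX pY qY) (hf₀ : LocP @LocallyOfFinitePresentation f₀)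
    [IsIso f] : Stage D f₀ b₀ (MorphismProperty.isomorphisms (Sp S)) := by
  have h₁ := stage_etale H hf₀ (locP_of_repWith etLocal_etale (repWith_of_isIso f))
  have h₂ := stage_surjective H hf₀ (surjective_of_iso f)
  have h₃ := stage_univInjective H (locP_mono (fun φ (_ : LocallyOfFinitePresentation φ) => show LocallyOfFiniteType φ from inferInstance) hf₀)
    (univInjective_of_iso f)
  obtain ⟨j, hj⟩ := (h₁.and h₂).and h₃
  refine ⟨j, fun k ψ Xi Yi fi pYi qYi hYi pXi hXi => ?_⟩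
  obtain ⟨⟨he, hs⟩, hi⟩ := hj k ψ Xi Yi fi pYi qYi hYi pXi hXi
  obtain ⟨hXs, hYs⟩ := H.spStage hYi hXi
  exact isIso_of_openImmersion_surjective (repWith_isOpenImmersion_of_etale_univInjective hXs hYs he hi) hs

theorem stage_mono (H : Setup D c f₀ b₀ f pX pY qY) (hf₀ : LocP @LocallyOfFiniteType f₀)
    [Mono f] : Stage D f₀ b₀ (MorphismProperty.monomorphisms (Sp S)) := by
  haveI : IsIso (pullback.diagonal f) := (pullback.isIso_diagonal_iff f).2 inferInstance
  exact (stage_of_diagonal (stage_isIso H.diagonal (locP_lfp_diagonal_of_lft H.spX H.spY hf₀))).mono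
    fun φ (h : IsIso (pullback.diagonal φ)) => (pullback.isIso_diagonal_iff φ).1 h

/-- Descent for representable morphisms. -/
theorem stage_repWith (H : Setup D c f₀ b₀ f pX pY qY) {P : MorphismProperty Scheme.{u}}
    [P.IsStableUnderBaseChange] [P.IsLocalAtTarget Scheme.fppfPrecoverage] (hd : Descends P qcqsft.{u})
    (hr : Representable f₀) (hf₀ : LocP @LocallyOfFiniteType f₀) (hf : RepWith P f) :
    Stage D f₀ b₀ (RepWith P) := by
  obtain ⟨T, p, hT, hp, hps⟩ := Qs.exists_affine_atlas H.spY H.qcY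
  haveI := hT
  let h := hr.snd p
  have sqp := hr.isPullback p
  have hqc : QuasiCompact h.left := repWith_prop
    (repWith_quasiCompact_of_isQuasiCompactMor hr (qcMor_of_qc_source H.spX H.spY H.qcX H.qsY f₀)) sqp
  have hqs : QuasiSeparated h.left := repWith_prop
    ((isQuasiSeparatedMor_iff hr).1 (qsMor_of_qsSp H.qsX f₀)) sqp
  have hft : LocallyOfFiniteType h.left := repWith_prop (repWith_of_locP etLocal_lft H.spY hr hf₀) sqp
  obtain ⟨hc⟩ := H.isLimit
  obtain ⟨s⟩ := exists_sys H.isAffineMor hc (p ≫ b₀)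
  obtain ⟨b, a, sqb, sqa, wa⟩ := chart_bc H.sqY H.sqX sqp.w s.sql
  have sqf : IsPullback a ((yon S).map (pullback.snd h s.q)) f b := by
    refine IsPullback.of_right ?_ wa H.sqX
    rw [← sqb.w, ← sqa.w]
    exact ((IsPullback.of_hasPullback h s.q).map (yon S)).paste_horiz sqp
  obtain ⟨j, hj⟩ := s.descend hd h.left ⟨⟨hqc, hqs⟩, hft⟩ ((pb_iff h s.q).1 (repWith_prop hf sqf))
  refine ⟨j, fun k ψ Xi Yi fi pYi qYi hYi pXi hXi => ?_⟩
  obtain ⟨b', a', sqb', sqa', wa'⟩ := chart_bc hYi hXi sqp.w (s.sq k)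
  have sqf' : IsPullback a' ((yon S).map (pullback.snd h (s.p k))) fi b' := by
    refine IsPullback.of_right ?_ wa' hXi
    rw [← sqb'.w, ← sqa'.w]
    exact ((IsPullback.of_hasPullback h (s.p k)).map (yon S)).paste_horiz sqp
  haveI := isLocallySurjective_of_etale b' (repWith_of_isPullback sqb' hp) (repWith_of_isPullback sqb' hps)
  exact (repWith_iff_of_chart (representable_of_isPullback hXi hr) sqf').2
    ((pb_iff h (s.p k)).2 (hj k ψ))

theorem stage_separated (H : Setup D c f₀ b₀ f pX pY qY) (hf : IsSeparatedMor f) :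
    Stage D f₀ b₀ IsSeparatedMor := by
  haveI : MorphismProperty.IsLocalAtTarget (@IsClosedImmersion : MorphismProperty Scheme.{u}) Scheme.fppfPrecoverage :=
    isLocalAtTarget_fppf _
  have hd := diagonal_properties H.spX f₀
  exact stage_of_diagonal (stage_repWith H.diagonal descends_isClosedImmersion hd.1
    (locP_of_repWith etLocal_lft (repWith_mono (fun φ h => h.1) hd)) hf)

/-- Restarting from a later stage. -/
theorem stage_of_later (H : Setup D c f₀ b₀ f pX pY qY) (j : Over i₀) {R : MorphismProperty (Sp S)}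
    (h : ∀ {X₁ Y₁ : Sp S} {f₁ : X₁ ⟶ Y₁} {b₁ : Y₁ ⟶ D.obj j.left} {p₁ : Y₁ ⟶ Y₀} {x₁ : X₁ ⟶ X₀}
      {pX₁ : X ⟶ X₁} {pY₁ : Y ⟶ Y₁},
      IsPullback p₁ b₁ b₀ (D.map j.hom) → IsPullback x₁ f₁ f₀ p₁ →
      Setup D c f₁ b₁ f pX₁ pY₁ qY → Stage D f₁ b₁ R) :
    Stage D f₀ b₀ R := by
  let Y₁ := pullback b₀ (D.map j.hom)
  have sqY₁ : IsPullback (pullback.fst b₀ (D.map j.hom)) (pullback.snd b₀ (D.map j.hom)) b₀ (D.map j.hom) :=
    IsPullback.of_hasPullback _ _
  have sqX₁ := IsPullback.of_hasPullback f₀ (pullback.fst b₀ (D.map j.hom))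
  let pY₁ : Y ⟶ Y₁ := sqY₁.lift pY (qY ≫ c.π.app j.left) (by rw [Category.assoc, c.w, H.sqY.w])
  let pX₁ : X ⟶ pullback f₀ (pullback.fst b₀ (D.map j.hom)) := sqX₁.lift pX (f ≫ pY₁)
    (by rw [Category.assoc, sqY₁.lift_fst, H.sqX.w])
  have hY : RepWith @IsAffineHom (pullback.fst b₀ (D.map j.hom)) :=
    repWith_of_isPullback sqY₁.flip (repWith_isAffineHom_of_isAffineMor (H.isAffineMor _ _ _))
  have hX : RepWith @IsAffineHom (pullback.fst f₀ (pullback.fst b₀ (D.map j.hom))) :=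
    repWith_of_isPullback sqX₁.flip hY
  have H₁ : Setup D c (pullback.snd f₀ (pullback.fst b₀ (D.map j.hom))) (pullback.snd b₀ (D.map j.hom))
      f pX₁ pY₁ qY :=
    { isAlgSpace := H.isAlgSpace
      isAffineMor := H.isAffineMor
      isLimit := H.isLimit
      spX := isAlgSpace_of_representable_to H.spX hX.1
      spY := isAlgSpace_of_representable_to H.spY hY.1
      qcX := qcSp_of_affine H.spX H.qcX hX
      qsX := qsSp_of_affine H.qsX hX
      qcY := qcSp_of_affine H.spY H.qcY hY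
      qsY := qsSp_of_affine H.qsY hY
      sqY := IsPullback.of_bot (by rw [sqY₁.lift_fst, c.w]; exact H.sqY.flip)
        (sqY₁.lift_snd _ _ _).symm sqY₁.flip |>.flip
      sqX := IsPullback.of_right (by rw [sqX₁.lift_fst]; rw [sqY₁.lift_fst]; exact H.sqX)
        (sqX₁.lift_snd _ _ _) sqX₁ }
  obtain ⟨l, hl⟩ := h sqY₁ sqX₁ H₁
  refine ⟨Over.mk (l.hom ≫ j.hom), fun k ψ Xi Yi fi pYi qYi hYi pXi hXi => ?_⟩
  let k' : Over j.left := Over.mk (ψ.left ≫ l.hom)
  have hk : D.map k.hom = D.map k'.hom ≫ D.map j.hom := by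
    rw [← D.map_comp]
    congr 1
    show k.hom = (ψ.left ≫ l.hom) ≫ j.hom
    rw [Category.assoc]; exact (Over.w ψ).symm
  let pYi₁ : Yi ⟶ Y₁ := sqY₁.lift pYi (qYi ≫ D.map k'.hom) (by rw [Category.assoc, ← hk, hYi.w])
  let pXi₁ : Xi ⟶ pullback f₀ (pullback.fst b₀ (D.map j.hom)) := sqX₁.lift pXi (fi ≫ pYi₁)
    (by rw [Category.assoc, sqY₁.lift_fst, hXi.w])
  refine hl k' (Over.homMk ψ.left) Xi Yi fi pYi₁ qYi ?_ pXi₁ ?_
  · exact IsPullback.of_right (by rw [sqY₁.lift_fst, ← hk]; exact hYi) (sqY₁.lift_snd _ _ _) sqY₁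
  · exact IsPullback.of_right (by rw [sqX₁.lift_fst, sqY₁.lift_fst]; exact hXi) (sqX₁.lift_snd _ _ _) sqX₁

theorem stage_closedImmersion (H : Setup D c f₀ b₀ f pX pY qY) (hf₀ : LocP @LocallyOfFiniteType f₀)
    (hf : RepWith @IsClosedImmersion f) : Stage D f₀ b₀ (RepWith @IsClosedImmersion) := by
  haveI : MorphismProperty.IsLocalAtTarget (@IsClosedImmersion : MorphismProperty Scheme.{u}) Scheme.fppfPrecoverage :=
    isLocalAtTarget_fppf _
  haveI : Mono f := mono_of_repWith (fun _ _ φ (_ : IsClosedImmersion φ) => inferInstanceAs (Mono φ)) hf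
  obtain ⟨j, hj⟩ := stage_mono H hf₀
  refine stage_of_later H j fun {X₁ Y₁ f₁ b₁ p₁ x₁ pX₁ pY₁} hY₁ hX₁ H₁ => ?_
  haveI : Mono f₁ := hj j (𝟙 j) X₁ Y₁ f₁ p₁ b₁ hY₁ x₁ hX₁
  have hlft := locP_of_isPullback etLocal_lft H.spX H.spY H₁.spY hX₁ hf₀
  refine stage_repWith H₁ descends_isClosedImmersion
    (Lqf.representable_of_lqf H₁.spX H₁.spY ?_ Groth.L09.Where.isSeparatedMor_of_mono) hlft hf
  exact Groth.L09.Where.lqf_of_unramified (Groth.L09.Where.unramified_of_lft_mono H₁.spX H₁.spY hlft)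

theorem stage_finite (H : Setup D c f₀ b₀ f pX pY qY) (hf₀ : LocP @LocallyOfFiniteType f₀)
    (hf : IsFiniteMor f) : Stage D f₀ b₀ IsFiniteMor := by
  have hfin := isFiniteMor_iff.1 hf
  haveI : MorphismProperty.IsLocalAtTarget (@IsFinite : MorphismProperty Scheme.{u}) Scheme.fppfPrecoverage :=
    isLocalAtTarget_fppf _
  have hsep : IsSeparatedMor f := (isSeparatedMor_iff hfin.1).2
    (repWith_mono (fun φ (_ : IsFinite φ) => inferInstanceAs (IsSeparated φ)) hfin)
  have hlqf : LocP (@LocallyQuasiFinite ⊓ @LocallyOfFiniteType) f := locP_of_repWith etLocal_lqfLft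
    (repWith_mono (fun φ (_ : IsFinite φ) => ⟨inferInstanceAs (LocallyQuasiFinite φ), inferInstanceAs (LocallyOfFiniteType φ)⟩) hfin)
  have hd : Descends (@LocallyQuasiFinite ⊓ @LocallyOfFiniteType : MorphismProperty Scheme.{u}) qcqsft.{u} := by
    intro I _ _ D c _ hc i _ X a ha hP
    obtain ⟨j, φ, hj⟩ := descends_locallyQuasiFinite hc a ha hP.1
    exact ⟨j, φ, hj, MorphismProperty.pullback_fst (P := @LocallyOfFiniteType) _ _ ha.2⟩
  obtain ⟨j, hj⟩ := (stage_separated H hsep).and (stage_locP' H etLocal_lqfLft hd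
    (fun {U T} _ _ h (hh : LocallyOfFiniteType h) =>
      ⟨⟨inferInstanceAs (QuasiCompact h), inferInstanceAs (QuasiSeparated h)⟩, hh⟩) hf₀ hlqf)
  refine stage_of_later H j fun {X₁ Y₁ f₁ b₁ p₁ x₁ pX₁ pY₁} hY₁ hX₁ H₁ => ?_
  obtain ⟨hs₁, hq₁⟩ := hj j (𝟙 j) X₁ Y₁ f₁ p₁ b₁ hY₁ x₁ hX₁
  exact (stage_repWith H₁ descends_isFinite (Lqf.representable_of_lqf H₁.spX H₁.spY hq₁ hs₁)
    (locP_of_isPullback etLocal_lft H.spX H.spY H₁.spY hX₁ hf₀) hfin).mono fun _ h => isFiniteMor_iff.2 h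

end Groth.L09.SpLimit
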