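import Groth.Agent.L19.Limit.Factor
import Groth.Agent.L19.Limit.Fixed
import Groth.Agent.L19.Limit.FixedImmersion
import Mathlib.AlgebraicGeometry.Morphisms.Immersion

/-!
# A fixed scheme mapping to a limit: immersions and monomorphisms at a stage
-/

universe u

open CategoryTheory CategoryTheory.Limits AlgebraicGeometry Groth.L19.Limit

set_option autoImplicit false
set_option linter.style.haveILetI false
set_option backward.isDefEq.respectTransparency false
set_option backward.isDefEq.respectTransparency.types false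

noncomputable section

namespace Groth.L09.SpLimit

variable {I : Type u} [Category.{u} I] [IsCofiltered I] {D : I ⥤ Scheme.{u}} {c : Cone D}
  [∀ {i j} (f : i ⟶ j), IsAffineHom (D.map f)]

theorem exists_isImmersion_comp (hc : IsLimit c) (i : I) [CompactSpace (D.obj i)] {Y : Scheme.{u}}
    [CompactSpace Y] (h : Y ⟶ c.pt) [IsImmersion h] [LocallyOfFiniteType (h ≫ c.π.app i)] :
    ∃ (j : I) (_ : j ⟶ i), IsImmersion (h ≫ c.π.app j) := by
  obtain ⟨W, hW, hhW, hWco⟩ :=
    exists_compact_open_coborder (isCompact_range h.continuous) h.isLocallyClosed_range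
  obtain ⟨j₀, V₀, hV₀, hVW⟩ := exists_preimage_eq D c hc W hW
  let j := IsCofiltered.min j₀ i
  let α : j ⟶ j₀ := IsCofiltered.minToLeft _ _
  let β : j ⟶ i := IsCofiltered.minToRight _ _
  let V : (D.obj j).Opens := D.map α ⁻¹ᵁ V₀
  have hVc : IsCompact (V : Set (D.obj j)) := (D.map α).isCompact_preimage hV₀
  have hV : c.π.app j ⁻¹ᵁ V = W := by
    show c.π.app j ⁻¹ᵁ (D.map α ⁻¹ᵁ V₀) = W
    rw [← Scheme.Hom.comp_preimage, c.w, hVW]
  let E := opensDiagram D j V
  let cE := opensCone D c j V
  haveI : CompactSpace (E.obj (Over.mk (𝟙 j))) :=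
    isCompact_iff_compactSpace.mp ((D.map (Over.mk (𝟙 j) : Over j).hom).isCompact_preimage hVc)
  have hr : Set.range h ⊆ Set.range (c.π.app j ⁻¹ᵁ V).ι := by
    rw [Scheme.Opens.range_ι, hV]; exact hhW
  let h' : Y ⟶ cE.pt := IsOpenImmersion.lift (c.π.app j ⁻¹ᵁ V).ι h hr
  have hh' : h' ≫ (c.π.app j ⁻¹ᵁ V).ι = h := IsOpenImmersion.lift_fac _ _ _
  haveI : IsImmersion (h' ≫ (c.π.app j ⁻¹ᵁ V).ι) := by rw [hh']; infer_instance
  haveI : IsImmersion h' := IsImmersion.of_comp _ (c.π.app j ⁻¹ᵁ V).ι
  haveI : IsClosedImmersion h' := by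
    refine IsClosedImmersion.of_isPreimmersion _ ?_
    have hsub : Set.range h ⊆ ((c.π.app j ⁻¹ᵁ V : c.pt.Opens) : Set c.pt) := hV.symm ▸ hhW
    have hco : ((c.π.app j ⁻¹ᵁ V : c.pt.Opens) : Set c.pt) ⊆ coborder (Set.range h) := hV.symm ▸ hWco
    have hrr : (c.π.app j ⁻¹ᵁ V).ι '' Set.range h' = Set.range h := by
      rw [← Set.range_comp]
      exact congrArg Set.range (funext fun x =>
        (Scheme.Hom.comp_apply h' (c.π.app j ⁻¹ᵁ V).ι x).symm.trans (congrArg (fun m : Y ⟶ c.pt => m x) hh'))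
    have hr' : Set.range h' = (c.π.app j ⁻¹ᵁ V).ι ⁻¹' closure (Set.range h) := by
      apply Set.image_injective.mpr (c.π.app j ⁻¹ᵁ V).ι.isOpenEmbedding.injective
      rw [hrr, Set.image_preimage_eq_inter_range, Scheme.Opens.range_ι]
      exact subset_antisymm (Set.subset_inter subset_closure hsub)
        fun x hx => coborder_inter_closure.le ⟨hco hx.2, hx.1⟩
    rw [hr']
    exact isClosed_closure.preimage (c.π.app j ⁻¹ᵁ V).ι.continuous
  have hπ : ∀ k : Over j, h' ≫ cE.π.app k ≫ (D.map k.hom ⁻¹ᵁ V).ι = h ≫ c.π.app k.left := fun k => by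
    show h' ≫ (c.π.app k.left).resLE _ _ _ ≫ _ = _
    rw [Scheme.Hom.resLE_comp_ι, reassoc_of% hh']
  haveI : LocallyOfFiniteType (h' ≫ cE.π.app (Over.mk (𝟙 j))) := by
    haveI : LocallyOfFiniteType ((h ≫ c.π.app j) ≫ D.map β) := by rw [Category.assoc, c.w]; infer_instance
    haveI : LocallyOfFiniteType (h ≫ c.π.app j) := locallyOfFiniteType_of_comp _ (D.map β)
    haveI : LocallyOfFiniteType ((h' ≫ cE.π.app (Over.mk (𝟙 j))) ≫ (D.map (Over.mk (𝟙 j) : Over j).hom ⁻¹ᵁ V).ι) := by
      rw [Category.assoc, hπ]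
      exact ‹LocallyOfFiniteType (h ≫ c.π.app j)›
    exact locallyOfFiniteType_of_comp _ (D.map (Over.mk (𝟙 j) : Over j).hom ⁻¹ᵁ V).ι
  obtain ⟨k, -, hk⟩ := exists_isClosedImmersion_comp (D := E) (isLimitOpensCone D c hc j V) (Over.mk (𝟙 j)) h'
  refine ⟨k.left, k.hom ≫ β, ?_⟩
  rw [← hπ k, ← Category.assoc]
  infer_instance

omit [∀ {i j} (f : i ⟶ j), IsAffineHom (D.map f)] in
/-- The self products of a fixed scheme over the stages. -/
def kerDiagram {Y : Scheme.{u}} (c : Cone D) (i : I) (h : Y ⟶ c.pt) : Over i ⥤ Scheme.{u} where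
  obj j := pullback (h ≫ c.π.app j.left) (h ≫ c.π.app j.left)
  map {j k} f := pullback.map _ _ _ _ (𝟙 _) (𝟙 _) (D.map f.left)
    (by rw [Category.id_comp, Category.assoc, c.w]) (by rw [Category.id_comp, Category.assoc, c.w])
  map_id j := by apply pullback.hom_ext <;> simp
  map_comp f g := by apply pullback.hom_ext <;> simp

instance kerDiagram_map_closed {Y : Scheme.{u}} (i : I) (h : Y ⟶ c.pt) {j k : Over i} (f : j ⟶ k) :
    IsClosedImmersion ((kerDiagram c i h).map f) := by
  rw [show (kerDiagram c i h).map f =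
    pullback.mapDesc (h ≫ c.π.app j.left) (h ≫ c.π.app j.left) (D.map f.left) ≫
      (pullback.congrHom (by rw [Category.assoc, c.w]) (by rw [Category.assoc, c.w])).hom by
    apply pullback.hom_ext <;> simp [kerDiagram, pullback.mapDesc]]
  have : IsClosedImmersion (pullback.mapDesc (h ≫ c.π.app j.left) (h ≫ c.π.app j.left) (D.map f.left)) :=
    MorphismProperty.of_isPullback (P := @IsClosedImmersion)
      (pullback_map_diagonal_isPullback (h ≫ c.π.app j.left) (h ≫ c.π.app j.left) (D.map f.left))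
      inferInstance
  infer_instance

omit [∀ {i j} (f : i ⟶ j), IsAffineHom (D.map f)] in
/-- For a monomorphism into the limit, the self products have the scheme itself as limit. -/
def kerCone {Y : Scheme.{u}} (i : I) (h : Y ⟶ c.pt) : Cone (kerDiagram c i h) where
  pt := Y
  π :=
    { app := fun j => pullback.diagonal (h ≫ c.π.app j.left)
      naturality := fun j k f => by
        apply pullback.hom_ext <;> simp [kerDiagram] }

omit [∀ {i j} (f : i ⟶ j), IsAffineHom (D.map f)] in
/-- See `kerCone`. -/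
def isLimitKerCone (hc : IsLimit c) {Y : Scheme.{u}} (i : I) (h : Y ⟶ c.pt) [Mono h] :
    IsLimit (kerCone i h) where
  lift s := s.π.app (Over.mk (𝟙 i)) ≫ pullback.fst _ _
  fac s j := by
    let top : Over i := Over.mk (𝟙 i)
    let x := s.π.app top ≫ pullback.fst (h ≫ c.π.app top.left) (h ≫ c.π.app top.left)
    let y := s.π.app top ≫ pullback.snd (h ≫ c.π.app top.left) (h ≫ c.π.app top.left)
    have hx : ∀ j : Over i, s.π.app j ≫ pullback.fst (h ≫ c.π.app j.left) (h ≫ c.π.app j.left) = x ∧
        s.π.app j ≫ pullback.snd (h ≫ c.π.app j.left) (h ≫ c.π.app j.left) = y := fun j => by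
      constructor <;>
      · simp only [x, y]
        rw [← s.w (Over.homMk j.hom : j ⟶ top)]
        simp [kerDiagram, top]
    have hxy : x = y := by
      rw [← cancel_mono h]
      refine hc.hom_ext fun k => ?_
      let k' : Over i := Over.mk (IsCofiltered.minToRight k i)
      have := congrArg (fun m => s.π.app k' ≫ m) (pullback.condition (f := h ≫ c.π.app k'.left) (g := h ≫ c.π.app k'.left))
      simp only [← Category.assoc, (hx k').1, (hx k').2] at this
      rw [← c.w (IsCofiltered.minToLeft k i), ← Category.assoc, ← Category.assoc _ (c.π.app _)]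
      exact congrArg (· ≫ D.map (IsCofiltered.minToLeft k i)) this
    show x ≫ pullback.diagonal _ = _
    apply pullback.hom_ext
    · rw [Category.assoc, pullback.diagonal_fst, Category.comp_id]; exact (hx j).1.symm
    · rw [Category.assoc, pullback.diagonal_snd, Category.comp_id]; exact hxy.trans (hx j).2.symm
  uniq s m hm := by
    rw [← hm (Over.mk (𝟙 i))]
    simp [kerCone]

theorem exists_mono_comp (hc : IsLimit c) (i : I) [QuasiSeparatedSpace (D.obj i)] {Y : Scheme.{u}}
    [CompactSpace Y] [QuasiSeparatedSpace Y] (h : Y ⟶ c.pt) [Mono h] [LocallyOfFiniteType (h ≫ c.π.app i)] :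
    ∃ (j : I) (_ : j ⟶ i), Mono (h ≫ c.π.app j) := by
  let top : Over i := Over.mk (𝟙 i)
  let a : (kerDiagram c i h).obj top ⟶ Y := pullback.fst (h ≫ c.π.app top.left) (h ≫ c.π.app top.left)
  haveI : LocallyOfFiniteType (h ≫ c.π.app top.left) := ‹LocallyOfFiniteType (h ≫ c.π.app i)›
  haveI : QuasiSeparatedSpace (D.obj top.left) := ‹QuasiSeparatedSpace (D.obj i)›
  haveI : QuasiCompact (h ≫ c.π.app top.left) := inferInstance
  haveI : QuasiSeparated (h ≫ c.π.app top.left) := inferInstance
  haveI : LocallyOfFiniteType a := inferInstanceAs (LocallyOfFiniteType (pullback.fst _ _))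
  haveI : QuasiCompact a := inferInstanceAs (QuasiCompact (pullback.fst _ _))
  haveI : CompactSpace ((kerDiagram c i h).obj top) := QuasiCompact.compactSpace_of_compactSpace a
  haveI : QuasiSeparatedSpace ((kerDiagram c i h).obj top) :=
    haveI : QuasiSeparated a := inferInstanceAs (QuasiSeparated (pullback.fst _ _))
    quasiSeparatedSpace_of_quasiSeparated a
  have ha : (kerCone i h).π.app top ≫ a = 𝟙 Y := pullback.diagonal_fst _
  haveI : IsClosedImmersion ((kerCone i h).π.app top ≫ a) := by rw [ha]; exact inferInstanceAs (IsClosedImmersion (𝟙 Y))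
  obtain ⟨j, φ, hj⟩ := exists_isClosedImmersion (isLimitKerCone hc i h) (fun f => inferInstance) a
  have e : (kerDiagram c i h).map φ ≫ a = pullback.fst (h ≫ c.π.app j.left) (h ≫ c.π.app j.left) :=
    (pullback.lift_fst _ _ _).trans (Category.comp_id _)
  rw [e] at hj
  refine ⟨j.left, j.hom, ?_⟩
  haveI : IsIso (pullback.diagonal (h ≫ c.π.app j.left)) := by
    haveI : IsIso (pullback.fst (h ≫ c.π.app j.left) (h ≫ c.π.app j.left)) := by
      haveI : IsSplitEpi (pullback.fst (h ≫ c.π.app j.left) (h ≫ c.π.app j.left)) :=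
        ⟨⟨⟨pullback.diagonal _, pullback.diagonal_fst _⟩⟩⟩
      exact isIso_of_mono_of_isSplitEpi _
    exact IsIso.of_isIso_fac_right (pullback.diagonal_fst (h ≫ c.π.app j.left))
  exact (pullback.isIso_diagonal_iff _).1 inferInstance

end Groth.L09.SpLimit
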