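import Groth.Agent.L09.SpLimit.Derived
import Groth.Agent.L09.SpLimit.Scheme
import Groth.Agent.L23.ImmersionBC
import Groth.Agent.L23.OpenSub
import Groth.Agent.L23.Compact

/-!
# A space mapping to a limit of spaces: eventual properties
-/

universe u

open CategoryTheory CategoryTheory.Limits AlgebraicGeometry Opposite AlgSp

set_option autoImplicit false
set_option linter.style.haveILetI false
set_option linter.unusedSectionVars false
set_option backward.isDefEq.respectTransparency false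
set_option backward.isDefEq.respectTransparency.types false

noncomputable section

namespace Groth.L09.SpLimit

open Groth.L23

variable {S : Scheme.{u}} {I : Type u} [SmallCategory I] [IsCofiltered I] {D : I ⥤ Sp S} {c : Cone D}

theorem Sys.isPullback_stage {i₀ : I} {T : Over S} {a : (yon S).obj T ⟶ D.obj i₀} (s : Sys D c a)
    (j : Over i₀) : IsPullback s.l ((yon S).map (s.cone.π.app j)) (c.π.app j.left) (s.fj j) := by
  refine IsPullback.of_bot ?_ (s.hl j) (s.sq j)
  rw [c.w, ← Functor.map_comp, s.hq j]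
  exact s.sql

theorem lft_proj (hD : ∀ i, IsAlgSpace (D.obj i)) {Y : Sp S} (hY : IsAlgSpace Y) {B : Sp S} (hB : IsAlgSpace B)
    (t : D ⟶ (Functor.const I).obj B) (y : Y ⟶ c.pt) (i₁ : I)
    (hYB : LocP @LocallyOfFiniteType (y ≫ c.π.app i₁ ≫ t.app i₁)) :
    LocP @LocallyOfFiniteType (y ≫ c.π.app i₁) :=
  locP_of_comp etLocal_lft (fun φ ψ (h : LocallyOfFiniteType (φ ≫ ψ)) => locallyOfFiniteType_of_comp φ ψ) hY (hD i₁) hB
    (g := t.app i₁) (by rw [Category.assoc]; exact hYB)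

/-- The data of a chart over an open subspace through which `y` factors. -/
structure ChartData (D : I ⥤ Sp S) (c : Cone D) {Y : Sp S} (y : Y ⟶ c.pt) (i₁ : I) where
  U : Sp S
  ι : U ⟶ D.obj i₁
  hι : RepWith @IsOpenImmersion ι
  T : Over S
  aff : IsAffine T.left
  p : (yon S).obj T ⟶ U
  et : RepWith @Etale p
  surj : RepWith @Surjective p
  g : Y ⟶ U
  hg : g ≫ ι = y ≫ c.π.app i₁

/-- The chart on a quasi-compact stage. -/
theorem chartData_of_qc (hD : ∀ i, IsAlgSpace (D.obj i)) {Y : Sp S} (y : Y ⟶ c.pt) (i₁ : I)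
    (hqc : IsQuasiCompactSp (D.obj i₁)) :
    ∃ d : ChartData D c y i₁, IsIso d.ι := by
  obtain ⟨T, p, hT, hp, hps⟩ := Qs.exists_affine_atlas (hD i₁) hqc
  exact ⟨⟨D.obj i₁, 𝟙 _, repWith_of_isIso _, T, hT, p, hp, hps, y ≫ c.π.app i₁, Category.comp_id _⟩,
    inferInstanceAs (IsIso (𝟙 _))⟩

/-- The chart near the image of a quasi-compact space. -/
theorem nonempty_chartData (hD : ∀ i, IsAlgSpace (D.obj i)) {Y : Sp S} (hYqc : IsQuasiCompactSp Y)
    (y : Y ⟶ c.pt) (i₁ : I) : Nonempty (ChartData D c y i₁) := by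
  choose W a hW ha hmem using fun x => exists_affine_etale_nhd (hD i₁) x
  have := compactSpace_of_qcSp hYqc
  obtain ⟨t, ht⟩ := (isCompact_range (Points.continuous_map (y ≫ c.π.app i₁))).elim_finite_subcover
    (fun x => Set.range (Points.ofPt (a x))) (fun x => (isOpenMap_ofPt (ha x)).isOpen_range)
    (fun x _ => Set.mem_iUnion.2 ⟨x, hmem x⟩)
  let O : TopologicalSpace.Opens (Points (D.obj i₁)) :=
    ⟨⋃ x ∈ t, Set.range (Points.ofPt (a x)), isOpen_biUnion fun x _ => (isOpenMap_ofPt (ha x)).isOpen_range⟩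
  have hO : IsCompact (O : Set (Points (D.obj i₁))) := t.finite_toSet.isCompact_biUnion fun x _ => by
    haveI : IsAffine (W x).left := hW x
    exact isCompact_range (Points.continuous_ofPt (a x))
  have hι := repWith_openSubι O
  have hU : IsAlgSpace (openSub O) := isAlgSpace_openSub O (hD i₁)
  have hUqc : IsQuasiCompactSp (openSub O) := by
    refine qcSp_of_compactSpace hU ⟨?_⟩
    have he := isEmbedding_map_of_immersion (hD i₁)
      (repWith_mono (fun φ (_ : IsOpenImmersion φ) => inferInstanceAs (IsImmersion φ)) hι)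
    rw [he.1.isInducing.isCompact_iff, Set.image_univ, range_openSubι]
    exact hO
  obtain ⟨T, p, hT, hp, hps⟩ := Qs.exists_affine_atlas hU hUqc
  obtain ⟨g, hg⟩ := (exists_factor_iff hι (y ≫ c.π.app i₁)).2 (by rw [range_openSubι]; exact ht)
  exact ⟨⟨_, _, hι, T, hT, p, hp, hps, g, hg⟩⟩

variable {Y : Sp S} {y : Y ⟶ c.pt} {i₁ : I}

/-- What the engine gives at every later stage. -/
theorem exists_stage_chart (hD : ∀ i, IsAlgSpace (D.obj i)) (hDa : ∀ (i j : I) (φ : i ⟶ j), IsAffineMor (D.map φ))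
    (hc : IsLimit c) (hlft : LocP @LocallyOfFiniteType (y ≫ c.π.app i₁)) (hy : Representable y)
    (d : ChartData D c y i₁) :
    ∃ (s : Sys D c (d.p ≫ d.ι)) (M : Over S) (a : (yon S).obj M ⟶ Y) (m : M ⟶ s.cone.pt),
      IsPullback a ((yon S).map m) y s.l ∧ RepWith @Etale a ∧ LocallyOfFiniteType (m.left ≫ s.q.left) ∧
      ∀ (k : Over i₁), ∃ (V : Sp S) (v : (yon S).obj (s.W.obj k) ⟶ V) (g : Y ⟶ V) (ι : V ⟶ D.obj k.left),
        RepWith @IsOpenImmersion ι ∧ IsAlgSpace V ∧ RepWith @Etale v ∧ RepWith @Surjective v ∧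
        g ≫ ι = y ≫ c.π.app k.left ∧ (IsIso d.ι → IsIso ι) ∧
        IsPullback a ((yon S).map (m ≫ s.cone.π.app k)) g v := by
  haveI := d.aff
  obtain ⟨s⟩ := exists_sys hDa hc (d.p ≫ d.ι)
  let M := hy.pullback s.l
  let m : M ⟶ s.cone.pt := hy.snd s.l
  let a : (yon S).obj M ⟶ Y := hy.fst s.l
  have sqm : IsPullback a ((yon S).map m) y s.l := hy.isPullback s.l
  have het : RepWith @Etale (d.p ≫ d.ι) :=
    repWith_comp d.et (repWith_mono (fun φ (_ : IsOpenImmersion φ) => inferInstanceAs (Etale φ)) d.hι)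
  have ha : RepWith @Etale a := repWith_of_isPullback sqm.flip (repWith_of_isPullback s.sql.flip het)
  refine ⟨s, M, a, m, sqm, ha, hlft a (d.p ≫ d.ι) (m ≫ s.q) ha het ?_, fun k => ?_⟩
  · rw [← Category.assoc, sqm.w, Category.assoc, s.sql.w, Functor.map_comp, Category.assoc]
  have sqV := IsPullback.of_hasPullback (D.map k.hom) d.ι
  have hιk := repWith_of_isPullback sqV.flip d.hι
  haveI := mono_of_repWith_openImmersion hιk
  let ι := pullback.fst (D.map k.hom) d.ι
  let v := sqV.lift (s.fj k) ((yon S).map (s.p k) ≫ d.p) (by rw [Category.assoc]; exact (s.sq k).w)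
  have hv₁ : v ≫ ι = s.fj k := sqV.lift_fst _ _ _
  have hv₂ : v ≫ pullback.snd (D.map k.hom) d.ι = (yon S).map (s.p k) ≫ d.p := sqV.lift_snd _ _ _
  have sqv : IsPullback v ((yon S).map (s.p k)) (pullback.snd (D.map k.hom) d.ι) d.p :=
    IsPullback.of_right (by rw [hv₁]; exact s.sq k) hv₂ sqV
  let g := sqV.lift (y ≫ c.π.app k.left) d.g (by rw [Category.assoc, c.w, d.hg])
  have hg : g ≫ ι = y ≫ c.π.app k.left := sqV.lift_fst _ _ _
  refine ⟨_, v, g, ι, hιk, isAlgSpace_of_representable_to (hD _) hιk.1, repWith_of_isPullback sqv.flip d.et,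
    repWith_of_isPullback sqv.flip d.surj, hg, fun h => ?_, ?_⟩
  · haveI := h
    show IsIso (pullback.fst (D.map k.hom) d.ι)
    infer_instance
  · have sqk : IsPullback a ((yon S).map (m ≫ s.cone.π.app k)) (y ≫ c.π.app k.left) (s.fj k) := by
      rw [Functor.map_comp]
      exact sqm.paste_vert (s.isPullback_stage k)
    refine IsPullback.mk' ?_ (fun Z φ φ' h₁ h₂ => sqk.hom_ext h₁ h₂) fun Z u w e => ?_
    · rw [← cancel_mono ι, Category.assoc, Category.assoc, hg, hv₁, sqk.w]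
    · have e' : u ≫ y ≫ c.π.app k.left = w ≫ s.fj k := by rw [← hg, ← hv₁, reassoc_of% e]
      exact ⟨sqk.lift u w e', sqk.lift_fst _ _ _, sqk.lift_snd _ _ _⟩

/-- The diagram of affine schemes of a system. -/
theorem Sys.affineHom {i₀ : I} {T : Over S} {a : (yon S).obj T ⟶ D.obj i₀} (s : Sys D c a) {j k : Over i₀}
    (f : j ⟶ k) : IsAffineHom ((s.W ⋙ Over.forget S).map f) := by
  haveI : IsAffine ((s.W ⋙ Over.forget S).obj j) := s.aff j
  haveI : IsAffine ((s.W ⋙ Over.forget S).obj k) := s.aff k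
  infer_instance

theorem Sys.lft_top {i₀ : I} {T : Over S} [IsAffine T.left] {a : (yon S).obj T ⟶ D.obj i₀} (s : Sys D c a)
    {M : Over S} {m : M ⟶ s.cone.pt} (h : LocallyOfFiniteType (m.left ≫ s.q.left)) :
    LocallyOfFiniteType (m.left ≫ (s.cone.π.app (Over.mk (𝟙 i₀))).left) := by
  haveI : LocallyOfFiniteType ((m.left ≫ (s.cone.π.app (Over.mk (𝟙 i₀))).left) ≫ (s.p (Over.mk (𝟙 i₀))).left) := by
    rw [Category.assoc, ← Over.comp_left, s.hq]; exact h
  exact locallyOfFiniteType_of_comp _ (s.p (Over.mk (𝟙 i₀))).left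

theorem eventually_closedImmersion (hD : ∀ i, IsAlgSpace (D.obj i))
    (hDa : ∀ (i j : I) (φ : i ⟶ j), IsAffineMor (D.map φ)) (hc : IsLimit c) (hY : IsAlgSpace Y)
    (hy : RepWith @IsClosedImmersion y) (hlft : LocP @LocallyOfFiniteType (y ≫ c.π.app i₁))
    (hqc : IsQuasiCompactSp (D.obj i₁)) :
    ∃ i₀ : I, ∀ (i : I) (_ : i ⟶ i₀), RepWith @IsClosedImmersion (y ≫ c.π.app i) := by
  obtain ⟨d, hd⟩ := chartData_of_qc hD y i₁ hqc
  obtain ⟨s, M, a, m, sqm, ha, hm, hk⟩ := exists_stage_chart hD hDa hc hlft hy.1 d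
  haveI := d.aff
  haveI : ∀ {j k : Over i₁} (f : j ⟶ k), IsAffineHom ((s.W ⋙ Over.forget S).map f) := fun f => s.affineHom f
  haveI : ∀ j, IsAffine ((s.W ⋙ Over.forget S).obj j) := s.aff
  let h : M.left ⟶ ((Over.forget S).mapCone s.cone).pt := m.left
  haveI : IsClosedImmersion h := repWith_prop hy sqm
  haveI : LocallyOfFiniteType (h ≫ ((Over.forget S).mapCone s.cone).π.app (Over.mk (𝟙 i₁))) := s.lft_top hm
  obtain ⟨j, -, hj⟩ := Groth.L19.Limit.exists_isClosedImmersion_comp s.isLimit (Over.mk (𝟙 i₁)) h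
  refine ⟨j.left, fun i φ => ?_⟩
  let k : Over i₁ := Over.mk (φ ≫ j.hom)
  let ψ : k ⟶ j := Over.homMk φ
  obtain ⟨V, v, g, ι, hι, hV, hv, hvs, hg, hiso, sq⟩ := hk k
  haveI := hiso hd
  have hjk : IsClosedImmersion (m ≫ s.cone.π.app k).left := by
    haveI : IsClosedImmersion ((m ≫ s.cone.π.app k).left ≫ (s.W.map ψ).left) := by
      rw [← Over.comp_left, Category.assoc, s.cone.w ψ]; exact hj
    haveI : IsAffineHom (s.W.map ψ).left := s.affineHom ψ
    exact IsClosedImmersion.of_comp (m ≫ s.cone.π.app k).left (s.W.map ψ).left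
  have h := repWith_comp (ImmBC.repWith_of_etale_base_change _ (Or.inl rfl) hY hV hv hvs sq (repWith_map hjk))
    (repWith_of_isIso (P := @IsClosedImmersion) ι)
  rw [hg] at h
  exact h

theorem compactSpace_chart [QuasiSeparatedSpace S] (hY : IsAlgSpace Y) (hD : ∀ i, IsAlgSpace (D.obj i))
    (hYqc : IsQuasiCompactSp Y) (hqs : ∀ i, IsQuasiSeparatedSp (D.obj i)) {i₀ : I} {T : Over S} [IsAffine T.left]
    {p : (yon S).obj T ⟶ D.obj i₀} (s : Sys D c p) {M : Over S} {a : (yon S).obj M ⟶ Y} {m : M ⟶ s.cone.pt}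
    (sqm : IsPullback a ((yon S).map m) y s.l) : CompactSpace M.left := by
  have hp : IsQuasiCompactMor p :=
    qcMor_of_qc_source (IsAlgSpace.yon_obj T) (hD _) isQuasiCompactSp_of_compactSpace (hqs _) p
  exact compactSpace_of_isQuasiCompactSp
    (hp hY hYqc (y ≫ c.π.app i₀) _ _ (sqm.paste_vert s.sql).flip)

theorem eventually_immersion [QuasiSeparatedSpace S] (hD : ∀ i, IsAlgSpace (D.obj i))
    (hDa : ∀ (i j : I) (φ : i ⟶ j), IsAffineMor (D.map φ)) (hc : IsLimit c) (hY : IsAlgSpace Y)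
    (hYqc : IsQuasiCompactSp Y) (hqs : ∀ i, IsQuasiSeparatedSp (D.obj i))
    (hy : RepWith @IsImmersion y) (hlft : LocP @LocallyOfFiniteType (y ≫ c.π.app i₁)) :
    ∃ i₀ : I, ∀ (i : I) (_ : i ⟶ i₀), RepWith @IsImmersion (y ≫ c.π.app i) := by
  obtain ⟨d⟩ := nonempty_chartData hD hYqc y i₁
  obtain ⟨s, M, a, m, sqm, ha, hm, hk⟩ := exists_stage_chart hD hDa hc hlft hy.1 d
  haveI := d.aff
  haveI : CompactSpace M.left := compactSpace_chart hY hD hYqc hqs s sqm
  haveI : ∀ {j k : Over i₁} (f : j ⟶ k), IsAffineHom ((s.W ⋙ Over.forget S).map f) := fun f => s.affineHom f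
  haveI : ∀ j, IsAffine ((s.W ⋙ Over.forget S).obj j) := s.aff
  let h : M.left ⟶ ((Over.forget S).mapCone s.cone).pt := m.left
  haveI : IsImmersion h := repWith_prop hy sqm
  haveI : LocallyOfFiniteType (h ≫ ((Over.forget S).mapCone s.cone).π.app (Over.mk (𝟙 i₁))) := s.lft_top hm
  obtain ⟨j, -, hj⟩ := exists_isImmersion_comp s.isLimit (Over.mk (𝟙 i₁)) h
  refine ⟨j.left, fun i φ => ?_⟩
  let k : Over i₁ := Over.mk (φ ≫ j.hom)
  let ψ : k ⟶ j := Over.homMk φ
  obtain ⟨V, v, g, ι, hι, hV, hv, hvs, hg, -, sq⟩ := hk k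
  have hjk : IsImmersion (m ≫ s.cone.π.app k).left := by
    haveI : IsImmersion ((m ≫ s.cone.π.app k).left ≫ (s.W.map ψ).left) := by
      rw [← Over.comp_left, Category.assoc, s.cone.w ψ]; exact hj
    exact IsImmersion.of_comp (m ≫ s.cone.π.app k).left (s.W.map ψ).left
  have h := repWith_comp (ImmBC.repWith_of_etale_base_change _ (Or.inr (Or.inr rfl)) hY hV hv hvs sq (repWith_map hjk))
    (repWith_mono (fun φ (_ : IsOpenImmersion φ) => inferInstanceAs (IsImmersion φ)) hι)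
  rw [hg] at h
  exact h

theorem eventually_mono [QuasiSeparatedSpace S] (hD : ∀ i, IsAlgSpace (D.obj i))
    (hDa : ∀ (i j : I) (φ : i ⟶ j), IsAffineMor (D.map φ)) (hc : IsLimit c) (hY : IsAlgSpace Y)
    (hYqc : IsQuasiCompactSp Y) (hqs : ∀ i, IsQuasiSeparatedSp (D.obj i))
    [Mono y] (hlft : LocP @LocallyOfFiniteType (y ≫ c.π.app i₁)) :
    ∃ i₀ : I, ∀ (i : I) (_ : i ⟶ i₀), Mono (y ≫ c.π.app i) := by
  have haff : IsAffineMor (c.π.app i₁) := fun T hT a => by
    haveI := hT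
    obtain ⟨W, q, l, sq, hW, -⟩ := LimReduced.isPullback_limit hDa hc a
    exact ⟨W, q, l, sq, hW⟩
  have hX : IsAlgSpace c.pt := isAlgSpace_of_representable_to (hD i₁)
    (repWith_isAffineHom_of_isAffineMor haff).1
  have hy : Representable y := Groth.L09.Where.representable_of_lft_mono hY hX
    (locP_of_comp etLocal_lft (fun φ ψ (h : LocallyOfFiniteType (φ ≫ ψ)) => locallyOfFiniteType_of_comp φ ψ)
      hY hX (hD i₁) hlft)
  obtain ⟨d⟩ := nonempty_chartData hD hYqc y i₁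
  obtain ⟨s, M, a, m, sqm, ha, hm, hk⟩ := exists_stage_chart hD hDa hc hlft hy d
  haveI := d.aff
  haveI : CompactSpace M.left := compactSpace_chart hY hD hYqc hqs s sqm
  haveI : ∀ {j k : Over i₁} (f : j ⟶ k), IsAffineHom ((s.W ⋙ Over.forget S).map f) := fun f => s.affineHom f
  haveI : ∀ j, IsAffine ((s.W ⋙ Over.forget S).obj j) := s.aff
  let h : M.left ⟶ ((Over.forget S).mapCone s.cone).pt := m.left
  haveI : Mono h := by
    haveI : Mono ((yon S).map m) := sqm.mono_snd_of_mono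
    haveI : Mono m := (yon S).mono_of_mono_map inferInstance
    exact (Over.forget S).map_mono m
  haveI : IsAffine ((Over.forget S).mapCone s.cone).pt := Scheme.isAffine_of_isLimit _ s.isLimit
  haveI : IsSeparated h := inferInstance
  haveI : QuasiSeparatedSpace M.left := quasiSeparatedSpace_of_quasiSeparated h
  haveI : LocallyOfFiniteType (h ≫ ((Over.forget S).mapCone s.cone).π.app (Over.mk (𝟙 i₁))) := s.lft_top hm
  obtain ⟨j, -, hj⟩ := exists_mono_comp s.isLimit (Over.mk (𝟙 i₁)) h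
  refine ⟨j.left, fun i φ => ?_⟩
  let k : Over i₁ := Over.mk (φ ≫ j.hom)
  let ψ : k ⟶ j := Over.homMk φ
  obtain ⟨V, v, g, ι, hι, hV, hv, hvs, hg, -, sq⟩ := hk k
  haveI : Mono ((Over.forget S).map (m ≫ s.cone.π.app k)) := by
    haveI : Mono ((Over.forget S).map (m ≫ s.cone.π.app k) ≫ (Over.forget S).map (s.W.map ψ)) := by
      rw [← Functor.map_comp, Category.assoc, s.cone.w ψ]; exact hj
    exact mono_of_mono _ ((Over.forget S).map (s.W.map ψ))
  haveI : Mono (m ≫ s.cone.π.app k) := (Over.forget S).mono_of_mono_map inferInstance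
  haveI : Mono g := ImmBC.mono_of_etale_base_change hv hvs sq
  haveI := mono_of_repWith_openImmersion hι
  show Mono (y ≫ c.π.app k.left)
  rw [← hg]
  infer_instance

end Groth.L09.SpLimit
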