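import Groth.Agent.L09.SpLimit.Affine
import Groth.Agent.L19.Limit.Cons
import Groth.Agent.L23.OpenSub

/-!
# Quasi-compact open subspaces descend along limits
-/

universe u

open CategoryTheory CategoryTheory.Limits AlgebraicGeometry Opposite AlgSp

set_option autoImplicit false
set_option linter.style.haveILetI false
set_option backward.isDefEq.respectTransparency false
set_option backward.isDefEq.respectTransparency.types false

noncomputable section

namespace Groth.L09.SpLimit

open Groth.L23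

variable {S : Scheme.{u}} [QuasiSeparatedSpace S] {I : Type u} [SmallCategory I] [IsCofiltered I] {D : I ⥤ Sp S}
  {c : Cone D}

theorem exists_open_descend (hD : ∀ i, IsAlgSpace (D.obj i)) (hDa : ∀ (i j : I) (φ : i ⟶ j), IsAffineMor (D.map φ))
    (hqc : ∀ i, IsQuasiCompactSp (D.obj i)) (hqs : ∀ i, IsQuasiSeparatedSp (D.obj i)) (hc : IsLimit c)
    {O : Sp S} (ι : O ⟶ c.pt) (hι : RepWith @IsOpenImmersion ι) (hO : IsQuasiCompactSp O) :
    ∃ (i : I) (Ui : Sp S) (ji : Ui ⟶ D.obj i) (q : O ⟶ Ui),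
      RepWith @IsOpenImmersion ji ∧ IsQuasiCompactSp Ui ∧ IsPullback ι q (c.π.app i) ji := by
  obtain ⟨i₀⟩ := IsCofiltered.nonempty (C := I)
  obtain ⟨U, u, hU, hu, hus⟩ := Qs.exists_affine_atlas (hD i₀) (hqc i₀)
  haveI := hU
  obtain ⟨s⟩ := exists_sys hDa hc u
  have hl : RepWith @Etale s.l := repWith_of_isPullback s.sql.flip hu
  have hls : RepWith @Surjective s.l := repWith_of_isPullback s.sql.flip hus
  have hπ : RepWith @IsAffineHom (c.π.app i₀) := repWith_isAffineHom_of_isAffineMor fun T hT a => by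
    haveI := hT
    obtain ⟨W, q, l, sq, hW, -⟩ := LimReduced.isPullback_limit hDa hc a
    exact ⟨W, q, l, sq, hW⟩
  have hXsp : IsAlgSpace c.pt := isAlgSpace_of_representable_to (hD i₀) hπ.1
  have hXqs : IsQuasiSeparatedSp c.pt := qsSp_of_affine (hqs i₀) hπ
  have hOsp : IsAlgSpace O := isAlgSpace_of_representable_to hXsp hι.1
  let E := s.W ⋙ Over.forget S
  let cE := (Over.forget S).mapCone s.cone
  haveI : ∀ j, IsAffine (E.obj j) := s.aff
  haveI : ∀ {j k : Over i₀} (f : j ⟶ k), IsAffineHom (E.map f) := fun f => s.affineHom f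
  haveI : IsAffine s.cone.pt.left := Scheme.isAffine_of_isLimit cE s.isLimit
  -- the trace on the chart
  let W₀ : s.cone.pt.left.Opens :=
    ⟨Points.ofPt s.l ⁻¹' Set.range (Points.map ι),
      (isOpenMap_map_of_representable hι.1 fun T g => by
        haveI : IsOpenImmersion (hι.1.snd g).left := repWith_snd hι g
        exact (hι.1.snd g).left.isOpenEmbedding.isOpenMap).isOpen_range.preimage (Points.continuous_ofPt _)⟩
  have hW₀ : IsCompact (W₀ : Set s.cone.pt.left) := by
    have sq := hι.1.isPullback s.l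
    haveI : IsOpenImmersion (hι.1.snd s.l).left := repWith_snd hι s.l
    haveI : CompactSpace (hι.1.pullback s.l).left := compactSpace_of_isQuasiCompactSp
      ((qcMor_of_qc_source hOsp hXsp hO hXqs ι) (IsAlgSpace.yon_obj _) isQuasiCompactSp_of_compactSpace s.l _ _ sq)
    have e : (W₀ : Set s.cone.pt.left) = Set.range (hι.1.snd s.l).left := by
      show Points.ofPt s.l ⁻¹' Set.range (Points.map ι) = _
      rw [← Set.image_univ, preimage_image_map sq, Set.preimage_univ, Set.image_univ]
    rw [e]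
    exact isCompact_range (hι.1.snd s.l).left.continuous
  obtain ⟨j, V, hV, hVW⟩ := exists_preimage_eq E cE s.isLimit W₀ hW₀
  -- the equivalence relation
  have hP2 := isAlgSpace_of_isPullback (hD i₀).diag (IsAlgSpace.yon_obj U) (IsAlgSpace.yon_obj U)
    (IsPullback.of_hasPullback u u)
  have hP2qc : IsQuasiCompactSp (pullback u u) :=
    qcMor_of_qc_source (IsAlgSpace.yon_obj U) (hD i₀) isQuasiCompactSp_of_compactSpace (hqs i₀) u
      (IsAlgSpace.yon_obj U) isQuasiCompactSp_of_compactSpace u _ _ (IsPullback.of_hasPullback u u)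
  obtain ⟨R, r, hR, -, hrs⟩ := Qs.exists_affine_atlas hP2 hP2qc
  haveI := hR
  obtain ⟨s'⟩ := exists_sys hDa hc (r ≫ pullback.fst u u ≫ u)
  let E' := s'.W ⋙ Over.forget S
  let cE' := (Over.forget S).mapCone s'.cone
  haveI : ∀ j, IsAffine (E'.obj j) := s'.aff
  haveI : ∀ {j k : Over i₀} (f : j ⟶ k), IsAffineHom (E'.map f) := fun f => s'.affineHom f
  let n : ∀ (x : (yon S).obj R ⟶ (yon S).obj U), x ≫ u = r ≫ pullback.fst u u ≫ u → ∀ j : Over i₀,
      ∃ m : s'.W.obj j ⟶ s.W.obj j, (yon S).map m ≫ s.fj j = s'.fj j ∧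
        (yon S).map (m ≫ s.p j) = (yon S).map (s'.p j) ≫ x := fun x hx j => by
    obtain ⟨m, hm⟩ := (yon S).map_surjective
      ((s.sq j).lift (s'.fj j) ((yon S).map (s'.p j) ≫ x) (by rw [Category.assoc, hx]; exact (s'.sq j).w))
    exact ⟨m, by rw [hm, IsPullback.lift_fst], by rw [Functor.map_comp, hm, IsPullback.lift_snd]⟩
  choose m₁ hm₁ hm₁' using n (r ≫ pullback.fst u u) (Category.assoc _ _ _)
  choose m₂ hm₂ hm₂' using n (r ≫ pullback.snd u u) (by rw [Category.assoc, pullback.condition])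
  have hnat : ∀ (x : (yon S).obj R ⟶ (yon S).obj U) (m : ∀ j, s'.W.obj j ⟶ s.W.obj j),
      (∀ j, (yon S).map (m j) ≫ s.fj j = s'.fj j) → (∀ j, (yon S).map (m j ≫ s.p j) = (yon S).map (s'.p j) ≫ x) →
      ∀ {j k : Over i₀} (f : j ⟶ k), m j ≫ s.W.map f = s'.W.map f ≫ m k := by
    intro x m h h' j k f
    refine (yon S).map_injective ((s.sq k).hom_ext ?_ ?_)
    · rw [Functor.map_comp, Functor.map_comp, Category.assoc, Category.assoc, s.map_fj, h, reassoc_of% h,
        s'.map_fj]
    · rw [← Functor.map_comp, ← Functor.map_comp, Category.assoc, Category.assoc, s.map_p, h', Functor.map_comp, h',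
        ← Functor.map_comp_assoc, s'.map_p]
  have htr : ∀ (m : ∀ j, s'.W.obj j ⟶ s.W.obj j), (∀ j, (yon S).map (m j) ≫ s.fj j = s'.fj j) →
      ∀ (x : (yon S).obj R ⟶ (yon S).obj U), x ≫ u = r ≫ pullback.fst u u ≫ u →
      (∀ j, (yon S).map (m j ≫ s.p j) = (yon S).map (s'.p j) ≫ x) →
      (cE'.π.app j) ⁻¹' ((m j).left ⁻¹' (V : Set (E.obj j))) = Points.ofPt s'.l ⁻¹' Set.range (Points.map ι) := by
    intro m h x hx h'
    obtain ⟨mi, hmi⟩ := (yon S).map_surjective
      (s.sql.lift s'.l ((yon S).map s'.q ≫ x) (by rw [Category.assoc, hx]; exact s'.sql.w))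
    have e : s'.cone.π.app j ≫ m j = mi ≫ s.cone.π.app j := (yon S).map_injective ((s.sq j).hom_ext
      (by rw [Functor.map_comp, Functor.map_comp, Category.assoc, Category.assoc, ← s.hl, h, hmi,
            IsPullback.lift_fst_assoc, s'.hl])
      (by rw [← Functor.map_comp, ← Functor.map_comp, Category.assoc, Category.assoc, s.hq, Functor.map_comp,
            h', ← Functor.map_comp_assoc, s'.hq, Functor.map_comp, hmi, IsPullback.lift_snd]))
    ext t
    have ht : (m j).left ((s'.cone.π.app j).left t) = (s.cone.π.app j).left (mi.left t) :=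
      congrArg (fun φ => φ.left t) e
    have hl' : Points.ofPt s'.l t = Points.ofPt s.l (mi.left t) := by
      rw [← ofPt_comp, hmi, IsPullback.lift_fst]
    show (m j).left ((s'.cone.π.app j).left t) ∈ V ↔ Points.ofPt s'.l t ∈ Set.range (Points.map ι)
    rw [ht, hl']
    exact Iff.of_eq (congrArg (mi.left t ∈ ·) hVW)
  haveI := Groth.L19.Limit.spectralSpace_of_isAffine (E'.obj j)
  haveI : IsAffine (s'.W.obj j).left := s'.aff j
  have hlc : ∀ m : s'.W.obj j ⟶ s.W.obj j, Topology.IsLocallyConstructible (m.left ⁻¹' (V : Set (E.obj j))) := fun m => by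
    haveI : IsAffineHom m.left :=
      haveI := s'.aff j; haveI := s.aff j
      isAffineHom_of_isAffine _
    exact ((m.left.isCompact_preimage hV).isConstructible (V.2.preimage m.left.continuous)).isLocallyConstructible
  obtain ⟨k, f, hk⟩ := Groth.L19.Limit.exists_preimage_eq_preimage (c := cE') s'.isLimit (hlc (m₁ j)) (hlc (m₂ j))
    ((htr m₁ hm₁ _ (Category.assoc _ _ _) hm₁').trans
      (htr m₂ hm₂ _ (by rw [Category.assoc, pullback.condition]) hm₂').symm)
  let Vk : (E.obj k).Opens := E.map f ⁻¹ᵁ V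
  have hVk : IsCompact (Vk : Set (E.obj k)) := (E.map f).isCompact_preimage hV
  -- saturation
  let fk := s.fj k
  let mP : pullback fk fk ⟶ pullback u u := pullback.lift (pullback.fst fk fk ≫ (yon S).map (s.p k))
    (pullback.snd fk fk ≫ (yon S).map (s.p k)) (by
      rw [Category.assoc, Category.assoc, ← (s.sq k).w, ← Category.assoc, pullback.condition, Category.assoc])
  have sqP : IsPullback (pullback.fst fk fk ≫ fk) mP (D.map k.hom) (pullback.fst u u ≫ u) := by
    refine IsPullback.paste_horiz ?_ (s.sq k)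
    refine (IsPullback.of_right ?_ (pullback.lift_fst _ _ _) (IsPullback.of_hasPullback u u).flip).flip
    rw [pullback.lift_snd, ← (s.sq k).w]
    exact (IsPullback.of_hasPullback fk fk).flip.paste_horiz (s.sq k).flip
  let κ : (yon S).obj (s'.W.obj k) ⟶ pullback fk fk :=
    pullback.lift ((yon S).map (m₁ k)) ((yon S).map (m₂ k)) ((hm₁ k).trans (hm₂ k).symm)
  have sqκ : IsPullback κ ((yon S).map (s'.p k)) mP r := by
    refine IsPullback.of_right ?_ ?_ sqP
    · rw [pullback.lift_fst_assoc, hm₁]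
      exact s'.sq k
    · apply pullback.hom_ext
      · rw [Category.assoc, pullback.lift_fst, pullback.lift_fst_assoc, Category.assoc, ← Functor.map_comp, hm₁']
      · rw [Category.assoc, pullback.lift_snd, pullback.lift_snd_assoc, Category.assoc, ← Functor.map_comp, hm₂']
  have hκs : RepWith @Surjective κ := repWith_of_isPullback sqκ.flip hrs
  have hsat : ∀ w w' : (E.obj k), Points.ofPt fk w = Points.ofPt fk w' → w ∈ Vk → w' ∈ Vk := by
    intro w w' h hw
    obtain ⟨p, hp, hp'⟩ := exists_of_isPullback (IsPullback.of_hasPullback fk fk)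
      (Points.schemeHomeo _ w) (Points.schemeHomeo _ w')
      (by rw [Points.ofPt_eq_map_ofScheme, Points.ofPt_eq_map_ofScheme] at h; exact h)
    obtain ⟨t, rfl⟩ := surjective_ofPt hκs p
    rw [Points.map_ofPt, pullback.lift_fst] at hp
    rw [Points.map_ofPt, pullback.lift_snd] at hp'
    have e₁ : (m₁ k).left t = w := (Points.schemeHomeo _).injective (hp.symm ▸ (by
      rw [← Points.map_yon_map_apply]; exact (Points.ofPt_eq_map_ofScheme _ _).symm))
    have e₂ : (m₂ k).left t = w' := (Points.schemeHomeo _).injective (hp'.symm ▸ (by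
      rw [← Points.map_yon_map_apply]; exact (Points.ofPt_eq_map_ofScheme _ _).symm))
    have key : ∀ (x : (yon S).obj R ⟶ (yon S).obj U) (m : ∀ j, s'.W.obj j ⟶ s.W.obj j),
      (∀ j, (yon S).map (m j) ≫ s.fj j = s'.fj j) → (∀ j, (yon S).map (m j ≫ s.p j) = (yon S).map (s'.p j) ≫ x) →
      ((m k).left t ∈ Vk ↔ (E'.map f) t ∈ (m j).left ⁻¹' (V : Set (E.obj j))) := fun x m h h' => by
      show (s.W.map f).left ((m k).left t) ∈ V ↔ (m j).left ((s'.W.map f).left t) ∈ V
      rw [← Scheme.Hom.comp_apply, ← Scheme.Hom.comp_apply, ← Over.comp_left, ← Over.comp_left, hnat x m h h' f]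
    rw [← e₂, key _ m₂ hm₂ hm₂']
    rw [← e₁, key _ m₁ hm₁ hm₁'] at hw
    exact (congrArg (t ∈ ·) hk).mp hw
  -- the open subspace
  have hfk : RepWith @Etale fk := repWith_of_isPullback (s.sq k).flip hu
  let Ok : TopologicalSpace.Opens (Points (D.obj k.left)) :=
    ⟨Points.ofPt fk '' (Vk : Set (E.obj k)), isOpenMap_ofPt hfk _ Vk.2⟩
  have hιk := repWith_openSubι Ok
  have hOk : IsQuasiCompactSp (openSub Ok) := by
    refine qcSp_of_compactSpace (isAlgSpace_openSub Ok (hD _)) ⟨?_⟩
    have he := isEmbedding_map_of_immersion (hD k.left)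
      (repWith_mono (fun φ (_ : IsOpenImmersion φ) => inferInstanceAs (IsImmersion φ)) hιk)
    rw [he.1.isInducing.isCompact_iff, Set.image_univ, range_openSubι]
    exact hVk.image (Points.continuous_ofPt _)
  have hrange : ∀ x, Points.map (c.π.app k.left) x ∈ Ok ↔ x ∈ Set.range (Points.map ι) := by
    intro x
    obtain ⟨t, rfl⟩ := surjective_ofPt hls x
    have e : Points.map (c.π.app k.left) (Points.ofPt s.l t) = Points.ofPt fk ((s.cone.π.app k).left t) := by
      rw [Points.map_ofPt, s.hl, ofPt_comp]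
      rfl
    rw [e]
    have hW : (s.cone.π.app k).left t ∈ Vk ↔ Points.ofPt s.l t ∈ Set.range (Points.map ι) := by
      show (s.W.map f).left ((s.cone.π.app k).left t) ∈ V ↔ _
      rw [← Scheme.Hom.comp_apply, ← Over.comp_left, s.cone.w f]
      exact Iff.of_eq (congrArg (t ∈ ·) hVW)
    rw [← hW]
    exact ⟨fun ⟨w, hw, hw'⟩ => hsat w _ hw' hw, fun h => ⟨_, h, rfl⟩⟩
  obtain ⟨q, hq⟩ := (exists_factor_iff hιk (ι ≫ c.π.app k.left)).2 (by
    rintro _ ⟨o, rfl⟩
    rw [range_openSubι, Points.map_comp]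
    exact (hrange _).2 ⟨o, rfl⟩)
  haveI := mono_of_repWith_openImmersion hι
  refine ⟨k.left, openSub Ok, openSubι Ok, q, hιk, hOk, IsPullback.mk' hq.symm
    (fun Z a b h _ => (cancel_mono ι).1 h) fun Z a b hab => ?_⟩
  obtain ⟨l, hl'⟩ := (exists_factor_iff hι a).2 (by
    rintro _ ⟨z, rfl⟩
    rw [← hrange, ← Points.map_comp, hab, Points.map_comp, ← SetLike.mem_coe, ← range_openSubι Ok]
    exact ⟨_, rfl⟩)
  exact ⟨l, hl', (cancel_mono (openSubι Ok)).1 (by rw [Category.assoc, hq, reassoc_of% hl', hab])⟩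

end Groth.L09.SpLimit
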