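import Groth.Agent.L09.SpLimit.Chart
import Groth.Agent.L23.EtaleMono
import Groth.Agent.L23.DiagLfp
import Groth.Agent.L23.OpenSub
import Groth.Agent.L19.Limit.Smooth
import Groth.Agent.L19.Limit.FlatStage
import Groth.Agent.L00.LimSurj

/-!
# Descent of properties of morphisms of spaces along limits
-/

universe u

open CategoryTheory CategoryTheory.Limits AlgebraicGeometry Opposite AlgSp

set_option autoImplicit false
set_option linter.style.haveILetI false
set_option backward.isDefEq.respectTransparency false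
set_option backward.isDefEq.respectTransparency.types false

noncomputable section

namespace Groth.L09.SpLimit

open Groth.L23 Groth.L19.Limit

variable {S : Scheme.{u}} {I : Type u} [SmallCategory I] {D : I ⥤ Sp S} {i₀ : I} {X₀ Y₀ : Sp S}

/-- Every base change of `f₀` to a sufficiently late stage has `R`. -/
def Stage (D : I ⥤ Sp S) {i₀ : I} (f₀ : X₀ ⟶ Y₀) (b₀ : Y₀ ⟶ D.obj i₀) (R : MorphismProperty (Sp S)) : Prop :=
  ∃ j : Over i₀, ∀ (k : Over i₀) (_ : k ⟶ j) (Xi Yi : Sp S) (fi : Xi ⟶ Yi) (pYi : Yi ⟶ Y₀)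
    (qYi : Yi ⟶ D.obj k.left) (_ : IsPullback pYi qYi b₀ (D.map k.hom)) (pXi : Xi ⟶ X₀)
    (_ : IsPullback pXi fi f₀ pYi), R fi

variable {f₀ : X₀ ⟶ Y₀} {b₀ : Y₀ ⟶ D.obj i₀}

theorem Stage.mono {R R' : MorphismProperty (Sp S)} (h : Stage D f₀ b₀ R)
    (hR : ∀ {A B : Sp S} (φ : A ⟶ B), R φ → R' φ) : Stage D f₀ b₀ R' := by
  obtain ⟨j, hj⟩ := h
  exact ⟨j, fun k ψ Xi Yi fi pYi qYi h₁ pXi h₂ => hR _ (hj k ψ Xi Yi fi pYi qYi h₁ pXi h₂)⟩

theorem Stage.and [IsCofiltered I] {R R' : MorphismProperty (Sp S)} (h : Stage D f₀ b₀ R) (h' : Stage D f₀ b₀ R') :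
    Stage D f₀ b₀ (R ⊓ R') := by
  obtain ⟨j, hj⟩ := h
  obtain ⟨j', hj'⟩ := h'
  refine ⟨IsCofiltered.min j j', fun k ψ Xi Yi fi pYi qYi h₁ pXi h₂ => ⟨?_, ?_⟩⟩
  · exact hj k (ψ ≫ IsCofiltered.minToLeft j j') Xi Yi fi pYi qYi h₁ pXi h₂
  · exact hj' k (ψ ≫ IsCofiltered.minToRight j j') Xi Yi fi pYi qYi h₁ pXi h₂

theorem Stage.exists {R : MorphismProperty (Sp S)} (h : Stage D f₀ b₀ R) :
    ∃ (i : I) (φ : i ⟶ i₀), ∀ (Xi Yi : Sp S) (fi : Xi ⟶ Yi) (pYi : Yi ⟶ Y₀) (qYi : Yi ⟶ D.obj i)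
      (_ : IsPullback pYi qYi b₀ (D.map φ)) (pXi : Xi ⟶ X₀) (_ : IsPullback pXi fi f₀ pYi), R fi := by
  obtain ⟨j, hj⟩ := h
  exact ⟨j.left, j.hom, hj j (𝟙 j)⟩

/-- The standing hypotheses. -/
structure Setup (D : I ⥤ Sp S) (c : Cone D) {i₀ : I} (f₀ : X₀ ⟶ Y₀) (b₀ : Y₀ ⟶ D.obj i₀) {X Y : Sp S}
    (f : X ⟶ Y) (pX : X ⟶ X₀) (pY : Y ⟶ Y₀) (qY : Y ⟶ c.pt) : Prop where
  isAlgSpace : ∀ i, IsAlgSpace (D.obj i)
  isAffineMor : ∀ (i j : I) (φ : i ⟶ j), IsAffineMor (D.map φ)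
  isLimit : Nonempty (IsLimit c)
  spX : IsAlgSpace X₀
  spY : IsAlgSpace Y₀
  qcX : IsQuasiCompactSp X₀
  qsX : IsQuasiSeparatedSp X₀
  qcY : IsQuasiCompactSp Y₀
  qsY : IsQuasiSeparatedSp Y₀
  sqY : IsPullback pY qY b₀ (c.π.app i₀)
  sqX : IsPullback pX f f₀ pY

variable [QuasiSeparatedSpace S] [IsCofiltered I] {c : Cone D} {X Y : Sp S} {f : X ⟶ Y} {pX : X ⟶ X₀}
  {pY : Y ⟶ Y₀} {qY : Y ⟶ c.pt}

theorem qcqsfp_of_affine {U T : Scheme.{u}} [IsAffine U] [IsAffine T] (h : U ⟶ T)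
    [LocallyOfFinitePresentation h] : qcqsfp h :=
  ⟨⟨inferInstanceAs (QuasiCompact h), inferInstanceAs (QuasiSeparated h)⟩, inferInstanceAs (LocallyOfFinitePresentation h)⟩

theorem stage_locP' (H : Setup D c f₀ b₀ f pX pY qY) {P Q Q₀ : MorphismProperty Scheme.{u}}
    [Q.IsStableUnderBaseChange] (hP : EtLocal P) (hd : Descends P Q)
    (hQ : ∀ {U T : Scheme.{u}} [IsAffine U] [IsAffine T] (h : U ⟶ T), Q₀ h → Q h)
    (hf₀ : LocP Q₀ f₀) (hf : LocP P f) :
    Stage D f₀ b₀ (LocP P) := by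
  haveI := hP.stable
  obtain ⟨U, T, p, v, h, hU, hT, hv, hvs, hp, hps, w⟩ :=
    exists_affine_chart H.spX H.spY H.qcX H.qcY H.qsY f₀
  haveI := hU; haveI := hT
  let u := v ≫ pullback.fst f₀ p
  have sqP := IsPullback.of_hasPullback f₀ p
  have hu : RepWith @Etale u := repWith_comp hv (repWith_of_isPullback sqP.flip hp)
  have hus : RepWith @Surjective u := repWith_comp hvs (repWith_of_isPullback sqP.flip hps)
  have wu : u ≫ f₀ = (yon S).map h ≫ p := by rw [Category.assoc, pullback.condition, ← w, Category.assoc]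
  obtain ⟨hc⟩ := H.isLimit
  obtain ⟨s⟩ := exists_sys H.isAffineMor hc (p ≫ b₀)
  obtain ⟨b, a, sqb, sqa, wa⟩ := chart_bc H.sqY H.sqX wu s.sql
  obtain ⟨j, hj⟩ := s.descend hd h.left (hQ h.left (hf₀ u p h hu hp wu)) ((pb_iff h s.q).1
    (hf a b (pullback.snd h s.q) (repWith_of_isPullback sqa hu) (repWith_of_isPullback sqb hp) wa))
  refine ⟨j, fun k ψ Xi Yi fi pYi qYi hYi pXi hXi => ?_⟩
  obtain ⟨b', a', sqb', sqa', wa'⟩ := chart_bc hYi hXi wu (s.sq k)
  exact locP_of_chart hP (repWith_of_isPullback sqa' hu) (repWith_of_isPullback sqa' hus)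
    (repWith_of_isPullback sqb' hp) wa' ((pb_iff h (s.p k)).2 (hj k ψ))

theorem stage_locP (H : Setup D c f₀ b₀ f pX pY qY) {P : MorphismProperty Scheme.{u}} (hP : EtLocal P)
    (hd : Descends P qcqsfp.{u}) (hf₀ : LocP @LocallyOfFinitePresentation f₀) (hf : LocP P f) :
    Stage D f₀ b₀ (LocP P) :=
  stage_locP' H hP hd (fun h (_ : LocallyOfFinitePresentation h) => qcqsfp_of_affine h) hf₀ hf

omit [QuasiSeparatedSpace S] in
theorem surjective_scheme_of_points {A B : Over S} (g : A ⟶ B)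
    (hg : Function.Surjective (Points.map ((yon S).map g))) : Surjective g.left :=
  (repWith_yon_map_iff _ _).1 (repWith_surjective_of_map
    ((IsAlgSpace.yon_obj B).representable_from_yon _) hg)

theorem stage_surjective (H : Setup D c f₀ b₀ f pX pY qY) (hf₀ : LocP @LocallyOfFinitePresentation f₀)
    (hf : IsSurjectiveMor f) : Stage D f₀ b₀ IsSurjectiveMor := by
  obtain ⟨U, T, p, v, h, hU, hT, hv, hvs, hp, hps, w⟩ :=
    exists_affine_chart H.spX H.spY H.qcX H.qcY H.qsY f₀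
  haveI := hU; haveI := hT
  let u := v ≫ pullback.fst f₀ p
  have sqP := IsPullback.of_hasPullback f₀ p
  have hu : RepWith @Etale u := repWith_comp hv (repWith_of_isPullback sqP.flip hp)
  have wu : u ≫ f₀ = (yon S).map h ≫ p := by rw [Category.assoc, pullback.condition, ← w, Category.assoc]
  haveI : LocallyOfFinitePresentation h.left := hf₀ u p h hu hp wu
  obtain ⟨hc⟩ := H.isLimit
  obtain ⟨s⟩ := exists_sys H.isAffineMor hc (p ≫ b₀)
  obtain ⟨b, a, sqb, sqa, wa⟩ := chart_bc H.sqY H.sqX wu s.sql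
  have hsurj : Surjective (pullback.snd h s.q).left := by
    refine surjective_scheme_of_points _ ?_
    let n := pullback.snd (pullback.snd f₀ p) ((yon S).map s.q)
    have sqn := IsPullback.of_hasPullback (pullback.snd f₀ p) ((yon S).map s.q)
    have sq₁ : IsPullback (pullback.fst (pullback.snd f₀ p) ((yon S).map s.q) ≫ pullback.fst f₀ p) n f₀
        (b ≫ pY) := sqb.w ▸ sqn.paste_horiz sqP
    let m := H.sqX.lift _ (n ≫ b) (sq₁.w.trans (Category.assoc _ _ _).symm)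
    have sq₂ : IsPullback m n f b :=
      IsPullback.of_right (by rw [H.sqX.lift_fst]; exact sq₁) (H.sqX.lift_snd _ _ _) H.sqX
    have hn : Function.Surjective (Points.map n) := surjective_snd_of_isPullback sq₂ hf
    let k : (yon S).obj (pullback h s.q) ⟶ pullback (pullback.snd f₀ p) ((yon S).map s.q) :=
      sqn.lift ((yon S).map (pullback.fst h s.q) ≫ v) ((yon S).map (pullback.snd h s.q))
        (by rw [Category.assoc, w, ← Functor.map_comp, ← Functor.map_comp, pullback.condition])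
    have hk : k ≫ n = (yon S).map (pullback.snd h s.q) := sqn.lift_snd _ _ _
    have sqk : IsPullback ((yon S).map (pullback.fst h s.q)) k v (pullback.fst (pullback.snd f₀ p) ((yon S).map s.q)) := by
      refine IsPullback.of_bot ?_ (sqn.lift_fst _ _ _).symm sqn
      rw [w, hk]
      exact (IsPullback.of_hasPullback h s.q).map (yon S)
    rw [← hk, show Points.map (k ≫ n) = Points.map n ∘ Points.map k from funext (Points.map_comp k n)]
    exact hn.comp (surjective_snd_of_isPullback sqk (surjective_map_of_repWith hvs))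
  obtain ⟨j, hj⟩ := s.descend Groth.L00.LimSurj.descends_surjective h.left (qcqsfp_of_affine _)
    ((pb_iff h s.q).1 hsurj)
  refine ⟨j, fun k ψ Xi Yi fi pYi qYi hYi pXi hXi => ?_⟩
  obtain ⟨b', a', sqb', sqa', wa'⟩ := chart_bc hYi hXi wu (s.sq k)
  have hsur : Surjective (pullback.snd h (s.p k)).left := (pb_iff h (s.p k)).2 (hj k ψ)
  intro y
  obtain ⟨t, rfl⟩ := surjective_map_of_repWith (repWith_of_isPullback sqb' hps) y
  obtain ⟨z, rfl⟩ := surjective_map_of_repWith (repWith_map hsur) t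
  refine ⟨Points.map a' z, ?_⟩
  rw [← Points.map_comp, wa', Points.map_comp]

theorem stage_etale (H : Setup D c f₀ b₀ f pX pY qY) (hf₀ : LocP @LocallyOfFinitePresentation f₀)
    (hf : LocP @Etale f) : Stage D f₀ b₀ (LocP @Etale) :=
  stage_locP H etLocal_etale descends_etale hf₀ hf

end Groth.L09.SpLimit
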