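import Groth.Agent.L23.RelLim

/-!
# Relatively limit preserving maps as cartesian squares of colimits
-/

universe u

open CategoryTheory CategoryTheory.Limits AlgebraicGeometry Opposite AlgSp

set_option autoImplicit false
set_option backward.isDefEq.respectTransparency.types false
set_option linter.style.haveILetI false

namespace Groth.L09.SpLimit

open Groth.L23.RLim

variable {S : Scheme.{u}} {F G : PSp S}

theorem isRelLimitPreserving_iff_isPullback (a : F ⟶ G) :
    IsRelLimitPreserving a ↔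
      ∀ ⦃I : Type u⦄ [SmallCategory I] [IsCofiltered I] (D : I ⥤ Over S) (c : Cone D),
        IsLimit ((Over.forget S).mapCone c) → (∀ i, IsAffine (D.obj i).left) → IsAffine c.pt.left →
          IsPullback (colimMap (Functor.whiskerLeft D.op a)) (colimit.desc (D.op ⋙ F) (F.mapCocone c.op))
            (colimit.desc (D.op ⋙ G) (G.mapCocone c.op)) (a.app (op c.pt)) := by
  have e₁ : ∀ {I : Type u} [SmallCategory I] (D : I ⥤ Over S) (i : Iᵒᵖ) (x : F.obj (op (D.obj i.unop))),
      colimMap (Functor.whiskerLeft D.op a) (colimit.ι (D.op ⋙ F) i x) =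
        colimit.ι (D.op ⋙ G) i (a.app _ x) := fun D i x =>
    ConcreteCategory.congr_hom (ι_colimMap (Functor.whiskerLeft D.op a) i) x
  have e₂ : ∀ {I : Type u} [SmallCategory I] (D : I ⥤ Over S) (c : Cone D) (P : PSp S) (i : Iᵒᵖ)
      (x : P.obj (op (D.obj i.unop))),
      colimit.desc (D.op ⋙ P) (P.mapCocone c.op) (colimit.ι (D.op ⋙ P) i x) = P.map (c.π.app i.unop).op x :=
    fun D c P i x => ConcreteCategory.congr_hom (colimit.ι_desc (P.mapCocone c.op) i) x
  constructor
  · intro h I _ _ D c hc hD hpt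
    obtain ⟨hl, hs⟩ := of_isRelLimitPreserving h
    rw [Types.isPullback_iff]
    refine ⟨?_, ?_, ?_⟩
    · apply colimit.hom_ext
      intro i
      rw [ι_colimMap_assoc, colimit.ι_desc, colimit.ι_desc_assoc]
      exact (a.naturality (c.π.app i.unop).op).symm
    · rintro ξ η ⟨hξ, hη⟩
      obtain ⟨i, x, rfl⟩ := Types.jointly_surjective' ξ
      obtain ⟨j, y, rfl⟩ := Types.jointly_surjective' η
      rw [e₁, e₁] at hξ
      rw [e₂, e₂] at hη
      obtain ⟨k, f, g, hk⟩ := (Types.FilteredColimit.colimit_eq_iff _).1 hξ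
      have hk' : a.app _ (F.map (D.map f.unop).op x) = a.app _ (F.map (D.map g.unop).op y) := by
        rw [nat, nat]; exact hk
      obtain ⟨l, t, hl'⟩ := hs D c hc hD hpt k.unop _ _ hk'
        (by rw [map₂ F _ _ (c.w f.unop), map₂ F _ _ (c.w g.unop)]; exact hη)
      refine (Types.FilteredColimit.colimit_eq_iff _).2 ⟨op l, f ≫ t.op, g ≫ t.op, ?_⟩
      show F.map (D.map (t ≫ f.unop)).op x = F.map (D.map (t ≫ g.unop)).op y
      rw [← map₂ F _ _ (D.map_comp t f.unop).symm, ← map₂ F _ _ (D.map_comp t g.unop).symm]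
      exact hl'
    · intro ξ x hx
      obtain ⟨i, g, rfl⟩ := Types.jointly_surjective' ξ
      rw [e₂] at hx
      obtain ⟨j, t, xj, h₁, h₂⟩ := hl D c hc hD hpt i.unop g x hx.symm
      refine ⟨colimit.ι (D.op ⋙ F) (op j) xj, ?_, ?_⟩
      · rw [e₁]
        exact ((Types.FilteredColimit.colimit_eq_iff _).2
          ⟨op j, 𝟙 _, t.op, (congr($((D.op ⋙ G).map_id (op j)) (a.app _ xj))).trans h₁⟩)
      · rw [e₂]; exact h₂
  · intro h
    refine isRelLimitPreserving_of ?_ ?_
    · intro I _ _ D c hc hD hpt i g x hx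
      obtain ⟨-, -, hsurj⟩ := (Types.isPullback_iff _ _ _ _).1 (h D c hc hD hpt)
      obtain ⟨ξ, hξ₁, hξ₂⟩ := hsurj (colimit.ι (D.op ⋙ G) (op i) g) x (by rw [e₂]; exact hx.symm)
      obtain ⟨j, xj, rfl⟩ := Types.jointly_surjective' ξ
      rw [e₁] at hξ₁
      rw [e₂] at hξ₂
      obtain ⟨k, f, f', hk⟩ := (Types.FilteredColimit.colimit_eq_iff _).1 hξ₁
      refine ⟨k.unop, f'.unop, F.map (D.map f.unop).op xj, ?_, ?_⟩
      · rw [nat]; exact hk
      · rw [map₂ F _ _ (c.w f.unop)]; exact hξ₂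
    · intro I _ _ D c hc hD hpt i x x' hx hp
      obtain ⟨-, hinj, -⟩ := (Types.isPullback_iff _ _ _ _).1 (h D c hc hD hpt)
      have he : colimit.ι (D.op ⋙ F) (op i) x = colimit.ι (D.op ⋙ F) (op i) x' :=
        hinj _ _ ⟨by rw [e₁, e₁]; exact congrArg _ hx, by rw [e₂, e₂]; exact hp⟩
      obtain ⟨k, f, f', hk⟩ := (Types.FilteredColimit.colimit_eq_iff _).1 he
      obtain ⟨l, w, hw⟩ : ∃ (l : Iᵒᵖ) (w : k ⟶ l), f ≫ w = f' ≫ w :=
        ⟨_, IsFiltered.coeqHom f f', IsFiltered.coeq_condition f f'⟩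
      refine ⟨l.unop, (f ≫ w).unop, ?_⟩
      have := congrArg (fun z => F.map (D.map w.unop).op z) hk
      conv_rhs => rw [hw]
      rw [unop_comp, unop_comp, ← map₂ F _ _ (D.map_comp w.unop f.unop).symm, ← map₂ F _ _ (D.map_comp w.unop f'.unop).symm]
      exact this

end Groth.L09.SpLimit
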