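import Groth.Agent.L19.Limit.Fixed

/-!
# Morphisms of two systems of affine schemes which are closed immersions in the limit
-/

universe u v w

open CategoryTheory CategoryTheory.Limits AlgebraicGeometry

set_option autoImplicit false
set_option linter.style.haveILetI false
set_option linter.unusedSectionVars false
set_option backward.isDefEq.respectTransparency false
set_option backward.isDefEq.respectTransparency.types false

noncomputable section

namespace Groth.L09.SpLimit

/-- Limits commute with fibre products. -/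
def isLimitOfIsPullback {C : Type w} [Category.{v} C] {J : Type u} [Category.{u} J] {P A B T : J ⥤ C}
    {pa : P ⟶ A} {pb : P ⟶ B} {a : A ⟶ T} {b : B ⟶ T} {cP : Cone P} {cA : Cone A} {cB : Cone B} {cT : Cone T}
    (hA : IsLimit cA) (hB : IsLimit cB) (hT : IsLimit cT)
    {qa : cP.pt ⟶ cA.pt} {qb : cP.pt ⟶ cB.pt} {la : cA.pt ⟶ cT.pt} {lb : cB.pt ⟶ cT.pt}
    (sq : ∀ j, IsPullback (pa.app j) (pb.app j) (a.app j) (b.app j)) (sql : IsPullback qa qb la lb)
    (ha : ∀ j, qa ≫ cA.π.app j = cP.π.app j ≫ pa.app j) (hb : ∀ j, qb ≫ cB.π.app j = cP.π.app j ≫ pb.app j)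
    (hla : ∀ j, la ≫ cT.π.app j = cA.π.app j ≫ a.app j) (hlb : ∀ j, lb ≫ cT.π.app j = cB.π.app j ≫ b.app j) :
    IsLimit cP :=
  let sA : Cone P → Cone A := (Cone.postcompose pa).obj
  let sB : Cone P → Cone B := (Cone.postcompose pb).obj
  { lift := fun s => sql.lift (hA.lift (sA s)) (hB.lift (sB s)) (hT.hom_ext fun j => by
      rw [Category.assoc, Category.assoc, hla, hlb, hA.fac_assoc, hB.fac_assoc]
      show (s.π.app j ≫ pa.app j) ≫ a.app j = (s.π.app j ≫ pb.app j) ≫ b.app j
      rw [Category.assoc, Category.assoc, (sq j).w])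
    fac := fun s j => (sq j).hom_ext
      (by rw [Category.assoc, ← ha, ← Category.assoc, sql.lift_fst, hA.fac]; rfl)
      (by rw [Category.assoc, ← hb, ← Category.assoc, sql.lift_snd, hB.fac]; rfl)
    uniq := fun s m hm => sql.hom_ext
      (hA.hom_ext fun j => by
        rw [IsPullback.lift_fst, hA.fac, Category.assoc, ha, ← Category.assoc, hm]; rfl)
      (hB.hom_ext fun j => by
        rw [IsPullback.lift_snd, hB.fac, Category.assoc, hb, ← Category.assoc, hm]; rfl) }

variable {J : Type u} [Category.{u} J] [IsCofiltered J] {M N : J ⥤ Scheme.{u}}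

open Groth.L19.Limit in
theorem exists_isClosedImmersion_app (α : M ⟶ N) {cM : Cone M} {cN : Cone N} (hM : IsLimit cM) (hN : IsLimit cN)
    [∀ j, IsAffine (M.obj j)] [∀ j, IsAffine (N.obj j)] (αl : cM.pt ⟶ cN.pt) [IsClosedImmersion αl]
    (hα : ∀ j, αl ≫ cN.π.app j = cM.π.app j ≫ α.app j)
    (hgen : ∀ {j k : J} (f : j ⟶ k),
      IsClosedImmersion (pullback.lift (M.map f) (α.app j) (α.naturality f) :
        M.obj j ⟶ pullback (α.app k) (N.map f)))
    (i : J) [LocallyOfFiniteType (α.app i)] :
    ∃ (j : J) (_ : j ⟶ i), IsClosedImmersion (α.app j) := by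
  haveI : ∀ {j k : J} (f : j ⟶ k), IsAffineHom (M.map f) := fun f => isAffineHom_of_isAffine _
  haveI : ∀ {j k : J} (f : j ⟶ k), IsAffineHom (N.map f) := fun f => isAffineHom_of_isAffine _
  haveI : IsAffine cM.pt := Scheme.isAffine_of_isLimit cM hM
  haveI : IsAffine cN.pt := Scheme.isAffine_of_isLimit cN hN
  have hnat : ∀ {j k : J} (f : j ⟶ k) (y : Γ(N.obj k, ⊤)),
      (M.map f).appTop ((α.app k).appTop y) = (α.app j).appTop ((N.map f).appTop y) := fun f y => by
    rw [← appTop_apply, ← appTop_apply, α.naturality f]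
  obtain ⟨k, hk⟩ := exists_forall_appTop_mem (D := M) (α.app i) (fun k => (α.app k.left).appTop.hom.range)
    (fun k y => ⟨(N.map k.hom).appTop y, by
      show (α.app k.left).appTop _ = _
      rw [← hnat, ← appTop_apply]⟩)
    (fun {k l} m z hz => by
      obtain ⟨y, rfl⟩ := hz
      exact ⟨(N.map m.left).appTop y, (hnat m.left y).symm⟩)
    (fun x => by
      obtain ⟨y, hy⟩ : ∃ y, αl.appTop y = (cM.π.app i).appTop x :=
        Scheme.Hom.app_surjective _ ⊤ (isAffineOpen_top _) _
      obtain ⟨l, y', hy'⟩ := exists_appTop_π_eq_of_isLimit N cN hN y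
      let o := IsCofiltered.min l i
      obtain ⟨k, m, hm⟩ := exists_app_map_eq_map_of_isLimit M cM hM (i := o) (U := ⊤) isCompact_univ
        ((α.app o).appTop ((N.map (IsCofiltered.minToLeft l i)).appTop y'))
        ((M.map (IsCofiltered.minToRight l i)).appTop x) (by
          show (cM.π.app o).appTop _ = (cM.π.app o).appTop _
          rw [← appTop_apply, ← appTop_apply, ← appTop_apply, cM.w]
          refine Eq.trans ?_ hy
          rw [hy']
          refine Eq.trans ?_ (appTop_apply αl (cN.π.app l) y')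
          rw [← hα o, Category.assoc, cN.w]
          rfl)
      refine ⟨Over.mk (m ≫ IsCofiltered.minToRight l i),
        (N.map m).appTop ((N.map (IsCofiltered.minToLeft l i)).appTop y'), ?_⟩
      show (α.app k).appTop _ = (M.map (m ≫ IsCofiltered.minToRight l i)).appTop x
      rw [M.map_comp, appTop_apply (M.map m), ← hnat]
      exact hm)
  refine ⟨k.left, k.hom, ?_⟩
  let R := (α.app k.left).appTop.hom.range
  let C : Scheme.{u} := Spec (CommRingCat.of R)
  let σ : CommRingCat.of R ⟶ Γ(M.obj k.left, ⊤) := CommRingCat.ofHom R.subtype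
  let ρ : Γ(N.obj k.left, ⊤) ⟶ CommRingCat.of R := CommRingCat.ofHom (α.app k.left).appTop.hom.rangeRestrict
  let ψ : Γ(M.obj i, ⊤) ⟶ CommRingCat.of R := CommRingCat.ofHom ((M.map k.hom).appTop.hom.codRestrict R hk)
  have hρσ : ρ ≫ σ = (α.app k.left).appTop := rfl
  have hψσ : ψ ≫ σ = (M.map k.hom).appTop := rfl
  haveI : Mono σ := ConcreteCategory.mono_of_injective _ Subtype.val_injective
  let ι : C ⟶ N.obj k.left := Spec.map ρ ≫ (N.obj k.left).isoSpec.inv
  let q : M.obj k.left ⟶ C := (M.obj k.left).isoSpec.hom ≫ Spec.map σ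
  let g : C ⟶ M.obj i := Spec.map ψ ≫ (M.obj i).isoSpec.inv
  have hqι : q ≫ ι = α.app k.left := by
    simp only [q, ι, Category.assoc, ← Spec.map_comp_assoc, hρσ, Scheme.isoSpec_inv_naturality, Iso.hom_inv_id_assoc]
  have hqg : q ≫ g = M.map k.hom := by
    simp only [q, g, Category.assoc, ← Spec.map_comp_assoc, hψσ, Scheme.isoSpec_inv_naturality, Iso.hom_inv_id_assoc]
  have hgι : g ≫ α.app i = ι ≫ N.map k.hom := by
    simp only [g, ι, Category.assoc, ← Scheme.isoSpec_inv_naturality, ← Spec.map_comp_assoc]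
    congr 2
    rw [← cancel_mono σ, Category.assoc, Category.assoc, hψσ, hρσ, ← Scheme.Hom.comp_appTop,
      ← Scheme.Hom.comp_appTop, α.naturality]
  haveI : IsClosedImmersion ι := by
    haveI : IsClosedImmersion (Spec.map ρ) :=
      IsClosedImmersion.spec_of_surjective _ (α.app k.left).appTop.hom.rangeRestrict_surjective
    infer_instance
  let lP : C ⟶ pullback (α.app i) (N.map k.hom) := pullback.lift g ι hgι
  haveI : IsClosedImmersion (q ≫ lP) := by
    rw [show q ≫ lP = pullback.lift (M.map k.hom) (α.app k.left) (α.naturality k.hom) by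
      apply pullback.hom_ext <;> simp [lP, hqι, hqg]]
    exact hgen k.hom
  haveI : IsClosedImmersion q := IsClosedImmersion.of_comp q lP
  rw [← hqι]
  infer_instance

end Groth.L09.SpLimit
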