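import Groth.Agent.L09.SpLimit.Affine
import Groth.Agent.L09.SpLimit.TwoSystems

/-!
# A limit is separated only if a stage is
-/

universe u

open CategoryTheory CategoryTheory.Limits AlgebraicGeometry Opposite AlgSp

set_option autoImplicit false
set_option linter.style.haveILetI false
set_option linter.unusedSectionVars false
set_option backward.isDefEq.respectTransparency false
set_option backward.isDefEq.respectTransparency.types false

noncomputable section

namespace Groth.L09.SpLimit

open Groth.L23

variable {S : Scheme.{u}}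

/-- Maps of fibre products over a fixed base inherit properties of the two components. -/
theorem repWith_pullback_map {P : MorphismProperty Scheme.{u}} [P.IsStableUnderBaseChange]
    [P.IsStableUnderComposition] {A B A' B' Y : Sp S} (f : A ⟶ Y) (g : B ⟶ Y) (f' : A' ⟶ Y) (g' : B' ⟶ Y)
    {a : A ⟶ A'} {b : B ⟶ B'} (ha : RepWith P a) (hb : RepWith P b) (wa : a ≫ f' = f) (wb : b ≫ g' = g) :
    RepWith P (pullback.map f g f' g' a b (𝟙 Y) (by rw [Category.comp_id, wa]) (by rw [Category.comp_id, wb])) := by
  let m₁ : pullback f g ⟶ pullback f' g := pullback.map f g f' g a (𝟙 B) (𝟙 Y)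
    (by rw [Category.comp_id, wa]) (by rw [Category.comp_id, Category.id_comp])
  let m₂ : pullback f' g ⟶ pullback f' g' := pullback.map f' g f' g' (𝟙 A') b (𝟙 Y)
    (by rw [Category.comp_id, Category.id_comp]) (by rw [Category.comp_id, wb])
  have sq₁ : IsPullback m₁ (pullback.fst f g) (pullback.fst f' g) a := by
    refine IsPullback.of_right ?_ (pullback.lift_fst _ _ _) (IsPullback.of_hasPullback f' g).flip
    rw [show m₁ ≫ pullback.snd f' g = pullback.snd f g from (pullback.lift_snd _ _ _).trans (Category.comp_id _), wa]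
    exact (IsPullback.of_hasPullback f g).flip
  have sq₂ : IsPullback m₂ (pullback.snd f' g) (pullback.snd f' g') b := by
    refine IsPullback.of_right ?_ (pullback.lift_snd _ _ _) (IsPullback.of_hasPullback f' g')
    rw [show m₂ ≫ pullback.fst f' g' = pullback.fst f' g from (pullback.lift_fst _ _ _).trans (Category.comp_id _), wb]
    exact IsPullback.of_hasPullback _ _
  rw [show pullback.map f g f' g' a b (𝟙 Y) _ _ = m₁ ≫ m₂ by apply pullback.hom_ext <;> simp [m₁, m₂]]
  exact repWith_comp (repWith_of_isPullback sq₁.flip ha) (repWith_of_isPullback sq₂.flip hb)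

section

variable {I : Type u} [SmallCategory I] {D : I ⥤ Sp S} {Y : Sp S}

/-- The self products of a system over a fixed base. -/
def sqSys (t : D ⟶ (Functor.const I).obj Y) : I ⥤ Sp S where
  obj i := pullback (t.app i) (t.app i)
  map {i j} φ := pullback.map _ _ _ _ (D.map φ) (D.map φ) (𝟙 Y) (by simp) (by simp)
  map_id i := by apply pullback.hom_ext <;> simp
  map_comp φ ψ := by apply pullback.hom_ext <;> simp

/-- The self product of a cone. -/
def sqCone (t : D ⟶ (Functor.const I).obj Y) (c : Cone D) (g : c.pt ⟶ Y)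
    (hg : ∀ i, c.π.app i ≫ t.app i = g) : Cone (sqSys t) where
  pt := pullback g g
  π :=
    { app := fun i => pullback.map _ _ _ _ (c.π.app i) (c.π.app i) (𝟙 Y) (by simp [hg]) (by simp [hg])
      naturality := fun i j φ => by apply pullback.hom_ext <;> simp [sqSys] }

/-- Self products commute with limits. -/
def isLimitSqCone [IsConnected I] (t : D ⟶ (Functor.const I).obj Y) {c : Cone D} (hc : IsLimit c) (g : c.pt ⟶ Y)
    (hg : ∀ i, c.π.app i ≫ t.app i = g) : IsLimit (sqCone t c g hg) :=
  isLimitOfIsPullback
    (pa := { app := fun i => pullback.fst (t.app i) (t.app i), naturality := fun i j φ => pullback.lift_fst _ _ _ })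
    (pb := { app := fun i => pullback.snd (t.app i) (t.app i), naturality := fun i j φ => pullback.lift_snd _ _ _ })
    (a := t) (b := t) (qa := pullback.fst g g) (qb := pullback.snd g g) (la := g) (lb := g)
    hc hc (isLimitConstCone I Y) (fun i => IsPullback.of_hasPullback _ _) (IsPullback.of_hasPullback _ _)
    (fun i => (pullback.lift_fst _ _ _).symm) (fun i => (pullback.lift_snd _ _ _).symm)
    (fun i => (Category.comp_id _).trans (hg i).symm) (fun i => (Category.comp_id _).trans (hg i).symm)

end

variable [QuasiSeparatedSpace S] {I : Type u} [SmallCategory I] [IsCofiltered I] {D : I ⥤ Sp S} {c : Cone D}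

theorem eventually_separated (hD : ∀ i, IsAlgSpace (D.obj i))
    (hDa : ∀ (i j : I) (φ : i ⟶ j), IsAffineMor (D.map φ)) (hc : IsLimit c) {Y : Sp S} (hY : IsAlgSpace Y)
    (t : D ⟶ (Functor.const I).obj Y) (g : c.pt ⟶ Y) (hg : ∀ i, c.π.app i ≫ t.app i = g)
    (hqc : ∀ i, IsQuasiCompactSp (D.obj i)) (hqs : ∀ i, IsQuasiSeparatedSp (D.obj i))
    (hYqs : IsQuasiSeparatedSp Y) (hX : IsSeparatedMor g) :
    ∃ i₀ : I, ∀ (i : I) (_ : i ⟶ i₀), IsSeparatedMor (t.app i) := by
  haveI : IsConnected I := IsCofiltered.isConnected I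
  have htn : ∀ {i j : I} (φ : i ⟶ j), D.map φ ≫ t.app j = t.app i := fun φ =>
    (t.naturality φ).trans (Category.comp_id _)
  have hQa : ∀ (i j : I) (φ : i ⟶ j), IsAffineMor ((sqSys t).map φ) := fun i j φ => isAffineMor_iff.2
    (repWith_pullback_map _ _ _ _ (isAffineMor_iff.1 (hDa i j φ)) (isAffineMor_iff.1 (hDa i j φ)) (htn φ) (htn φ))
  have hQsp : ∀ i, IsAlgSpace (pullback (t.app i) (t.app i)) := fun i =>
    isAlgSpace_of_isPullback hY.diag (hD i) (hD i) (IsPullback.of_hasPullback _ _)
  have hQqs : ∀ i, IsQuasiSeparatedSp (pullback (t.app i) (t.app i)) := fun i =>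
    isQuasiSeparatedSp_of_isPullback (IsPullback.of_hasPullback _ _) (hqs i) hYqs (hqs i)
  obtain ⟨i₀⟩ := IsCofiltered.nonempty (C := I)
  -- an affine atlas of the first self product
  have hQqc : IsQuasiCompactSp (pullback (t.app i₀) (t.app i₀)) :=
    qcMor_of_qc_source (hD i₀) hY (hqc i₀) hYqs (t.app i₀) (hD i₀) (hqc i₀) (t.app i₀) _ _ (IsPullback.of_hasPullback _ _)
  obtain ⟨R, r, hR, hr, hrs⟩ := Qs.exists_affine_atlas (hQsp i₀) hQqc
  haveI := hR
  obtain ⟨s⟩ := exists_sys (D := sqSys t) hQa (isLimitSqCone t hc g hg) r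
  haveI : ∀ k, IsAffine (s.W.obj k).left := s.aff
  haveI : IsAffine s.cone.pt.left :=
    haveI : ∀ j, IsAffine ((s.W ⋙ Over.forget S).obj j) := s.aff
    Scheme.isAffine_of_isLimit _ s.isLimit
  -- the pullbacks of the diagonals
  have hd := fun k : Over i₀ => diagonal_properties (hD k.left) (t.app k.left)
  let M : Over i₀ → Over S := fun k => (hd k).1.pullback (s.fj k)
  let v : ∀ k, M k ⟶ s.W.obj k := fun k => (hd k).1.snd (s.fj k)
  let w : ∀ k, (yon S).obj (M k) ⟶ D.obj k.left := fun k => (hd k).1.fst (s.fj k)
  have sqM : ∀ k, IsPullback (w k) ((yon S).map (v k)) (pullback.diagonal (t.app k.left)) (s.fj k) := fun k =>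
    (hd k).1.isPullback (s.fj k)
  have hδ : ∀ {i j : I} (φ : i ⟶ j), D.map φ ≫ pullback.diagonal (t.app j) =
      pullback.diagonal (t.app i) ≫ (sqSys t).map φ := fun φ => by
    apply pullback.hom_ext <;> simp [sqSys]
  have hm : ∀ {j k : Over i₀} (f : j ⟶ k), ∃ m : M j ⟶ M k,
      (yon S).map m ≫ w k = w j ≫ D.map f.left ∧ m ≫ v k = v j ≫ s.W.map f := fun {j k} f => by
    obtain ⟨m, hm⟩ := (yon S).map_surjective ((sqM k).lift (w j ≫ D.map f.left) ((yon S).map (v j ≫ s.W.map f))
      (by rw [Category.assoc, hδ, reassoc_of% (sqM j).w, Functor.map_comp, Category.assoc, s.map_fj]))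
    exact ⟨m, by rw [hm, IsPullback.lift_fst], (yon S).map_injective (by rw [Functor.map_comp, hm, IsPullback.lift_snd])⟩
  choose m hm₁ hm₂ using @hm
  have hext : ∀ {Z : Over S} {k : Over i₀} (x y : Z ⟶ M k),
      (yon S).map x ≫ w k = (yon S).map y ≫ w k → x ≫ v k = y ≫ v k → x = y := fun x y e₁ e₂ =>
    (yon S).map_injective ((sqM _).hom_ext e₁ (by rw [← Functor.map_comp, ← Functor.map_comp, e₂]))
  let MF : Over i₀ ⥤ Over S :=
    { obj := M
      map := fun f => m f
      map_id := fun j => hext _ _ (by rw [hm₁]; simp) (by rw [hm₂]; simp)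
      map_comp := fun f f' => hext _ _
        (by rw [hm₁, Functor.map_comp_assoc, hm₁, reassoc_of% (hm₁ f)]; simp)
        (by rw [hm₂, Category.assoc, hm₂, reassoc_of% (hm₂ f)]; simp) }
  -- the limit
  let Ml := hX.1.pullback s.l
  let vl : Ml ⟶ s.cone.pt := hX.1.snd s.l
  let wl : (yon S).obj Ml ⟶ c.pt := hX.1.fst s.l
  have sql : IsPullback wl ((yon S).map vl) (pullback.diagonal g) s.l := hX.1.isPullback s.l
  have hδl : ∀ i, c.π.app i ≫ pullback.diagonal (t.app i) = pullback.diagonal g ≫ (sqCone t c g hg).π.app i := fun i => by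
    apply pullback.hom_ext <;> simp [sqCone]
  have hn : ∀ k : Over i₀, ∃ n : Ml ⟶ M k,
      (yon S).map n ≫ w k = wl ≫ c.π.app k.left ∧ n ≫ v k = vl ≫ s.cone.π.app k := fun k => by
    obtain ⟨n, hn⟩ := (yon S).map_surjective ((sqM k).lift (wl ≫ c.π.app k.left) ((yon S).map (vl ≫ s.cone.π.app k))
      (by rw [Category.assoc, hδl, reassoc_of% sql.w, Functor.map_comp, Category.assoc, s.hl]))
    exact ⟨n, by rw [hn, IsPullback.lift_fst], (yon S).map_injective (by rw [Functor.map_comp, hn, IsPullback.lift_snd])⟩
  choose n hn₁ hn₂ using hn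
  let cM : Cone MF :=
    { pt := Ml
      π :=
        { app := n
          naturality := fun j k f => hext _ _
            (by
              show (yon S).map (𝟙 Ml ≫ n k) ≫ w k = (yon S).map (n j ≫ m f) ≫ w k
              rw [Category.id_comp, Functor.map_comp, Category.assoc, hm₁, reassoc_of% (hn₁ j), hn₁, c.w])
            (by
              show (𝟙 Ml ≫ n k) ≫ v k = (n j ≫ m f) ≫ v k
              rw [Category.id_comp, Category.assoc, hm₂, reassoc_of% (hn₂ j), hn₂, s.cone.w]) } }
  haveI : IsConnected (Over i₀) := IsCofiltered.isConnected _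
  have hM : IsLimit ((yon S).mapCone cM) :=
    isLimitOfIsPullback
      (A := Over.forget i₀ ⋙ D) (B := s.W ⋙ yon S) (T := Over.forget i₀ ⋙ sqSys t)
      (pa := { app := w, naturality := fun j k f => hm₁ f })
      (pb :=
        { app := fun k => (yon S).map (v k)
          naturality := fun j k f => by
            show (yon S).map (m f) ≫ (yon S).map (v k) = (yon S).map (v j) ≫ (yon S).map (s.W.map f)
            rw [← Functor.map_comp, ← Functor.map_comp, hm₂] })
      (a :=
        { app := fun k => pullback.diagonal (t.app k.left)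
          naturality := fun j k f => hδ f.left })
      (b := { app := s.fj, naturality := fun j k f => s.map_fj f })
      (cA := c.whisker (Over.forget i₀)) (cB := (yon S).mapCone s.cone)
      (cT := (sqCone t c g hg).whisker (Over.forget i₀))
      (qa := wl) (qb := (yon S).map vl) (la := pullback.diagonal g) (lb := s.l)
      ((Functor.Initial.isLimitWhiskerEquiv (Over.forget i₀) c).symm hc)
      (isLimitOfPreserves (yon S) (isLimitOfReflects (Over.forget S) s.isLimit))
      ((Functor.Initial.isLimitWhiskerEquiv (Over.forget i₀) _).symm (isLimitSqCone t hc g hg))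
      sqM sql (fun k => (hn₁ k).symm)
      (fun k => by
        show (yon S).map vl ≫ (yon S).map (s.cone.π.app k) = (yon S).map (n k) ≫ (yon S).map (v k)
        rw [← Functor.map_comp, ← Functor.map_comp, hn₂])
      (fun k => (hδl k.left).symm) s.hl
  have hMs : IsLimit ((Over.forget S).mapCone cM) :=
    isLimitOfPreserves (Over.forget S) (isLimitOfReflects (yon S) hM)
  let Ms := MF ⋙ Over.forget S
  let Ns := s.W ⋙ Over.forget S
  let α : Ms ⟶ Ns :=
    { app := fun k => (v k).left
      naturality := fun j k f => congrArg CommaMorphism.left (hm₂ f) }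
  have hcl : IsClosedImmersion vl.left := repWith_prop hX sql
  -- the relative closedness of the transition maps
  have hgen : ∀ {j k : Over i₀} (f : j ⟶ k), IsClosedImmersion (pullback.lift (Ms.map f) (α.app j) (α.naturality f) :
      Ms.obj j ⟶ pullback (α.app k) (Ns.map f)) := fun {j k} f => by
    have sqP := IsPullback.of_hasPullback (v k) (s.W.map f)
    let e : M j ⟶ pullback (v k) (s.W.map f) := pullback.lift (m f) (v j) (hm₂ f)
    have he₁ : e ≫ pullback.fst _ _ = m f := pullback.lift_fst _ _ _
    have he₂ : e ≫ pullback.snd _ _ = v j := pullback.lift_snd _ _ _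
    let δj := pullback.diagonal (t.app j.left)
    let δk := pullback.diagonal (t.app k.left)
    let Qf := (sqSys t).map f.left
    haveI : Mono δk := inferInstance
    have sqG := IsPullback.of_hasPullback δk Qf
    let l := sqG.lift (D.map f.left) δj (hδ f.left)
    let p₁ := pullback.snd δk Qf ≫ pullback.fst (t.app j.left) (t.app j.left)
    let p₂ := pullback.snd δk Qf ≫ pullback.snd (t.app j.left) (t.app j.left)
    have hp₁ : p₁ ≫ D.map f.left = pullback.fst δk Qf := by
      have := sqG.w =≫ pullback.fst _ _
      simp [δk, Qf, sqSys] at this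
      simp [p₁, Qf, sqSys]
      exact this.symm
    have hp₂ : p₂ ≫ D.map f.left = pullback.fst δk Qf := by
      have := sqG.w =≫ pullback.snd _ _
      simp [δk, Qf, sqSys] at this
      simp [p₂, Qf, sqSys]
      exact this.symm
    have sqp : IsPullback p₁ p₂ (D.map f.left) (D.map f.left) := by
      refine IsPullback.mk' (hp₁.trans hp₂.symm) (fun Z x y h₁ h₂ => ?_) fun Z x y hxy => ?_
      · refine sqG.hom_ext ?_ ?_
        · rw [← hp₁, reassoc_of% h₁]
        · apply pullback.hom_ext
          · simpa [p₁] using h₁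
          · simpa [p₂] using h₂
      · let q := pullback.lift (f := t.app j.left) (g := t.app j.left) x y
          (by rw [← htn f.left, reassoc_of% hxy])
        have hq : (x ≫ D.map f.left) ≫ δk = q ≫ Qf := by
          apply pullback.hom_ext <;> simp [δk, Qf, sqSys, q, hxy]
        exact ⟨sqG.lift _ q hq, by simp [p₁, q], by simp [p₂, q]⟩
    have hl : RepWith @IsClosedImmersion l := by
      have hlp : l ≫ sqp.isoPullback.hom = pullback.diagonal (D.map f.left) := by
        apply pullback.hom_ext <;> simp [l, p₁, p₂, δj]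
      have hsep : IsSeparatedMor (D.map f.left) := (isSeparatedMor_iff (isAffineMor_iff.1 (hDa _ _ _)).1).2
        (repWith_mono (fun φ (_ : IsAffineHom φ) => inferInstanceAs (IsSeparated φ)) (isAffineMor_iff.1 (hDa _ _ _)))
      rw [show l = pullback.diagonal (D.map f.left) ≫ sqp.isoPullback.inv by rw [← hlp, Category.assoc, Iso.hom_inv_id, Category.comp_id]]
      exact repWith_comp hsep (repWith_of_isIso _)
    let γ : (yon S).obj (pullback (v k) (s.W.map f)) ⟶ pullback δk Qf :=
      sqG.lift ((yon S).map (pullback.fst _ _) ≫ w k) ((yon S).map (pullback.snd _ _) ≫ s.fj j) (by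
        rw [Category.assoc, (sqM k).w, ← Functor.map_comp_assoc, pullback.condition, Functor.map_comp,
          Category.assoc, Category.assoc, s.map_fj])
    haveI : Mono (v k) := by
      haveI : Mono ((yon S).map (v k)) := (sqM k).mono_snd_of_mono
      exact (yon S).mono_of_mono_map inferInstance
    haveI : Mono ((yon S).map (pullback.snd (v k) (s.W.map f))) := inferInstance
    have sqe : IsPullback (w j) ((yon S).map e) l γ := by
      refine IsPullback.mk' ?_ (fun Z x y h₁ h₂ => ?_) fun Z x y hxy => ?_
      · apply sqG.hom_ext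
        · simp only [l, γ, Category.assoc, IsPullback.lift_fst]
          rw [← Functor.map_comp_assoc, he₁, hm₁]
        · simp only [l, γ, Category.assoc, IsPullback.lift_snd]
          rw [← Functor.map_comp_assoc, he₂]
          exact (sqM j).w
      · refine (sqM j).hom_ext h₁ ?_
        rw [← he₂, Functor.map_comp, reassoc_of% h₂]
      · have h := hxy =≫ pullback.snd δk Qf
        simp only [l, γ, Category.assoc, IsPullback.lift_snd] at h
        refine ⟨(sqM j).lift x (y ≫ (yon S).map (pullback.snd _ _)) (h.trans (Category.assoc _ _ _).symm),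
          (sqM j).lift_fst _ _ _, ?_⟩
        rw [← cancel_mono ((yon S).map (pullback.snd (v k) (s.W.map f))), Category.assoc, ← Functor.map_comp, he₂,
          IsPullback.lift_snd]
    have hec : IsClosedImmersion e.left := repWith_prop hl sqe
    let θ := (sqP.map (Over.forget S)).isoPullback
    have : pullback.lift (Ms.map f) (α.app j) (α.naturality f) = e.left ≫ θ.hom := by
      apply pullback.hom_ext
      · rw [pullback.lift_fst, Category.assoc]
        exact (congrArg CommaMorphism.left he₁).symm.trans
          (congrArg (e.left ≫ ·) (sqP.map (Over.forget S)).isoPullback_hom_fst.symm)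
      · rw [pullback.lift_snd, Category.assoc]
        exact (congrArg CommaMorphism.left he₂).symm.trans
          (congrArg (e.left ≫ ·) (sqP.map (Over.forget S)).isoPullback_hom_snd.symm)
    rw [this]
    infer_instance
  haveI : ∀ {j k : Over i₀} (f : j ⟶ k), IsAffineHom (Ns.map f) := fun f => s.affineHom f
  haveI : ∀ {j k : Over i₀} (f : j ⟶ k), IsAffineHom (Ms.map f) := fun f => by
    haveI := hgen f
    haveI : IsAffineHom (pullback.fst (α.app _) (Ns.map f)) :=
      MorphismProperty.pullback_fst _ _ (s.affineHom f)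
    rw [← pullback.lift_fst (Ms.map f) (α.app _) (α.naturality f)]
    infer_instance
  -- eventually affine
  let top : Over i₀ := Over.mk (𝟙 i₀)
  have hlft : ∀ k, LocallyOfFiniteType (α.app k) := fun k => (repWith_prop (hd k) (sqM k)).1
  have hmono : ∀ k, Mono (α.app k) := fun k => (repWith_prop (hd k) (sqM k)).2
  haveI : ∀ k, IsAffine (Ns.obj k) := s.aff
  haveI : CompactSpace (Ms.obj top) :=
    compactSpace_of_isQuasiCompactSp
      ((qcMor_of_qc_source (hD _) (hQsp top.left) (hqc _) (hQqs _) (pullback.diagonal (t.app top.left)))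
        (IsAlgSpace.yon_obj _) isQuasiCompactSp_of_compactSpace (s.fj top) _ _ (sqM top))
  haveI := hlft top
  haveI := hmono top
  haveI : QuasiSeparatedSpace (Ms.obj top) :=
    haveI : IsSeparated (α.app top) := diagProp_isSeparated _ ⟨hlft top, hmono top⟩
    quasiSeparatedSpace_of_quasiSeparated (α.app top)
  haveI : QuasiCompact (α.app top) := quasiCompact_of_compactSpace _
  haveI : IsAffineHom (((Over.forget S).mapCone cM).π.app top ≫ α.app top) := by
    show IsAffineHom ((n top).left ≫ (v top).left)
    rw [← Over.comp_left, hn₂, Over.comp_left]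
    haveI : IsAffineHom (s.cone.π.app top).left :=
      haveI : IsAffine (s.W.obj top).left := s.aff top
      haveI : IsAffine (((Functor.const (Over i₀)).obj s.cone.pt).obj top).left := ‹IsAffine s.cone.pt.left›
      isAffineHom_of_isAffine _
    infer_instance
  obtain ⟨j₁, φ₁, hj₁⟩ := Groth.L19.Limit.exists_isAffineHom hMs (i := top) (α.app top)
  haveI : IsAffineHom (Ms.map φ₁ ≫ α.app top) := hj₁
  haveI : IsAffine (Ms.obj j₁) := isAffine_of_isAffineHom (Ms.map φ₁ ≫ α.app top)
  let F := Over.forget j₁
  haveI : ∀ k, IsAffine ((F ⋙ Ms).obj k) := fun k => isAffine_of_isAffineHom (Ms.map k.hom)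
  haveI : ∀ k, IsAffine ((F ⋙ Ns).obj k) := fun k => s.aff k.left
  haveI : LocallyOfFiniteType ((Functor.whiskerLeft F α).app (Over.mk (𝟙 j₁))) := hlft j₁
  haveI : IsClosedImmersion vl.left := hcl
  obtain ⟨j, -, hj⟩ := exists_isClosedImmersion_app (Functor.whiskerLeft F α)
    ((Functor.Initial.isLimitWhiskerEquiv F _).symm hMs) ((Functor.Initial.isLimitWhiskerEquiv F _).symm s.isLimit)
    vl.left (fun k => congrArg CommaMorphism.left (hn₂ k.left).symm) (fun f => hgen f.left) (Over.mk (𝟙 j₁))
  let k := j.left
  haveI : MorphismProperty.IsLocalAtTarget (@IsClosedImmersion : MorphismProperty Scheme.{u}) Scheme.fppfPrecoverage :=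
    isLocalAtTarget_fppf _
  haveI := isLocallySurjective_of_etale (s.fj k) (repWith_of_isPullback (s.sq k).flip hr)
    (repWith_of_isPullback (s.sq k).flip hrs)
  have hsepk : IsSeparatedMor (t.app k.left) := (repWith_iff_of_chart (hd k).1 (sqM k)).2 hj
  refine ⟨k.left, fun i φ => ?_⟩
  rw [← htn φ]
  exact separated_comp ((isSeparatedMor_iff (isAffineMor_iff.1 (hDa _ _ _)).1).2
    (repWith_mono (fun ψ (_ : IsAffineHom ψ) => inferInstanceAs (IsSeparated ψ)) (isAffineMor_iff.1 (hDa _ _ _)))) hsepk

end Groth.L09.SpLimit
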