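import Groth.Agent.L09.LimReduced.Basic
import Groth.Agent.L19.Limit.Core

/-!
# Affine charts of a stage give limits of affine schemes
-/

universe u

open CategoryTheory CategoryTheory.Limits AlgebraicGeometry Opposite AlgSp

set_option autoImplicit false
set_option linter.style.haveILetI false
set_option backward.isDefEq.respectTransparency false
set_option backward.isDefEq.respectTransparency.types false

noncomputable section

namespace Groth.L09.SpLimit

open Groth.L23

variable {S : Scheme.{u}} {I : Type u} [SmallCategory I] {D : I ⥤ Sp S}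

/-- The system of affine schemes over an affine chart of a stage, with its limit. -/
structure Sys (D : I ⥤ Sp S) (c : Cone D) {i₀ : I} {T : Over S} (a : (yon S).obj T ⟶ D.obj i₀) where
  W : Over i₀ ⥤ Over S
  aff : ∀ j, IsAffine (W.obj j).left
  p : ∀ j, W.obj j ⟶ T
  fj : ∀ j, (yon S).obj (W.obj j) ⟶ D.obj j.left
  sq : ∀ j, IsPullback (fj j) ((yon S).map (p j)) (D.map j.hom) a
  map_p : ∀ {j k : Over i₀} (φ : j ⟶ k), W.map φ ≫ p k = p j
  map_fj : ∀ {j k : Over i₀} (φ : j ⟶ k), (yon S).map (W.map φ) ≫ fj k = fj j ≫ D.map φ.left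
  cone : Cone W
  isLimit : IsLimit ((Over.forget S).mapCone cone)
  q : cone.pt ⟶ T
  hq : ∀ j, cone.π.app j ≫ p j = q
  l : (yon S).obj cone.pt ⟶ c.pt
  sql : IsPullback l ((yon S).map q) (c.π.app i₀) a
  hl : ∀ j : Over i₀, l ≫ c.π.app j.left = (yon S).map (cone.π.app j) ≫ fj j

variable [IsCofiltered I]

theorem exists_sys (hDa : ∀ (i j : I) (φ : i ⟶ j), IsAffineMor (D.map φ)) {c : Cone D}
    (hc : IsLimit c) {i₀ : I} {T : Over S} [IsAffine T.left] (a : (yon S).obj T ⟶ D.obj i₀) :
    Nonempty (Sys D c a) := by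
  choose Wj p fj sqj hWj using fun j : Over i₀ => hDa j.left i₀ j.hom (Z := T) inferInstance a
  have hmap : ∀ {j k : Over i₀} (φ : j ⟶ k), ∃ m : Wj j ⟶ Wj k,
      (yon S).map m ≫ fj k = fj j ≫ D.map φ.left ∧ m ≫ p k = p j := by
    intro j k φ
    let n := (sqj k).lift (fj j ≫ D.map φ.left) ((yon S).map (p j))
      (by rw [Category.assoc, ← Functor.map_comp, Over.w φ, (sqj j).w])
    obtain ⟨m, hm⟩ := (yon S).map_surjective n
    refine ⟨m, by rw [hm, IsPullback.lift_fst], (yon S).map_injective ?_⟩
    rw [Functor.map_comp, hm, IsPullback.lift_snd]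
  choose m hm₁ hm₂ using @hmap
  have hext : ∀ {Z : Over S} {k : Over i₀} (x y : Z ⟶ Wj k),
      (yon S).map x ≫ fj k = (yon S).map y ≫ fj k → x ≫ p k = y ≫ p k → x = y := fun x y e₁ e₂ =>
    (yon S).map_injective ((sqj _).hom_ext e₁ (by rw [← Functor.map_comp, ← Functor.map_comp, e₂]))
  let W : Over i₀ ⥤ Over S :=
    { obj := Wj
      map := fun φ => m φ
      map_id := fun j => hext _ _ (by rw [hm₁]; simp) (by rw [hm₂]; simp)
      map_comp := fun φ ψ => hext _ _
        (by rw [hm₁, Functor.map_comp_assoc, hm₁, reassoc_of% (hm₁ φ)]; simp)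
        (by rw [hm₂, Category.assoc, hm₂, hm₂]) }
  haveI : ∀ j, IsAffine ((W ⋙ Over.forget S).obj j) := hWj
  obtain ⟨cs, ⟨hcs⟩⟩ := LimReduced.exists_limit_affine (W ⋙ Over.forget S)
  let top : Over i₀ := Over.mk (𝟙 i₀)
  let pt : Over S := Over.mk (cs.π.app top ≫ (W.obj top).hom)
  let cW : Cone W :=
    { pt := pt
      π :=
        { app := fun j => Over.homMk (cs.π.app j) (by
            have w := cs.w (Over.homMk j.hom : j ⟶ top)
            change cs.π.app j ≫ (Wj j).hom = cs.π.app top ≫ (Wj top).hom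
            rw [← w]
            exact ((Category.assoc _ _ _).trans (congrArg (cs.π.app j ≫ ·) (Over.w (m (Over.homMk j.hom : j ⟶ top))))).symm)
          naturality := fun j k φ => Over.OverMorphism.ext (cs.π.naturality φ) } }
  have hcW' : IsLimit ((Over.forget S).mapCone cW) :=
    hcs.ofIsoLimit (Cone.ext (Iso.refl _) (fun j => (Category.id_comp _).symm))
  haveI : IsConnected (Over i₀) := IsCofiltered.isConnected _
  have hcW : IsLimit cW := isLimitOfReflects (Over.forget S) hcW'
  have hY : IsLimit ((yon S).mapCone cW) := isLimitOfPreserves (yon S) hcW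
  have hc' : IsLimit (c.whisker (Over.forget i₀)) :=
    (Functor.Initial.isLimitWhiskerEquiv (Over.forget i₀) c).symm hc
  let cD : Cone (Over.forget i₀ ⋙ D) :=
    { pt := (yon S).obj pt
      π :=
        { app := fun j => (yon S).map (cW.π.app j) ≫ fj j
          naturality := fun j k φ => by
            have w := cW.w φ
            simp only [Functor.const_obj_obj, Functor.const_obj_map, Category.id_comp]
            rw [← w, Functor.map_comp_assoc]
            exact (congrArg (_ ≫ ·) (hm₁ φ)).trans (Category.assoc _ _ _).symm } }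
  let q : pt ⟶ T := cW.π.app top ≫ p top
  have hq : ∀ j, cW.π.app j ≫ p j = q := fun j => by
    show _ = cW.π.app top ≫ p top
    rw [← cW.w (Over.homMk j.hom : j ⟶ top), Category.assoc]
    exact congrArg (_ ≫ ·) (hm₂ _).symm
  let l : (yon S).obj pt ⟶ c.pt := hc'.lift cD
  have hl : ∀ j : Over i₀, l ≫ c.π.app j.left = (yon S).map (cW.π.app j) ≫ fj j := fun j => hc'.fac cD j
  refine ⟨⟨W, hWj, p, fj, sqj, fun φ => hm₂ φ, fun φ => hm₁ φ, cW, hcW', q, hq, l, IsPullback.mk' ?_ ?_ ?_, hl⟩⟩
  · have w := hl top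
    change l ≫ c.π.app i₀ = _ at w
    rw [w, Functor.map_comp, Category.assoc, ← (sqj top).w]
    simp [top]
  · intro Z x y e₁ e₂
    refine hY.hom_ext fun j => (sqj j).hom_ext ?_ ?_
    · simpa [← hl] using e₁ =≫ c.π.app j.left
    · simpa [← Functor.map_comp, hq] using e₂
  · intro Z u v huv
    have hu : ∀ j : Over i₀, (u ≫ c.π.app j.left) ≫ D.map j.hom = v ≫ a := fun j => by
      rw [Category.assoc, c.w]; exact huv
    let cZ : Cone (W ⋙ yon S) :=
      { pt := Z
        π :=
          { app := fun j => (sqj j).lift (u ≫ c.π.app j.left) v (hu j)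
            naturality := fun j k φ => by
              apply (sqj k).hom_ext
              · simp only [Functor.const_obj_map, Functor.comp_map, Category.assoc, IsPullback.lift_fst,
                  Category.id_comp, hm₁ φ, W, IsPullback.lift_fst_assoc, c.w]
                exact Category.id_comp _
              · simp only [Functor.const_obj_map, Functor.comp_map, Category.assoc, IsPullback.lift_snd,
                  Category.id_comp, ← Functor.map_comp, hm₂ φ, W]
                exact Category.id_comp _ } }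
    refine ⟨hY.lift cZ, hc'.hom_ext fun j => ?_, ?_⟩
    · show (_ ≫ l) ≫ c.π.app j.left = u ≫ c.π.app j.left
      rw [Category.assoc, hl]
      exact (reassoc_of% (hY.fac cZ j)) (fj j) |>.trans (IsPullback.lift_fst _ _ _ _)
    · rw [← hq top, Functor.map_comp]
      exact ((reassoc_of% (hY.fac cZ top)) ((yon S).map (p top))).trans (IsPullback.lift_snd _ _ _ _)

open Groth.L19.Limit in
/-- Descent of properties of morphisms of schemes to the affine chart systems. -/
theorem Sys.descend {c : Cone D} {i₀ : I} {T : Over S} [IsAffine T.left] {a : (yon S).obj T ⟶ D.obj i₀}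
    (s : Sys D c a) {P Q : MorphismProperty Scheme.{u}} [P.IsStableUnderBaseChange]
    [Q.IsStableUnderBaseChange] (hd : Descends P Q) {U : Scheme.{u}} (h : U ⟶ T.left) (hQ : Q h)
    (hP : Pb P h s.q.left) :
    ∃ j : Over i₀, ∀ (k : Over i₀) (_ : k ⟶ j), Pb P h (s.p k).left := by
  let F : Over i₀ ⥤ Scheme.{u} := s.W ⋙ Over.forget S
  haveI : ∀ j, IsAffine (F.obj j) := s.aff
  let top : Over i₀ := Over.mk (𝟙 i₀)
  let w : F.obj top ⟶ T.left := (s.p top).left
  obtain ⟨j, φ, hj⟩ := hd (D := F) s.isLimit (i := top) (pullback.snd h w)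
    (MorphismProperty.pullback_snd h w hQ) ((pb_snd_iff w _).mpr (by
      show Pb P h ((s.cone.π.app top).left ≫ (s.p top).left)
      rw [← Over.comp_left, s.hq]
      exact hP))
  refine ⟨j, fun k ψ => ?_⟩
  have h' := (pb_snd_iff w _).mp hj
  rw [← s.map_p ψ, Over.comp_left]
  refine pb_comp _ ?_
  rw [← s.map_p φ, Over.comp_left]
  exact h'

end Groth.L09.SpLimit
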